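import Cfsg.Agent.Lib.Helper7.GolayWeights

set_option autoImplicit false

namespace Cfsg.Agent.Lib.Helper7

open Cfsg

theorem card_golayPt : Fintype.card GolayPt = 24 := by
  simp [GolayPt, Fintype.card_option, ZMod.card]

theorem four_dvd_sq_sub_mod (q : ℤ) : (4 : ℤ) ∣ q ^ 2 - q % 2 := by
  obtain ⟨a, rfl | rfl⟩ := Int.even_or_odd' q
  · have : (2 * a) % 2 = 0 := by omega
    rw [this]
    exact ⟨a ^ 2, by ring⟩
  · have : (2 * a + 1) % 2 = 1 := by omega
    rw [this]
    exact ⟨a ^ 2 + a, by ring⟩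

/-- the weight of the halved word is divisible by four -/
theorem four_dvd_sum_mod {x : GolayPt → ℤ} {m : ℤ} (h3 : halfWord x m ∈ golayCode) :
    (4 : ℤ) ∣ ∑ i, ((x i - m) / 2) % 2 := by
  have hS : support₂ (halfWord x m) ∈ supports (golayCode : Set (GolayPt → ZMod 2)) :=
    ⟨_, h3, rfl⟩
  have hcard := card_of_mem_supports hS
  have hsum : (∑ i, ((x i - m) / 2) % 2) = ((support₂ (halfWord x m)).card : ℤ) := by
    have : ∀ i, ((x i - m) / 2) % 2 = if ((x i - m) / 2) % 2 = 1 then 1 else 0 := by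
      intro i
      split <;> omega
    rw [Finset.sum_congr rfl (fun i _ => this i), Finset.sum_boole]
    congr 2
    ext i
    rw [mem_support₂, halfWord, intCast_zmod2_ne_zero_iff]
    simp
  rw [hsum]
  rcases hcard with h | h | h | h | h <;> rw [h] <;> norm_num

theorem sqNorm_dvd_of_mem_leechSet {x : GolayPt → ℤ} (hx : x ∈ leechSet) : (16 : ℤ) ∣ sqNorm x := by
  rw [mem_leechSet_iff] at hx
  obtain ⟨m, h1, h2, h3⟩ := hx
  obtain ⟨q, hqdef⟩ : ∃ q : GolayPt → ℤ, ∀ i, q i = (x i - m) / 2 := ⟨_, fun _ => rfl⟩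
  have hq : ∀ i, x i = m + 2 * q i := by
    intro i
    have := h1 i
    rw [hqdef]
    unfold Int.ModEq at this
    omega
  have hsumx : ∑ i, x i = 24 * m + 2 * ∑ i, q i := by
    rw [Finset.sum_congr rfl (fun i _ => hq i), Finset.sum_add_distrib, ← Finset.mul_sum,
      Finset.sum_const, Finset.card_univ, card_golayPt, nsmul_eq_mul]
    norm_num
  have hsq : sqNorm x = 24 * m ^ 2 + 4 * m * ∑ i, q i + 4 * ∑ i, q i ^ 2 := by
    unfold sqNorm
    have : ∀ i, x i ^ 2 = m ^ 2 + 4 * m * q i + 4 * q i ^ 2 := by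
      intro i
      rw [hq i]
      ring
    rw [Finset.sum_congr rfl (fun i _ => this i), Finset.sum_add_distrib, Finset.sum_add_distrib,
      ← Finset.mul_sum, ← Finset.mul_sum, Finset.sum_const, Finset.card_univ, card_golayPt,
      nsmul_eq_mul]
    norm_num
  have h4 : (4 : ℤ) ∣ ∑ i, q i ^ 2 := by
    have hd : (4 : ℤ) ∣ ∑ i, (q i ^ 2 - q i % 2) := Finset.dvd_sum fun i _ => four_dvd_sq_sub_mod _
    rw [Finset.sum_sub_distrib] at hd
    have h5 := four_dvd_sum_mod h3
    rw [Finset.sum_congr rfl (fun i _ => by rw [← hqdef i])] at h5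
    have h6 := dvd_add hd h5
    rwa [sub_add_cancel] at h6
  obtain ⟨l, hl⟩ := h4
  rw [hsumx] at h2
  unfold Int.ModEq at h2
  have h7 : ∃ k, ∑ i, q i = 2 * m + 4 * k := ⟨(∑ i, q i - 2 * m) / 4, by omega⟩
  obtain ⟨k, hk⟩ := h7
  rw [hsq, hk, hl]
  exact ⟨2 * m ^ 2 + m * k + l, by ring⟩

end Cfsg.Agent.Lib.Helper7

namespace Cfsg.Agent.Lib.Helper7

open Cfsg

theorem two_dvd_sq_sub (z : ℤ) : (2 : ℤ) ∣ z ^ 2 - z := by
  obtain ⟨a, rfl | rfl⟩ := Int.even_or_odd' z
  · exact ⟨2 * a ^ 2 - a, by ring⟩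
  · exact ⟨2 * a ^ 2 + a, by ring⟩

theorem sqNorm_ge_of_mem_leechSet {x : GolayPt → ℤ} (hx : x ∈ leechSet) (h0 : x ≠ 0) :
    32 ≤ sqNorm x := by
  have h16 := sqNorm_dvd_of_mem_leechSet hx
  obtain ⟨m, h1, h2, h3⟩ := hx
  have hnn : ∀ i, 0 ≤ x i ^ 2 := fun i => sq_nonneg _
  rcases Int.even_or_odd m with hm | hm
  · -- all coordinates even
    have hev : ∀ i, x i % 2 = 0 := by
      intro i
      have := h1 i
      obtain ⟨a, ha⟩ := hm
      unfold Int.ModEq at this
      omega
    have hA := h3 2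
    have hcard := card_of_mem_supports hA
    by_cases hA0 : (Finset.univ.filter fun i => x i ≡ 2 [ZMOD 4]).card = 0
    · -- all coordinates divisible by four
      rw [Finset.card_eq_zero, Finset.filter_eq_empty_iff] at hA0
      have h4 : ∀ i, x i % 4 = 0 := by
        intro i
        have := hA0 (Finset.mem_univ i)
        have := hev i
        unfold Int.ModEq at *
        omega
      obtain ⟨z, hzdef⟩ : ∃ z : GolayPt → ℤ, ∀ i, z i = x i / 4 := ⟨_, fun _ => rfl⟩
      have hz : ∀ i, x i = 4 * z i := by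
        intro i
        have := h4 i
        rw [hzdef]
        omega
      have hsq : sqNorm x = 16 * ∑ i, z i ^ 2 := by
        unfold sqNorm
        rw [Finset.mul_sum]
        apply Finset.sum_congr rfl
        intro i _
        rw [hz i]; ring
      have hsum : ∑ i, x i = 4 * ∑ i, z i := by
        rw [Finset.mul_sum]
        exact Finset.sum_congr rfl fun i _ => hz i
      have hzev : (2 : ℤ) ∣ ∑ i, z i := by
        rw [hsum] at h2
        obtain ⟨a, ha⟩ := hm
        unfold Int.ModEq at h2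
        omega
      have hz2 : (2 : ℤ) ∣ ∑ i, z i ^ 2 := by
        have hd : (2 : ℤ) ∣ ∑ i, (z i ^ 2 - z i) := Finset.dvd_sum fun i _ => two_dvd_sq_sub _
        rw [Finset.sum_sub_distrib] at hd
        have := dvd_add hd hzev
        rwa [sub_add_cancel] at this
      have hpos : 0 < ∑ i, z i ^ 2 := by
        have hne : ∃ j, x j ≠ 0 := by
          by_contra hcon
          simp only [not_exists, not_not] at hcon
          exact h0 (funext hcon)
        obtain ⟨j, hj⟩ := hne
        have hzj : z j ≠ 0 := by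
          intro h
          apply hj
          rw [hz j, h]; ring
        have : 0 < z j ^ 2 := by positivity
        calc 0 < z j ^ 2 := this
          _ ≤ ∑ i, z i ^ 2 :=
            Finset.single_le_sum (f := fun i => z i ^ 2) (fun i _ => sq_nonneg _)
              (Finset.mem_univ j)
      rw [hsq]
      obtain ⟨l, hl⟩ := hz2
      rw [hl] at hpos ⊢
      omega
    · -- at least eight coordinates congruent to 2 mod 4
      have h8 : 8 ≤ (Finset.univ.filter fun i => x i ≡ 2 [ZMOD 4]).card := by omega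
      have hge : ∀ i ∈ Finset.univ.filter fun i => x i ≡ 2 [ZMOD 4], (4 : ℤ) ≤ x i ^ 2 := by
        intro i hi
        rw [Finset.mem_filter] at hi
        have h2' := hi.2
        unfold Int.ModEq at h2'
        have : 2 ≤ |x i| := by
          rw [le_abs]
          omega
        calc (4 : ℤ) = 2 ^ 2 := by norm_num
          _ ≤ |x i| ^ 2 := by gcongr
          _ = x i ^ 2 := sq_abs _
      calc (32 : ℤ) ≤ 4 * (Finset.univ.filter fun i => x i ≡ 2 [ZMOD 4]).card := by
              have : (8 : ℤ) ≤ (Finset.univ.filter fun i => x i ≡ 2 [ZMOD 4]).card := by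
                exact_mod_cast h8
              omega
        _ = ∑ i ∈ Finset.univ.filter fun i => x i ≡ 2 [ZMOD 4], (4 : ℤ) := by
              rw [Finset.sum_const, nsmul_eq_mul]; ring
        _ ≤ ∑ i ∈ Finset.univ.filter fun i => x i ≡ 2 [ZMOD 4], x i ^ 2 :=
              Finset.sum_le_sum hge
        _ ≤ ∑ i, x i ^ 2 :=
              Finset.sum_le_sum_of_subset_of_nonneg (Finset.filter_subset _ _)
                (fun i _ _ => hnn i)
  · -- all coordinates odd
    have hodd : ∀ i, x i % 2 = 1 := by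
      intro i
      have := h1 i
      obtain ⟨a, ha⟩ := hm
      unfold Int.ModEq at this
      omega
    have hge : ∀ i ∈ (Finset.univ : Finset GolayPt), (1 : ℤ) ≤ x i ^ 2 := by
      intro i _
      have hne : x i ≠ 0 := by
        intro h
        have := hodd i
        rw [h] at this
        omega
      have : 0 < x i ^ 2 := by positivity
      omega
    have h24 : (24 : ℤ) ≤ sqNorm x := by
      unfold sqNorm
      calc (24 : ℤ) = ∑ _i : GolayPt, (1 : ℤ) := by
              rw [Finset.sum_const, Finset.card_univ, card_golayPt]; norm_num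
        _ ≤ ∑ i, x i ^ 2 := Finset.sum_le_sum hge
    obtain ⟨l, hl⟩ := h16
    omega

end Cfsg.Agent.Lib.Helper7
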