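import Cfsg.Agent.Lib.Helper7.M24Order

set_option autoImplicit false

namespace Cfsg.Agent.Lib.Helper7

open Cfsg
open scoped Pointwise

section general

variable {G X : Type*} [Group G] [MulAction G X]

theorem conj_mem_iff (K : Subgroup G) {σ : G} (hσ : σ ∈ K) (h : G) :
    σ⁻¹ * h * σ ∈ K ↔ h ∈ K := by
  constructor
  · intro hh
    have : h = σ * (σ⁻¹ * h * σ) * σ⁻¹ := by group
    rw [this]
    exact K.mul_mem (K.mul_mem hσ hh) (K.inv_mem hσ)
  · intro hh
    exact K.mul_mem (K.mul_mem (K.inv_mem hσ) hh) hσ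

theorem conj_smul_iff (σ h : G) (x : X) : (σ⁻¹ * h * σ) • x = x ↔ h • σ • x = σ • x := by
  rw [mul_smul, mul_smul, inv_smul_eq_iff]

theorem card_inf_stabilizer_smul (K : Subgroup G) {σ : G} (hσ : σ ∈ K) (x : X) :
    Nat.card ↥(K ⊓ MulAction.stabilizer G (σ • x)) = Nat.card ↥(K ⊓ MulAction.stabilizer G x) := by
  apply Nat.card_congr
  refine Equiv.subtypeEquiv (MulAut.conj σ⁻¹).toEquiv ?_
  intro h
  simp only [Subgroup.mem_inf, MulAction.mem_stabilizer_iff, MulEquiv.toEquiv_eq_coe,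
    MulEquiv.coe_toEquiv, MulAut.conj_apply, inv_inv, conj_mem_iff K hσ, conj_smul_iff]

theorem card_inf_stabilizer_smul₂ (K : Subgroup G) {σ : G} (hσ : σ ∈ K) (x y : X) :
    Nat.card ↥(K ⊓ MulAction.stabilizer G (σ • x) ⊓ MulAction.stabilizer G (σ • y)) =
      Nat.card ↥(K ⊓ MulAction.stabilizer G x ⊓ MulAction.stabilizer G y) := by
  apply Nat.card_congr
  refine Equiv.subtypeEquiv (MulAut.conj σ⁻¹).toEquiv ?_
  intro h
  simp only [Subgroup.mem_inf, MulAction.mem_stabilizer_iff, MulEquiv.toEquiv_eq_coe,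
    MulEquiv.coe_toEquiv, MulAut.conj_apply, inv_inv, conj_mem_iff K hσ, conj_smul_iff]

theorem card_stabilizer_subgroup₂ (K : Subgroup G) (x y : X) :
    Nat.card ↥(MulAction.stabilizer K x ⊓ MulAction.stabilizer K y) =
      Nat.card ↥(K ⊓ MulAction.stabilizer G x ⊓ MulAction.stabilizer G y) := by
  apply Nat.card_congr
  refine ⟨fun g => ⟨g.1.1, ⟨⟨g.1.2, ?_⟩, ?_⟩⟩, fun g => ⟨⟨g.1, g.2.1.1⟩, ⟨?_, ?_⟩⟩,
    fun g => rfl, fun g => rfl⟩
  · have h : g.1 ∈ MulAction.stabilizer K x := g.2.1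
    rw [MulAction.mem_stabilizer_iff] at h
    show g.1.1 ∈ MulAction.stabilizer G x
    rw [MulAction.mem_stabilizer_iff]
    exact h
  · have h : g.1 ∈ MulAction.stabilizer K y := g.2.2
    rw [MulAction.mem_stabilizer_iff] at h
    show g.1.1 ∈ MulAction.stabilizer G y
    rw [MulAction.mem_stabilizer_iff]
    exact h
  · have h : g.1 ∈ MulAction.stabilizer G x := g.2.1.2
    rw [MulAction.mem_stabilizer_iff] at h
    show (⟨g.1, g.2.1.1⟩ : K) ∈ MulAction.stabilizer K x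
    rw [MulAction.mem_stabilizer_iff]
    exact h
  · have h : g.1 ∈ MulAction.stabilizer G y := g.2.2
    rw [MulAction.mem_stabilizer_iff] at h
    show (⟨g.1, g.2.1.1⟩ : K) ∈ MulAction.stabilizer K y
    rw [MulAction.mem_stabilizer_iff]
    exact h

end general

/-- transitivity on points -/
theorem exists_M24_map_zero (p : GolayPt) : ∃ σ ∈ M24, σ (pt 0) = p := by
  have h := chain_lower [] 0 chainTr0 (by decide +kernel) (by decide +kernel) (by decide +kernel)
    (idx p) (by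
      have : ∀ s < 24, s ∈ chainTr0.map Prod.fst := by decide +kernel
      exact this _ (idx_lt p))
  obtain ⟨σ, hσ, h1⟩ := h
  exact ⟨σ, hσ, by rw [h1, pt_idx]⟩

theorem exists_fixK0_map_one (q : GolayPt) (hq : q ≠ pt 0) : ∃ σ ∈ fixK [0], σ (pt 1) = q := by
  have hne : idx q ≠ 0 := by
    intro h
    apply hq
    rw [← pt_idx q, h]
  have h := chain_lower [0] 1 chainTr1 (by decide +kernel) (by decide +kernel) (by decide +kernel)
    (idx q) (by
      have : ∀ s < 24, s ≠ 0 → s ∈ chainTr1.map Prod.fst := by decide +kernel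
      exact this _ (idx_lt q) hne)
  obtain ⟨σ, hσ, h1⟩ := h
  exact ⟨σ, hσ, by rw [h1, pt_idx]⟩

/-- two-transitivity on points -/
theorem exists_M24_map_zero_one (p q : GolayPt) (hpq : p ≠ q) :
    ∃ σ ∈ M24, σ (pt 0) = p ∧ σ (pt 1) = q := by
  obtain ⟨τ, hτ, h1⟩ := exists_M24_map_zero p
  have hne : τ⁻¹ q ≠ pt 0 := by
    intro h
    apply hpq
    rw [← h1, ← h]
    simp
  obtain ⟨ρ, hρ, h2⟩ := exists_fixK0_map_one _ hne
  rw [mem_fixK] at hρ
  refine ⟨τ * ρ, M24.mul_mem hτ hρ.1, ?_, ?_⟩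
  · rw [Equiv.Perm.mul_apply, hρ.2 0 List.mem_cons_self, h1]
  · rw [Equiv.Perm.mul_apply, h2]
    simp

end Cfsg.Agent.Lib.Helper7
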