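import Cfsg.Agent.Lib.Helper7.M12Trans
import Cfsg.Agent.Lib.Helper7.M24Trans

set_option autoImplicit false

namespace Cfsg.Agent.Lib.Helper7

open Cfsg
open scoped Pointwise

theorem fixIn_M24 (l : List ℕ) : fixIn M24 l = fixK l := by
  induction l with
  | nil => rfl
  | cons b l ih =>
    show fixIn M24 l ⊓ _ = fixK l ⊓ _
    rw [ih]

theorem m24_lower_point (l : List ℕ) (j : ℕ) (tr : List (ℕ × ℕ)) (hmem : (l, j, tr) ∈ chainLevels)
    (hl : ∀ b ∈ l, b < 24) (hj : j < 24) (z : GolayPt) (hz : idx z ∈ tr.map Prod.fst) :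
    ∃ τ ∈ fixIn M24 l, τ (pt j) = z := by
  obtain ⟨τ, hτ, h⟩ := chain_lower l j tr hmem hl hj _ hz
  rw [pt_idx] at h
  rw [fixIn_M24]
  exact ⟨τ, hτ, h⟩

/-- the group of the code is 4-transitive (in index form) -/
theorem m24_four_trans (y : ℕ → GolayPt)
    (hinj : ∀ i < 4, ∀ j < 4, y i = y j → i = j) :
    ∃ σ ∈ M24, ∀ i < 4, σ (pt (([0, 1, 2, 3] : List ℕ).getD i 0)) = y i := by
  refine chain_multi_trans M24 Finset.univ (fun _ _ _ _ => Finset.mem_univ _)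
    [0, 1, 2, 3] ?_ y (fun _ _ => Finset.mem_univ _) hinj 4 (le_refl _)
  intro i hi z _ hne
  have hi4 : i < 4 := hi
  interval_cases i
  · exact m24_lower_point [] 0 chainTr0 (by decide +kernel) (by decide +kernel) (by decide +kernel) z
      ((by decide +kernel : ∀ s < 24, s ∈ chainTr0.map Prod.fst) _ (idx_lt z))
  · have h0 := (ne_pt_iff z 0 (by norm_num)).1 (hne 0 (by simp))
    exact m24_lower_point [0] 1 chainTr1 (by decide +kernel) (by decide +kernel) (by decide +kernel) z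
      ((by decide +kernel : ∀ s < 24, s ≠ 0 → s ∈ chainTr1.map Prod.fst) _ (idx_lt z) h0)
  · have h0 := (ne_pt_iff z 0 (by norm_num)).1 (hne 0 (by simp))
    have h1 := (ne_pt_iff z 1 (by norm_num)).1 (hne 1 (by simp))
    rw [fixIn_congr _ (List.take 2 [0, 1, 2, 3]) [1, 0] (by simp; omega)]
    exact m24_lower_point [1, 0] 2 chainTr2 (by decide +kernel) (by decide +kernel)
      (by decide +kernel) z
      ((by decide +kernel : ∀ s < 24, (s ≠ 0 ∧ s ≠ 1) →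
        s ∈ chainTr2.map Prod.fst) _ (idx_lt z) ⟨h0, h1⟩)
  · have h0 := (ne_pt_iff z 0 (by norm_num)).1 (hne 0 (by simp))
    have h1 := (ne_pt_iff z 1 (by norm_num)).1 (hne 1 (by simp))
    have h2 := (ne_pt_iff z 2 (by norm_num)).1 (hne 2 (by simp))
    rw [fixIn_congr _ (List.take 3 [0, 1, 2, 3]) [2, 1, 0] (by simp; omega)]
    exact m24_lower_point [2, 1, 0] 3 chainTr3 (by decide +kernel) (by decide +kernel)
      (by decide +kernel) z
      ((by decide +kernel : ∀ s < 24, (s ≠ 0 ∧ s ≠ 1 ∧ s ≠ 2) →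
        s ∈ chainTr3.map Prod.fst) _ (idx_lt z) ⟨h0, h1, h2⟩)

/-- the group of the code is 4-transitive -/
theorem m24_four_trans' (a b c d a' b' c' d' : GolayPt)
    (h : a ≠ b ∧ a ≠ c ∧ a ≠ d ∧ b ≠ c ∧ b ≠ d ∧ c ≠ d)
    (h' : a' ≠ b' ∧ a' ≠ c' ∧ a' ≠ d' ∧ b' ≠ c' ∧ b' ≠ d' ∧ c' ≠ d') :
    ∃ σ ∈ M24, σ a = a' ∧ σ b = b' ∧ σ c = c' ∧ σ d = d' := by
  have key : ∀ a b c d : GolayPt, (a ≠ b ∧ a ≠ c ∧ a ≠ d ∧ b ≠ c ∧ b ≠ d ∧ c ≠ d) →
      ∃ σ ∈ M24, σ (pt 0) = a ∧ σ (pt 1) = b ∧ σ (pt 2) = c ∧ σ (pt 3) = d := by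
    intro a b c d ⟨h1, h2, h3, h4, h5, h6⟩
    obtain ⟨σ, hσ, hs⟩ := m24_four_trans (fun i => ([a, b, c, d] : List GolayPt).getD i a) (by
      intro i hi j hj hij
      interval_cases i <;> interval_cases j <;> simp_all)
    exact ⟨σ, hσ, hs 0 (by norm_num), hs 1 (by norm_num), hs 2 (by norm_num), hs 3 (by norm_num)⟩
  obtain ⟨σ, hσ, s0, s1, s2, s3⟩ := key a b c d h
  obtain ⟨τ, hτ, t0, t1, t2, t3⟩ := key a' b' c' d' h'
  refine ⟨τ * σ⁻¹, M24.mul_mem hτ (M24.inv_mem hσ), ?_, ?_, ?_, ?_⟩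
  · rw [Equiv.Perm.mul_apply, ← s0]
    show τ (σ.symm (σ (pt 0))) = a'
    rw [Equiv.symm_apply_apply, t0]
  · rw [Equiv.Perm.mul_apply, ← s1]
    show τ (σ.symm (σ (pt 1))) = b'
    rw [Equiv.symm_apply_apply, t1]
  · rw [Equiv.Perm.mul_apply, ← s2]
    show τ (σ.symm (σ (pt 2))) = c'
    rw [Equiv.symm_apply_apply, t2]
  · rw [Equiv.Perm.mul_apply, ← s3]
    show τ (σ.symm (σ (pt 3))) = d'
    rw [Equiv.symm_apply_apply, t3]

end Cfsg.Agent.Lib.Helper7
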