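import Cfsg.Agent.Lib.Helper7.PrimeDegree

set_option autoImplicit false

namespace Cfsg.Agent.Lib.Helper7

open MulAction Subgroup

section

variable {G : Type*} [Group G] [Finite G] {Ω : Type*} [MulAction G Ω] [Fintype Ω]
  [FaithfulSMul G Ω]

omit [FaithfulSMul G Ω] [Finite G] [Fintype Ω] in
/-- orbits of a cyclic group generated by an element of prime order `p`, all of whose
nontrivial powers are fixed-point-free, have `p` elements -/
theorem ncard_orbit_zpowers {p : ℕ} (hp : p.Prime)
    (hfree : ∀ g : G, orderOf g = p → ∀ a : Ω, g • a ≠ a)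
    (x : G) (hx : orderOf x = p) (a : Ω) : (orbit (zpowers x) a).ncard = p := by
  have hcard : Nat.card (zpowers x) = p := by rw [Nat.card_zpowers, hx]
  have hstab : stabilizer (zpowers x) a = ⊥ := by
    rw [eq_bot_iff]
    intro g hg
    rw [mem_stabilizer_iff] at hg
    rw [Subgroup.mem_bot]
    by_contra hne
    have hord : orderOf g = p := by
      have h1 : orderOf g ∣ p := by
        rw [← hcard]; exact orderOf_dvd_natCard g
      rcases (Nat.dvd_prime hp).1 h1 with h | h
      · exact absurd (orderOf_eq_one_iff.1 h) hne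
      · exact h
    have : orderOf (g : G) = p := by rw [Subgroup.orderOf_coe, hord]
    exact hfree _ this a hg
  rw [← index_stabilizer, hstab, Subgroup.index_bot, hcard]

/-- In a faithful group of degree `2p` in which elements of order `p` are fixed-point-free,
an element commuting with an element of order `p` and fixing a point is trivial. -/
theorem eq_one_of_commute_of_fixed {p : ℕ} (hp : p.Prime) (hΩ : Fintype.card Ω = 2 * p)
    (hfree : ∀ g : G, orderOf g = p → ∀ a : Ω, g • a ≠ a)
    (x : G) (hx : orderOf x = p) (g : G) (hg : Commute g x) (a : Ω) (ha : g • a = a) :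
    g = 1 := by
  have hcard : Nat.card (zpowers x) = p := by rw [Nat.card_zpowers, hx]
  have hcomm : ∀ r ∈ zpowers x, Commute g r := by
    intro r hr
    obtain ⟨k, rfl⟩ := mem_zpowers_iff.1 hr
    exact hg.zpow_right k
  have hfix1 : ∀ c ∈ orbit (zpowers x) a, g • c = c := by
    rintro c ⟨r, rfl⟩
    show g • ((r : G) • a) = (r : G) • a
    rw [← mul_smul, (hcomm r r.2).eq, mul_smul, ha]
  have hgp : g ^ p = 1 := by
    apply FaithfulSMul.eq_of_smul_eq_smul (α := Ω)
    intro b
    rw [one_smul]
    by_cases hb : b ∈ orbit (zpowers x) a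
    · have : g ∈ stabilizer G b := hfix1 b hb
      exact (stabilizer G b).pow_mem this p
    · have hO1 := ncard_orbit_zpowers hp hfree x hx a
      have hO2 := ncard_orbit_zpowers hp hfree x hx b
      have hdisj : Disjoint (orbit (zpowers x) a) (orbit (zpowers x) b) := by
        rw [Set.disjoint_left]
        intro c hc1 hc2
        apply hb
        have e1 := orbit_eq_iff.2 hc1
        have e2 := orbit_eq_iff.2 hc2
        rw [← e1, e2]
        exact mem_orbit_self b
      have hunion : orbit (zpowers x) a ∪ orbit (zpowers x) b = Set.univ := by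
        rw [Set.eq_univ_iff_ncard, Set.ncard_union_eq hdisj, hO1, hO2, Nat.card_eq_fintype_card,
          hΩ]
        ring
      have hgb : g • b ∈ orbit (zpowers x) b := by
        have hmem : g • b ∈ orbit (zpowers x) a ∪ orbit (zpowers x) b := hunion ▸ Set.mem_univ _
        rcases hmem with h | h
        · exfalso
          apply hb
          have h1 := hfix1 _ h
          have h2 : g • b = b := smul_left_cancel g h1
          rw [← h2]
          exact h
        · exact h
      obtain ⟨r, hr⟩ := hgb
      have hr' : (r : G) • b = g • b := hr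
      have hpow : ∀ n : ℕ, g ^ n • b = (r : G) ^ n • b := by
        intro n
        induction n with
        | zero => simp
        | succ n ih =>
          rw [pow_succ, mul_smul, ← hr', ← mul_smul, ((hcomm r r.2).pow_left n).eq, mul_smul, ih,
            ← mul_smul, ← pow_succ']
      rw [hpow p]
      have hrp : (r : G) ^ p = 1 := by
        have h1 : r ^ p = 1 := by
          rw [← hcard]
          exact pow_card_eq_one'
        have := congrArg Subtype.val h1
        simpa using this
      rw [hrp, one_smul]
  by_contra hne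
  have hord : orderOf g = p := by
    rcases (Nat.dvd_prime hp).1 (orderOf_dvd_of_pow_eq_one hgp) with h | h
    · exact absurd (orderOf_eq_one_iff.1 h) hne
    · exact h
  exact hfree g hord a ha

/-- the centraliser of a subgroup of order `p` in such a group has order `p` or `2p` -/
theorem card_centralizer_of_two_orbits {p : ℕ} (hp : p.Prime) (hΩ : Fintype.card Ω = 2 * p)
    (hfree : ∀ g : G, orderOf g = p → ∀ a : Ω, g • a ≠ a)
    (R : Subgroup G) (hR : Nat.card R = p) :
    ∃ c, (c = 1 ∨ c = 2) ∧ Nat.card (centralizer (R : Set G)) = p * c := by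
  have : Fact p.Prime := ⟨hp⟩
  have hne : Nonempty Ω := by
    rw [← Fintype.card_pos_iff, hΩ]
    have := hp.pos
    omega
  obtain ⟨a⟩ := hne
  have hRne : R ≠ ⊥ := by
    intro h
    rw [h, Subgroup.card_bot] at hR
    exact hp.one_lt.ne hR
  obtain ⟨x, hxR, hx1⟩ : ∃ g ∈ R, g ≠ 1 := by
    obtain ⟨g, hg⟩ := (Subgroup.ne_bot_iff_exists_ne_one).1 hRne
    exact ⟨g.1, g.2, fun h => hg (Subtype.ext h)⟩
  have hx : orderOf x = p := by
    have h1 : orderOf (⟨x, hxR⟩ : R) ∣ p := by
      rw [← hR]; exact orderOf_dvd_natCard _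
    rw [Subgroup.orderOf_mk] at h1
    rcases (Nat.dvd_prime hp).1 h1 with h | h
    · exact absurd (orderOf_eq_one_iff.1 h) hx1
    · exact h
  have hinj : Function.Injective (fun g : centralizer (R : Set G) => (g : G) • a) := by
    intro g h hgh
    have hgh' : (g : G) • a = (h : G) • a := hgh
    have h1 : ((h : G)⁻¹ * (g : G)) • a = a := by
      rw [mul_smul, hgh', inv_smul_smul]
    have hmem : (h : G)⁻¹ * (g : G) ∈ centralizer (R : Set G) :=
      (centralizer (R : Set G)).mul_mem ((centralizer (R : Set G)).inv_mem h.2) g.2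
    have hc : Commute ((h : G)⁻¹ * (g : G)) x := (mem_centralizer_iff.1 hmem x hxR).symm
    have h2 := eq_one_of_commute_of_fixed hp hΩ hfree x hx _ hc a h1
    apply Subtype.ext
    have := congrArg (fun z => (h : G) * z) h2
    simpa using this
  have hle : Nat.card (centralizer (R : Set G)) ≤ 2 * p := by
    have := Nat.card_le_card_of_injective _ hinj
    rwa [Nat.card_eq_fintype_card (α := Ω), hΩ] at this
  have hcyc : IsCyclic R := isCyclic_of_prime_card hR
  have hcommR : IsMulCommutative R := inferInstance
  have hdvd : p ∣ Nat.card (centralizer (R : Set G)) := by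
    rw [← hR]
    exact Subgroup.card_dvd_of_le R.le_centralizer
  obtain ⟨c, hc⟩ := hdvd
  refine ⟨c, ?_, hc⟩
  have hpos : 0 < Nat.card (centralizer (R : Set G)) := Nat.card_pos
  rw [hc] at hle hpos
  have hc0 : 0 < c := Nat.pos_of_mul_pos_left hpos
  have hc2 : c ≤ 2 := by
    have := hp.pos
    nlinarith
  omega

/-- the normaliser of a subgroup of order `p` in such a group -/
theorem card_normalizer_of_two_orbits {p : ℕ} (hp : p.Prime) (hΩ : Fintype.card Ω = 2 * p)
    (hfree : ∀ g : G, orderOf g = p → ∀ a : Ω, g • a ≠ a)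
    (R : Subgroup G) (hR : Nat.card R = p) :
    ∃ c r, (c = 1 ∨ c = 2) ∧ r ∣ p - 1 ∧
      Nat.card (normalizer (R : Set G)) = p * (c * r) := by
  have : Fact p.Prime := ⟨hp⟩
  obtain ⟨c, hc, hcard⟩ := card_centralizer_of_two_orbits hp hΩ hfree R hR
  have hcyc : IsCyclic R := isCyclic_of_prime_card hR
  have h1 := Subgroup.card_mul_index R.normalizerMonoidHom.ker
  rw [Subgroup.index_ker, normalizerMonoidHom_ker] at h1
  have h2 : Nat.card ((centralizer (R : Set G)).subgroupOf (normalizer (R : Set G))) = p * c := by
    rw [← hcard]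
    exact Nat.card_congr (Subgroup.subgroupOfEquivOfLe
      (centralizer_le_normalizer (R : Set G))).toEquiv
  have h3 : Nat.card R.normalizerMonoidHom.range ∣ p - 1 := by
    have := Subgroup.card_subgroup_dvd_card R.normalizerMonoidHom.range
    rwa [IsCyclic.card_mulAut, hR, Nat.totient_prime hp] at this
  exact ⟨c, _, hc, h3, by rw [← h1, h2, mul_assoc]⟩

end

/-- Simplicity criterion for primitive groups of degree `2p`. -/
theorem isSimpleGroup_of_two_orbits {G : Type*} [Group G] [Finite G] {Ω : Type*}
    [MulAction G Ω] [Fintype Ω] [FaithfulSMul G Ω] [IsPreprimitive G Ω]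
    (p q m : ℕ) (hp : p.Prime) (hq : q.Prime) (hΩ : Fintype.card Ω = 2 * p)
    (hcard : Nat.card G = p * m) (hpm : ¬ p ∣ m) (hqm : q < m)
    (harith : ∀ k, k ∣ 2 * (p - 1) → k ∣ m → (m / k) % p = 1 → k = q) : IsSimpleGroup G := by
  have hpfact : Fact p.Prime := ⟨hp⟩
  have hm0 : 0 < m := by
    rcases Nat.eq_zero_or_pos m with h | h
    · exfalso; apply hpm; rw [h]; exact dvd_zero p
    · exact h
  have htrans : IsPretransitive G Ω := inferInstance
  have hfree : ∀ g : G, orderOf g = p → ∀ a : Ω, g • a ≠ a := by
    intro g hg a hga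
    apply hpm
    have h1 := Subgroup.card_mul_index (stabilizer G a)
    rw [index_stabilizer_of_transitive, Nat.card_eq_fintype_card (α := Ω), hΩ, hcard] at h1
    have h2 : Nat.card (stabilizer G a) * 2 = m := by
      have : p * (Nat.card (stabilizer G a) * 2) = p * m := by rw [← h1]; ring
      exact Nat.eq_of_mul_eq_mul_left hp.pos this
    have h3 : p ∣ Nat.card (stabilizer G a) := by
      have hle : zpowers g ≤ stabilizer G a := by
        rw [zpowers_le]
        exact hga
      have := Subgroup.card_dvd_of_le hle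
      rwa [Nat.card_zpowers, hg] at this
    rw [← h2]
    exact Dvd.dvd.mul_right h3 2
  apply isSimpleGroup_of_sylow_normalizer (Ω := Ω) p q m hp hq (by rw [hΩ]; exact Dvd.intro_left 2 rfl)
    hcard hpm hqm
  intro R hRcard
  obtain ⟨c, r, hc, hr1, hr2⟩ := card_normalizer_of_two_orbits hp hΩ hfree R hRcard
  have hfac : (Nat.card G).factorization p = 1 := by
    rw [hcard, Nat.factorization_mul hp.ne_zero hm0.ne', Finsupp.add_apply,
      hp.factorization_self, Nat.factorization_eq_zero_of_not_dvd hpm]
  let P : Sylow p G := Sylow.ofCard R (by rw [hRcard, hfac, pow_one])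
  have hPR : (P : Subgroup G) = R := Sylow.coe_ofCard R _
  have h1 : Nat.card (Sylow p G) = (normalizer (R : Set G)).index := by
    rw [P.card_eq_index_normalizer]
    rfl
  have h2 : Nat.card (Sylow p G) ≡ 1 [MOD p] := card_sylow_modEq_one p G
  have h3 := Subgroup.card_mul_index (normalizer (R : Set G))
  rw [hr2, hcard, mul_assoc] at h3
  have h4 : (c * r) * (normalizer (R : Set G)).index = m := Nat.eq_of_mul_eq_mul_left hp.pos h3
  have hr0 : 0 < c * r := by
    rcases Nat.eq_zero_or_pos (c * r) with h | h
    · rw [h, zero_mul] at h4; omega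
    · exact h
  have h5 : m / (c * r) = (normalizer (R : Set G)).index := by
    rw [← h4, Nat.mul_div_cancel_left _ hr0]
  have hk : c * r ∣ 2 * (p - 1) := by
    rcases hc with rfl | rfl
    · rw [one_mul]; exact Dvd.dvd.mul_left hr1 2
    · exact Nat.mul_dvd_mul_left 2 hr1
  have h6 : c * r = q := by
    apply harith (c * r) hk ⟨_, h4.symm⟩
    rw [h5, ← h1]
    have := h2
    unfold Nat.ModEq at this
    rw [this, Nat.mod_eq_of_lt hp.one_lt]
  rw [hr2, h6]

end Cfsg.Agent.Lib.Helper7
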