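import Cfsg.Agent.Lib.Helper7.GolayWeights

set_option autoImplicit false

namespace Cfsg.Agent.Lib.Helper7

open Cfsg
open scoped Pointwise

/-- the indices of the words of weight `w` -/
def weightIdx (w : ℕ) : Finset ℕ := (Finset.range 4096).filter fun c => popc (encode c) = w

/-- the words of weight `w` as a finset -/
def weightFinset (w : ℕ) : Finset (Finset GolayPt) :=
  (weightIdx w).image fun c => finOf (encode c)

theorem mem_weightFinset (w : ℕ) (s : Finset GolayPt) :
    s ∈ weightFinset w ↔ s ∈ wordsOfWeight (golayCode : Set (GolayPt → ZMod 2)) w := by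
  simp only [weightFinset, weightIdx, Finset.mem_image, Finset.mem_filter, Finset.mem_range]
  constructor
  · rintro ⟨c, ⟨hc, hw⟩, rfl⟩
    exact ⟨(mem_supports_golayCode_iff _).2 ⟨c, hc, rfl⟩, by rw [card_finOf, hw]⟩
  · rintro ⟨hs, hcard⟩
    obtain ⟨c, hc, rfl⟩ := (mem_supports_golayCode_iff s).1 hs
    exact ⟨c, ⟨hc, by rw [← card_finOf, hcard]⟩, rfl⟩

theorem finOf_encode_injOn : Set.InjOn (fun c => finOf (encode c)) (Finset.range 4096 : Finset ℕ) := by
  intro c hc c' hc' h
  simp only [Finset.coe_range, Set.mem_Iio] at hc hc'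
  have h1 := encode_props c hc
  have h2 := encode_props c' hc'
  have : encode c = encode c' := eq_of_finOf_eq h1.1 h2.1 h
  rw [← h1.2.1, ← h2.2.1, this]

theorem card_weightFinset (w : ℕ) : (weightFinset w).card = (weightIdx w).card := by
  apply Finset.card_image_of_injOn
  intro c hc c' hc' h
  apply finOf_encode_injOn _ _ h
  · exact Finset.mem_of_subset (Finset.filter_subset _ _) hc
  · exact Finset.mem_of_subset (Finset.filter_subset _ _) hc'

theorem card_golayPt' : Fintype.card GolayPt = 24 := by
  simp [GolayPt, Fintype.card_option, ZMod.card]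

theorem card_weightIdx_8 : (weightIdx 8).card = 759 := by
  decide +kernel

theorem card_octadFinset : (weightFinset 8).card = 759 := by
  rw [card_weightFinset, card_weightIdx_8]

theorem mem_weightFinset_8 (o : Finset GolayPt) : o ∈ weightFinset 8 ↔ o ∈ octads :=
  mem_weightFinset 8 o

end Cfsg.Agent.Lib.Helper7

namespace Cfsg.Agent.Lib.Helper7

open Cfsg
open scoped Pointwise

theorem octad_powerset_disjoint :
    (↑(weightFinset 8) : Set (Finset GolayPt)).PairwiseDisjoint
      fun o => Finset.powersetCard 5 o := by
  intro o ho o' ho' hne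
  rw [Function.onFun, Finset.disjoint_left]
  intro t ht ht'
  rw [Finset.mem_powersetCard] at ht ht'
  apply hne
  apply octad_eq_of_card_inter ((mem_weightFinset_8 o).1 ho) ((mem_weightFinset_8 o').1 ho')
  rw [← ht.2]
  exact Finset.card_le_card (Finset.subset_inter ht.1 ht'.1)

set_option linter.constructorNameAsVariable false in
/-- every five points lie in an octad -/
theorem exists_octad_of_card_eq_five (t : Finset GolayPt) (ht : t.card = 5) :
    ∃ o ∈ octads, t ⊆ o := by
  have hcard : ((weightFinset 8).biUnion fun o => Finset.powersetCard 5 o).card = 42504 := by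
    rw [Finset.card_biUnion octad_powerset_disjoint]
    have : ∀ o ∈ weightFinset 8, (Finset.powersetCard 5 o).card = 56 := by
      intro o ho
      rw [Finset.card_powersetCard, ((mem_weightFinset_8 o).1 ho).2]
      norm_num [Nat.choose]
    rw [Finset.sum_congr rfl this, Finset.sum_const, card_octadFinset, smul_eq_mul]
  have hsub : ((weightFinset 8).biUnion fun o => Finset.powersetCard 5 o) ⊆
      Finset.powersetCard 5 (Finset.univ : Finset GolayPt) := by
    intro s hs
    rw [Finset.mem_biUnion] at hs
    obtain ⟨o, _, hs⟩ := hs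
    rw [Finset.mem_powersetCard] at hs ⊢
    exact ⟨Finset.subset_univ _, hs.2⟩
  have hcard2 : (Finset.powersetCard 5 (Finset.univ : Finset GolayPt)).card = 42504 := by
    rw [Finset.card_powersetCard, Finset.card_univ, card_golayPt']
    norm_num [Nat.choose]
  have heq := Finset.eq_of_subset_of_card_le hsub (by rw [hcard, hcard2])
  have : t ∈ Finset.powersetCard 5 (Finset.univ : Finset GolayPt) := by
    rw [Finset.mem_powersetCard]; exact ⟨Finset.subset_univ _, ht⟩
  rw [← heq, Finset.mem_biUnion] at this
  obtain ⟨o, ho, hto⟩ := this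
  exact ⟨o, (mem_weightFinset_8 o).1 ho, (Finset.mem_powersetCard.1 hto).1⟩

/-- an octad meets a dodecad in 2, 4 or 6 points -/
theorem card_octad_inter_dodecad {o d : Finset GolayPt} (ho : o ∈ octads) (hd : d ∈ dodecads) :
    (o ∩ d).card = 2 ∨ (o ∩ d).card = 4 ∨ (o ∩ d).card = 6 := by
  have h1 := card_of_mem_supports (symmDiff_mem_supports ho.1 hd.1)
  have h2 := card_symmDiff_add o d
  rw [ho.2, hd.2] at h2
  have h3 : (o ∩ d).card ≤ 8 := by
    rw [← ho.2]; exact Finset.card_le_card Finset.inter_subset_left
  omega

end Cfsg.Agent.Lib.Helper7
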