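import Cfsg.Agent.Lib.Helper7.M24Order
import Cfsg.Agent.Lib.Helper7.GolaySteiner
import Cfsg.Agent.Lib.Helper7.DodecadOrbit

set_option autoImplicit false

namespace Cfsg.Agent.Lib.Helper7

open Cfsg
open scoped Pointwise

theorem card_weightIdx_12 : (weightIdx 12).card = 2576 := by
  decide +kernel

theorem coe_weightFinset_12 : (↑(weightFinset 12) : Set (Finset GolayPt)) = dodecads := by
  ext d
  rw [Finset.mem_coe, mem_weightFinset]
  rfl

theorem ncard_dodecads : dodecads.ncard = 2576 := by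
  rw [← coe_weightFinset_12, Set.ncard_coe_finset, card_weightFinset, card_weightIdx_12]

theorem dodecad_trans (d d' : Finset GolayPt) (hd : d ∈ dodecads) (hd' : d' ∈ dodecads) :
    ∃ g ∈ M24, g • d = d' := by
  obtain ⟨σ, hσ, h1⟩ := dodecad_orbit d hd
  obtain ⟨τ, hτ, h2⟩ := dodecad_orbit d' hd'
  refine ⟨τ * σ⁻¹, M24.mul_mem (genSub_le hτ) (M24.inv_mem (genSub_le hσ)), ?_⟩
  rw [← h1, mul_smul, inv_smul_smul, h2]

theorem orbit_dodecad (d : Finset GolayPt) (hd : d ∈ dodecads) :
    MulAction.orbit M24 d = dodecads := by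
  ext d'
  constructor
  · rintro ⟨g, rfl⟩
    exact smul_mem_dodecads g.2 hd
  · intro hd'
    obtain ⟨g, hg, h⟩ := dodecad_trans d d' hd hd'
    exact ⟨⟨g, hg⟩, h⟩

theorem card_stabilizer_dodecad (d : Finset GolayPt) (hd : d ∈ dodecads) :
    Nat.card (MulAction.stabilizer M24 d) = 95040 := by
  have h1 := Subgroup.card_mul_index (MulAction.stabilizer M24 d)
  rw [MulAction.index_stabilizer, orbit_dodecad d hd, ncard_dodecads, card_M24] at h1
  omega

end Cfsg.Agent.Lib.Helper7
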