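import Mathlib

/-!
Three-step stabiliser chain bound (requested by helper28 for S1695), and the triviality of the
action of a normal subgroup contained in `H` on the cosets of `H`.
-/

set_option autoImplicit false
set_option linter.style.haveILetI false
set_option linter.unusedSectionVars false

namespace Cfsg.Agent.Lib.Helper7.SubOrbit3

/-- a list of elements of a finite group with pairwise distinct images of a point bounds the
orbit of that point from below. -/
theorem length_le_orbit {K : Type*} [Group K] [Finite K] {X : Type*} [MulAction K X] (x : X)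
    (L : List K) (hL : (L.map (fun g => g • x)).Nodup) :
    L.length ≤ (MulAction.orbit K x).ncard := by
  classical
  have hfin : (MulAction.orbit K x).Finite := Set.finite_range _
  have : (L.map (fun g => g • x)).toFinset.card = L.length := by
    rw [List.toFinset_card_of_nodup hL, List.length_map]
  rw [← this, ← Set.ncard_coe_finset]
  apply Set.ncard_le_ncard _ hfin
  intro y hy
  simp only [Finset.mem_coe, List.mem_toFinset, List.mem_map] at hy
  obtain ⟨g, -, rfl⟩ := hy
  exact ⟨g, rfl⟩

/-- orbit-stabiliser in product form -/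
theorem card_stab_mul_orbit {K : Type*} [Group K] {X : Type*} [MulAction K X] (x : X) :
    Nat.card (MulAction.stabilizer K x) * (MulAction.orbit K x).ncard = Nat.card K := by
  rw [← MulAction.index_stabilizer]
  exact Subgroup.card_mul_index _

theorem chain_bound3 {G : Type*} [Group G] (H : Subgroup G) [Finite H] {X : Type*} [MulAction G X]
    (x1 x2 x3 : X) (s1 : ℕ) (hs1 : (MulAction.orbit H x1).ncard = s1)
    (L2 L3 : List G)
    (hL2 : ∀ g ∈ L2, g ∈ H ∧ g • x1 = x1) (hN2 : (L2.map (fun g => g • x2)).Nodup)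
    (hL3 : ∀ g ∈ L3, g ∈ H ∧ g • x1 = x1 ∧ g • x2 = x2) (hN3 : (L3.map (fun g => g • x3)).Nodup) :
    s1 * L2.length * L3.length ≤ Nat.card H ∧
    (Nat.card H ≤ s1 * L2.length * L3.length →
      ∀ g ∈ H, g • x1 = x1 → g • x2 = x2 → g • x3 = x3 → g = 1) := by
  classical
  set T1 : Subgroup H := MulAction.stabilizer H x1 with hT1
  set T2 : Subgroup T1 := MulAction.stabilizer T1 x2 with hT2
  set T3 : Subgroup T2 := MulAction.stabilizer T2 x3 with hT3
  have h1 : Nat.card T1 * s1 = Nat.card H := by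
    rw [← hs1]; exact card_stab_mul_orbit x1
  have h2 : Nat.card T2 * (MulAction.orbit T1 x2).ncard = Nat.card T1 := card_stab_mul_orbit x2
  have h3 : Nat.card T3 * (MulAction.orbit T2 x3).ncard = Nat.card T2 := card_stab_mul_orbit x3
  -- the lists bound the orbits of the stabilisers from below
  have hfin2 : (MulAction.orbit T1 x2).Finite := Set.finite_range _
  have hfin3 : (MulAction.orbit T2 x3).Finite := Set.finite_range _
  have hl2 : L2.length ≤ (MulAction.orbit T1 x2).ncard := by
    have : (L2.map (fun g => g • x2)).toFinset.card = L2.length := by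
      rw [List.toFinset_card_of_nodup hN2, List.length_map]
    rw [← this, ← Set.ncard_coe_finset]
    apply Set.ncard_le_ncard _ hfin2
    intro y hy
    simp only [Finset.mem_coe, List.mem_toFinset, List.mem_map] at hy
    obtain ⟨g, hg, rfl⟩ := hy
    exact ⟨⟨⟨g, (hL2 g hg).1⟩, (hL2 g hg).2⟩, rfl⟩
  have hl3 : L3.length ≤ (MulAction.orbit T2 x3).ncard := by
    have : (L3.map (fun g => g • x3)).toFinset.card = L3.length := by
      rw [List.toFinset_card_of_nodup hN3, List.length_map]
    rw [← this, ← Set.ncard_coe_finset]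
    apply Set.ncard_le_ncard _ hfin3
    intro y hy
    simp only [Finset.mem_coe, List.mem_toFinset, List.mem_map] at hy
    obtain ⟨g, hg, rfl⟩ := hy
    exact ⟨⟨⟨⟨g, (hL3 g hg).1⟩, (hL3 g hg).2.1⟩, (hL3 g hg).2.2⟩, rfl⟩
  have hHpos : 0 < Nat.card H := Nat.card_pos
  have hT3pos : 0 < Nat.card T3 := Nat.card_pos
  set n2 := (MulAction.orbit T1 x2).ncard with hn2
  set n3 := (MulAction.orbit T2 x3).ncard with hn3
  have hkey : Nat.card H = s1 * n2 * n3 * Nat.card T3 := by
    rw [← h1, ← h2, ← h3]; ring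
  have hpos : 0 < s1 * n2 * n3 := by
    rcases Nat.eq_zero_or_pos (s1 * n2 * n3) with h | h
    · rw [h] at hkey; simp at hkey; omega
    · exact h
  have hmono : s1 * L2.length * L3.length ≤ s1 * n2 * n3 :=
    Nat.mul_le_mul (Nat.mul_le_mul_left _ hl2) hl3
  refine ⟨?_, ?_⟩
  · calc s1 * L2.length * L3.length ≤ s1 * n2 * n3 := hmono
      _ = s1 * n2 * n3 * 1 := (Nat.mul_one _).symm
      _ ≤ s1 * n2 * n3 * Nat.card T3 := Nat.mul_le_mul_left _ hT3pos
      _ = Nat.card H := hkey.symm
  · intro hle g hg hg1 hg2 hg3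
    have hle2 : s1 * n2 * n3 * Nat.card T3 ≤ s1 * n2 * n3 * 1 := by
      rw [← hkey, Nat.mul_one]
      exact hle.trans hmono
    have hc : Nat.card T3 ≤ 1 := Nat.le_of_mul_le_mul_left hle2 hpos
    have hsub : Subsingleton T3 := by
      haveI : Finite T3 := inferInstance
      exact (Finite.card_le_one_iff_subsingleton).mp hc
    have hm1 : (⟨g, hg⟩ : H) ∈ T1 := hg1
    have hm2 : (⟨⟨g, hg⟩, hm1⟩ : T1) ∈ T2 := hg2
    have hm3 : (⟨⟨⟨g, hg⟩, hm1⟩, hm2⟩ : T2) ∈ T3 := hg3
    have := Subsingleton.elim (⟨⟨⟨⟨g, hg⟩, hm1⟩, hm2⟩, hm3⟩ : T3) 1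
    have h4 := congrArg (fun t : T3 => ((((t : T2) : T1) : H) : G)) this
    exact h4

/-- a normal subgroup contained in `H` acts trivially on the cosets of `H`. -/
theorem core_trivial_of_faithful_pts {G : Type*} [Group G] (H : Subgroup G) (N : Subgroup G)
    [N.Normal] (hle : N ≤ H) : ∀ n ∈ N, ∀ x : G ⧸ H, n • x = x := by
  intro n hn x
  induction x using QuotientGroup.induction_on with
  | H g =>
    rw [MulAction.Quotient.smul_mk]
    apply QuotientGroup.eq.2
    have h1 : g⁻¹ * n⁻¹ * g⁻¹⁻¹ ∈ N := ‹N.Normal›.conj_mem _ (N.inv_mem hn) g⁻¹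
    have h2 : (n * g)⁻¹ * g = g⁻¹ * n⁻¹ * g⁻¹⁻¹ := by group
    change (n * g)⁻¹ * g ∈ H
    rw [h2]
    exact hle h1

end Cfsg.Agent.Lib.Helper7.SubOrbit3
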