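import Cfsg.Agent.Lib.Helper7.GolayBasic

set_option autoImplicit false

namespace Cfsg.Agent.Lib.Helper7

open Cfsg

theorem mem_support₂ {α : Type*} [Fintype α] (w : α → ZMod 2) (a : α) :
    a ∈ support₂ w ↔ w a ≠ 0 := by
  simp [support₂]

theorem support₂_injective {α : Type*} [Fintype α] :
    Function.Injective (support₂ : (α → ZMod 2) → Finset α) := by
  intro v w h
  funext a
  have hv : a ∈ support₂ v ↔ a ∈ support₂ w := by rw [h]
  simp only [support₂, Finset.mem_filter, Finset.mem_univ, true_and] at hv
  have key : ∀ z : ZMod 2, z = 0 ∨ z = 1 := by decide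
  rcases key (v a) with h1 | h1 <;> rcases key (w a) with h2 | h2 <;> simp_all

theorem support₂_zero {α : Type*} [Fintype α] : support₂ (0 : α → ZMod 2) = ∅ := by
  simp [support₂]

theorem support₂_add_one {α : Type*} [Fintype α] [DecidableEq α] (w : α → ZMod 2) :
    support₂ (w + 1) = (support₂ w)ᶜ := by
  ext a
  simp only [support₂, Finset.mem_filter, Finset.mem_univ, true_and, Pi.add_apply, Pi.one_apply,
    Finset.mem_compl, not_not]
  have key : ∀ z : ZMod 2, z + 1 ≠ 0 ↔ z = 0 := by decide
  exact key _

theorem one_mem_golayCode : (1 : GolayPt → ZMod 2) ∈ golayCode :=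
  Submodule.subset_span (Or.inr rfl)

/-- the halved word of an integer vector relative to a parity representative -/
def halfWord (x : GolayPt → ℤ) (m : ℤ) : GolayPt → ZMod 2 := fun i => (((x i - m) / 2 : ℤ) : ZMod 2)

theorem intCast_zmod2_ne_zero_iff (q : ℤ) : ((q : ℤ) : ZMod 2) ≠ 0 ↔ q % 2 = 1 := by
  rw [Ne, ZMod.intCast_zmod_eq_zero_iff_dvd]
  omega

theorem mem_leechSet_iff (x : GolayPt → ℤ) :
    x ∈ leechSet ↔ ∃ m : ℤ, (∀ i, x i ≡ m [ZMOD 2]) ∧ (∑ i, x i ≡ 4 * m [ZMOD 8]) ∧
      halfWord x m ∈ golayCode := by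
  constructor
  · rintro ⟨m, h1, h2, h3⟩
    refine ⟨m, h1, h2, ?_⟩
    obtain ⟨w, hw, hsupp⟩ := h3 (m + 2)
    have : w = halfWord x m := by
      apply support₂_injective
      rw [hsupp]
      ext i
      rw [mem_support₂, halfWord, intCast_zmod2_ne_zero_iff]
      simp only [Finset.mem_filter, Finset.mem_univ, true_and]
      have := h1 i
      unfold Int.ModEq at *
      omega
    rw [← this]
    exact hw
  · rintro ⟨m, h1, h2, h3⟩
    refine ⟨m, h1, h2, ?_⟩
    intro k
    by_cases hk : k % 2 = m % 2
    · by_cases hk4 : k % 4 = m % 4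
      · refine ⟨halfWord x m + 1, Submodule.add_mem _ h3 one_mem_golayCode, ?_⟩
        rw [support₂_add_one]
        ext i
        rw [Finset.mem_compl, mem_support₂, halfWord, intCast_zmod2_ne_zero_iff]
        simp only [Finset.mem_filter, Finset.mem_univ, true_and]
        have := h1 i
        unfold Int.ModEq at *
        omega
      · refine ⟨halfWord x m, h3, ?_⟩
        ext i
        rw [mem_support₂, halfWord, intCast_zmod2_ne_zero_iff]
        simp only [Finset.mem_filter, Finset.mem_univ, true_and]
        have := h1 i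
        unfold Int.ModEq at *
        omega
    · refine ⟨0, Submodule.zero_mem _, ?_⟩
      rw [support₂_zero]
      ext i
      simp only [Finset.notMem_empty, Finset.mem_filter, Finset.mem_univ, true_and, false_iff]
      have := h1 i
      unfold Int.ModEq at *
      omega

theorem zero_mem_leechSet : (0 : GolayPt → ℤ) ∈ leechSet := by
  rw [mem_leechSet_iff]
  refine ⟨0, fun i => by simp [Int.ModEq], by simp [Int.ModEq], ?_⟩
  have : halfWord 0 0 = 0 := by
    funext i
    simp [halfWord]
  rw [this]
  exact Submodule.zero_mem _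

theorem add_mem_leechSet {x y : GolayPt → ℤ} (hx : x ∈ leechSet) (hy : y ∈ leechSet) :
    x + y ∈ leechSet := by
  rw [mem_leechSet_iff] at *
  obtain ⟨m, h1, h2, h3⟩ := hx
  obtain ⟨m', h1', h2', h3'⟩ := hy
  refine ⟨m + m', fun i => ?_, ?_, ?_⟩
  · exact Int.ModEq.add (h1 i) (h1' i)
  · rw [show (∑ i, (x + y) i) = ∑ i, x i + ∑ i, y i by simp [Finset.sum_add_distrib], mul_add]
    exact Int.ModEq.add h2 h2'
  · have : halfWord (x + y) (m + m') = halfWord x m + halfWord y m' := by
      funext i
      simp only [halfWord, Pi.add_apply]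
      rw [← Int.cast_add]
      congr 1
      have := h1 i
      have := h1' i
      unfold Int.ModEq at *
      omega
    rw [this]
    exact Submodule.add_mem _ h3 h3'

theorem neg_mem_leechSet {x : GolayPt → ℤ} (hx : x ∈ leechSet) : -x ∈ leechSet := by
  rw [mem_leechSet_iff] at *
  obtain ⟨m, h1, h2, h3⟩ := hx
  refine ⟨-m, fun i => ?_, ?_, ?_⟩
  · exact Int.ModEq.neg (h1 i)
  · rw [show (∑ i, (-x) i) = -∑ i, x i by simp, mul_neg]
    exact Int.ModEq.neg h2
  · have : halfWord (-x) (-m) = -halfWord x m := by
      funext i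
      simp only [halfWord, Pi.neg_apply]
      rw [← Int.cast_neg]
      congr 1
      have := h1 i
      unfold Int.ModEq at *
      omega
    rw [this]
    exact Submodule.neg_mem _ h3

/-- `leechSet` as an additive subgroup. -/
def leechSubgroup : AddSubgroup (GolayPt → ℤ) where
  carrier := leechSet
  add_mem' := add_mem_leechSet
  zero_mem' := zero_mem_leechSet
  neg_mem' := neg_mem_leechSet

theorem leechLattice_eq : leechLattice = leechSubgroup := by
  apply le_antisymm
  · unfold leechLattice
    rw [AddSubgroup.closure_le]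
    exact fun x hx => hx
  · intro x hx
    exact AddSubgroup.subset_closure hx

theorem mem_leechLattice_iff (x : GolayPt → ℤ) : x ∈ leechLattice ↔ x ∈ leechSet := by
  rw [leechLattice_eq]
  rfl

end Cfsg.Agent.Lib.Helper7
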