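import Cfsg.Prelude.Def_Transfer
import Cfsg.Agent.Lib.Helper87.PCore

set_option autoImplicit false

namespace Cfsg.Agent.Lib.Helper7.IsoT

open Cfsg

section basic

variable {A B : Type*} [Group A] [Group B]

theorem mem_center_iff_equiv (f : A ≃* B) (x : A) :
    x ∈ Subgroup.center A ↔ f x ∈ Subgroup.center B := by
  rw [Subgroup.mem_center_iff, Subgroup.mem_center_iff]
  constructor
  · intro h b
    obtain ⟨a, rfl⟩ := f.surjective b
    rw [← map_mul, ← map_mul, h a]
  · intro h a
    apply f.injective
    rw [map_mul, map_mul, h (f a)]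

theorem mem_frattini_iff_equiv (f : A ≃* B) (x : A) : x ∈ frattini A ↔ f x ∈ frattini B := by
  constructor
  · intro h
    exact frattini_le_comap_frattini_of_surjective (φ := f.toMonoidHom) f.surjective h
  · intro h
    have := frattini_le_comap_frattini_of_surjective (φ := f.symm.toMonoidHom) f.symm.surjective h
    simpa using this

theorem map_commutator_equiv (f : A ≃* B) : (commutator A).map f.toMonoidHom = commutator B := by
  rw [commutator_def, commutator_def, Subgroup.map_commutator,
    Subgroup.map_top_of_surjective _ f.surjective]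

theorem mem_commutator_iff_equiv (f : A ≃* B) (x : A) :
    x ∈ commutator A ↔ f x ∈ commutator B := by
  rw [← map_commutator_equiv f]
  constructor
  · intro h
    exact Subgroup.mem_map_of_mem _ h
  · rintro ⟨y, hy, hxy⟩
    have : y = x := f.injective hxy
    rwa [← this]

theorem isSpecial_of_equiv (p : ℕ) (f : A ≃* B) (h : IsSpecial p A) : IsSpecial p B := by
  obtain ⟨h1, h2, h3⟩ := h
  refine ⟨h1.of_equiv f, ?_, ?_⟩
  · ext y
    obtain ⟨x, rfl⟩ := f.surjective y
    rw [← mem_frattini_iff_equiv, ← mem_center_iff_equiv, h2]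
  · ext y
    obtain ⟨x, rfl⟩ := f.surjective y
    rw [← mem_commutator_iff_equiv, ← mem_center_iff_equiv, h3]

theorem card_center_equiv (f : A ≃* B) :
    Nat.card (Subgroup.center A) = Nat.card (Subgroup.center B) := by
  apply Nat.card_congr
  exact Equiv.subtypeEquiv f.toEquiv (fun x => mem_center_iff_equiv f x)

theorem isExtraspecial_of_equiv (p : ℕ) (f : A ≃* B) (h : IsExtraspecial p A) :
    IsExtraspecial p B :=
  ⟨isSpecial_of_equiv p f h.1, by rw [← card_center_equiv f]; exact h.2⟩

end basic

end Cfsg.Agent.Lib.Helper7.IsoT
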