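import Cfsg.Agent.Lib.Helper7.M12Data

set_option autoImplicit false

namespace Cfsg.Agent.Lib.Helper7

open Cfsg
open scoped Pointwise

theorem m12PDs_repIn : ∀ d ∈ m12PDs, RepIn genSub d := by
  apply slpRun2_repIn
  intro d hd
  simp only [List.mem_cons, List.not_mem_nil, or_false] at hd
  rcases hd with rfl | rfl | rfl
  · exact ⟨gC, gC_mem_genSub, rep_gC⟩
  · exact ⟨gB, gB_mem_genSub, rep_gB⟩
  · exact ⟨gA, gA_mem_genSub, rep_gA⟩

/-- the base dodecad `{0,2,3,4,6,7,8,9,10,11,13,14}` -/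
def baseDod : ℕ := 28637

theorem baseDod_mem : finOf baseDod ∈ dodecads := by
  refine ⟨?_, by rw [card_finOf]; decide +kernel⟩
  have : baseDod = encode (baseDod % 4096) := by decide +kernel
  rw [this]
  exact finOf_encode_mem_supports _

def m12Levels : List (List ℕ × ℕ × List (ℕ × ℕ)) :=
  [([], 0, m12Tr0), ([0], 2, m12Tr1), ([2, 0], 3, m12Tr2), ([3, 2, 0], 4, m12Tr3),
   ([4, 3, 2, 0], 6, m12Tr4), ([0], 1, m11Tr0), ([1, 0], 5, m11Tr1), ([5, 1, 0], 12, m11Tr2)]

theorem m12_check :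
    m12Levels.all (fun lv => transCheckD m12PDs baseDod lv.1 lv.2.1 lv.2.2) = true := by
  decide +kernel

theorem m12_lower (l : List ℕ) (j : ℕ) (tr : List (ℕ × ℕ)) (hmem : (l, j, tr) ∈ m12Levels)
    (hl : ∀ b ∈ l, b < 24) (hj : j < 24) :
    ∀ s ∈ tr.map Prod.fst, ∃ σ ∈ fixIn (stabD baseDod) l, σ (pt j) = pt s :=
  lower_of_transCheckD m12PDs m12PDs_repIn baseDod l j tr hl hj
    (List.all_eq_true.1 m12_check (l, j, tr) hmem)

theorem card_m12_0 : Nat.card (fixIn (stabD baseDod) [0]) = 7920 := by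
  have h := card_fixIn_step (stabD baseDod) [] 0 (m12Tr0.map Prod.fst) (by decide +kernel)
    (by decide +kernel)
    (m12_lower _ _ _ (by decide +kernel) (by decide +kernel) (by decide +kernel))
    (upper_D baseDod _ 0 _ (by decide +kernel) (by decide +kernel) (by decide +kernel))
  have h2 : Nat.card (fixIn (stabD baseDod) []) = 95040 := card_stabD_dodecad _ baseDod_mem
  rw [h2] at h
  have h3 : (m12Tr0.map Prod.fst).length = 12 := by decide +kernel
  rw [h3] at h
  omega

end Cfsg.Agent.Lib.Helper7
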