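import Cfsg.Agent.Lib.Helper7.GolaySteiner

set_option autoImplicit false

namespace Cfsg.Agent.Lib.Helper7

open Cfsg
open scoped Pointwise

theorem golayBasis_octads : ∀ b ∈ golayBasis, finOf b ∈ octads := by
  intro b hb
  have h1 : ∀ b ∈ golayBasis, popc b = 8 := by decide +kernel
  refine ⟨?_, by rw [card_finOf, h1 b hb]⟩
  refine ⟨wordOf b, golayBasis_mem b hb, support₂_wordOf b⟩

/-- a word with support in the family of supports of the code lies in the code -/
theorem mem_golayCode_of_support₂ (f : GolayPt → ZMod 2)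
    (h : support₂ f ∈ supports (golayCode : Set (GolayPt → ZMod 2))) : f ∈ golayCode := by
  obtain ⟨w, hw, hws⟩ := h
  have : f = w := by
    funext p
    have h1 : p ∈ support₂ f ↔ p ∈ support₂ w := by rw [hws]
    simp only [support₂, Finset.mem_filter, Finset.mem_univ, true_and] at h1
    have hf : f p = 0 ∨ f p = 1 := by
      have : ∀ x : ZMod 2, x = 0 ∨ x = 1 := by decide
      exact this _
    have hw' : w p = 0 ∨ w p = 1 := by
      have : ∀ x : ZMod 2, x = 0 ∨ x = 1 := by decide
      exact this _
    rcases hf with hf | hf <;> rcases hw' with hw' | hw' <;> simp_all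
  rw [this]
  exact hw

/-- a permutation mapping octads to octads lies in the group of the code -/
theorem mem_M24_of_octads (σ : Equiv.Perm GolayPt) (h : ∀ o ∈ octads, σ • o ∈ octads) :
    σ ∈ M24 := by
  unfold M24
  apply mem_setSystemAut_supports
  intro w hw
  obtain ⟨c, -, rfl⟩ := (mem_golayCode_iff w).1 hw
  let C' : Submodule (ZMod 2) (GolayPt → ZMod 2) :=
    golayCode.comap (LinearMap.funLeft (ZMod 2) (ZMod 2) σ.symm)
  have : wordOf (encode c) ∈ C' := by
    apply wordOf_comb_mem C' golayBasis
    intro b hb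
    show wordOf b ∘ σ.symm ∈ golayCode
    apply mem_golayCode_of_support₂
    rw [support₂_comp_symm, support₂_wordOf]
    exact (h _ (golayBasis_octads b hb)).1
  exact this

theorem smul_octads_of_mem {σ : Equiv.Perm GolayPt} (hσ : σ ∈ M24) : σ • octads = octads := by
  apply Set.Subset.antisymm
  · rintro c ⟨o, ho, rfl⟩
    exact smul_mem_octads hσ ho
  · intro o ho
    refine ⟨σ⁻¹ • o, smul_mem_octads (M24.inv_mem hσ) ho, ?_⟩
    show σ • σ⁻¹ • o = o
    rw [smul_inv_smul]

/-- the automorphism group of the octad system is the group of the code -/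
theorem setSystemAut_octads : setSystemAut octads = M24 := by
  ext σ
  constructor
  · intro hσ
    apply mem_M24_of_octads
    intro o ho
    have h1 : σ • octads = octads := MulAction.mem_stabilizer_iff.1 hσ
    rw [← h1]
    exact Set.smul_mem_smul_set ho
  · intro hσ
    exact MulAction.mem_stabilizer_iff.2 (smul_octads_of_mem hσ)

theorem isSteinerSystem_octads : IsSteinerSystem 5 8 octads := by
  refine ⟨fun b hb => hb.2, ?_⟩
  intro s hs
  obtain ⟨o, ho, hso⟩ := exists_octad_of_card_eq_five s hs
  refine ⟨o, ⟨ho, hso⟩, ?_⟩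
  rintro o' ⟨ho', hso'⟩
  apply octad_eq_of_card_inter ho' ho
  rw [← hs]
  exact Finset.card_le_card (Finset.subset_inter hso' hso)

end Cfsg.Agent.Lib.Helper7
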