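import Cfsg.Prelude.Def_Sporadic_a

set_option autoImplicit false

namespace Cfsg.Agent.Lib.Helper7

open Cfsg
open scoped Pointwise

section

variable {α β : Type*} [DecidableEq α] [DecidableEq β]

theorem smul_finset_perm (σ : Equiv.Perm α) (b : Finset α) : σ • b = b.image σ := by
  ext x
  simp [Finset.mem_smul_finset]

theorem permCongr_smul_image (e : α ≃ β) (σ : Equiv.Perm α) (b : Finset α) :
    (Equiv.permCongr e σ) • (b.image e) = (σ • b).image e := by
  rw [smul_finset_perm, smul_finset_perm, Finset.image_image, Finset.image_image]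
  congr 1
  funext a
  simp [Equiv.permCongr_apply]

theorem image_symm_eq (e : α ≃ β) {B : Set (Finset α)} {B' : Set (Finset β)}
    (h : (fun b => b.image e) '' B = B') : (fun b => b.image e.symm) '' B' = B := by
  rw [← h, Set.image_image]
  have : (fun b : Finset α => (b.image e).image e.symm) = id := by
    funext b
    rw [Finset.image_image]
    simp
  rw [this, Set.image_id]

theorem permCongr_mem_aut (e : α ≃ β) {B : Set (Finset α)} {B' : Set (Finset β)}
    (h : (fun b => b.image e) '' B = B') (σ : Equiv.Perm α) (hσ : σ ∈ setSystemAut B) :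
    Equiv.permCongr e σ ∈ setSystemAut B' := by
  rw [MulAction.mem_stabilizer_iff] at hσ ⊢
  apply Set.Subset.antisymm
  · rintro c ⟨b', hb', rfl⟩
    rw [← h] at hb'
    obtain ⟨b, hb, rfl⟩ := hb'
    show (Equiv.permCongr e σ) • (b.image e) ∈ B'
    rw [permCongr_smul_image, ← h]
    refine ⟨σ • b, ?_, rfl⟩
    rw [← hσ]
    exact Set.smul_mem_smul_set hb
  · intro b' hb'
    rw [← h] at hb'
    obtain ⟨b, hb, rfl⟩ := hb'
    have hb2 : b ∈ σ • B := by rw [hσ]; exact hb
    obtain ⟨b0, hb0, rfl⟩ := hb2
    refine ⟨b0.image e, ?_, ?_⟩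
    · rw [← h]
      exact ⟨b0, hb0, rfl⟩
    · show (Equiv.permCongr e σ) • (b0.image e) = (σ • b0).image e
      exact permCongr_smul_image e σ b0

/-- isomorphic set systems have isomorphic automorphism groups -/
def autEquiv (e : α ≃ β) {B : Set (Finset α)} {B' : Set (Finset β)}
    (h : (fun b => b.image e) '' B = B') : setSystemAut B ≃* setSystemAut B' where
  toFun σ := ⟨Equiv.permCongr e σ.1, permCongr_mem_aut e h σ.1 σ.2⟩
  invFun τ := ⟨Equiv.permCongr e.symm τ.1, permCongr_mem_aut e.symm (image_symm_eq e h) τ.1 τ.2⟩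
  left_inv σ := by
    apply Subtype.ext
    apply Equiv.ext
    intro a
    simp [Equiv.permCongr_apply]
  right_inv τ := by
    apply Subtype.ext
    apply Equiv.ext
    intro a
    simp [Equiv.permCongr_apply]
  map_mul' σ τ := by
    apply Subtype.ext
    apply Equiv.ext
    intro a
    simp [Equiv.permCongr_apply]

theorem autEquiv_apply (e : α ≃ β) {B : Set (Finset α)} {B' : Set (Finset β)}
    (h : (fun b => b.image e) '' B = B') (σ : setSystemAut B) (a : α) :
    ((autEquiv e h σ : setSystemAut B') : Equiv.Perm β) (e a) = e ((σ : Equiv.Perm α) a) := by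
  simp [autEquiv, Equiv.permCongr_apply]

theorem autEquiv_symm_apply (e : α ≃ β) {B : Set (Finset α)} {B' : Set (Finset β)}
    (h : (fun b => b.image e) '' B = B') (τ : setSystemAut B') (a : α) :
    (((autEquiv e h).symm τ : setSystemAut B) : Equiv.Perm α) a =
      e.symm ((τ : Equiv.Perm β) (e a)) := by
  simp [autEquiv, Equiv.permCongr_apply]

/-- multiple transitivity is transported -/
theorem isMultiplyPretransitive_of_iso (e : α ≃ β) {B : Set (Finset α)} {B' : Set (Finset β)}
    (h : (fun b => b.image e) '' B = B') (n : ℕ)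
    (ht : MulAction.IsMultiplyPretransitive (setSystemAut B') β n) :
    MulAction.IsMultiplyPretransitive (setSystemAut B) α n := by
  rw [MulAction.isMultiplyPretransitive_iff] at ht ⊢
  intro x y
  obtain ⟨g, hg⟩ := ht (x.trans e.toEmbedding) (y.trans e.toEmbedding)
  refine ⟨(autEquiv e h).symm g, ?_⟩
  ext i
  have h1 := DFunLike.congr_fun hg i
  show (((autEquiv e h).symm g : setSystemAut B) : Equiv.Perm α) (x i) = y i
  rw [autEquiv_symm_apply]
  have h2 : (g : Equiv.Perm β) (e (x i)) = e (y i) := h1
  rw [h2, Equiv.symm_apply_apply]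

end

end Cfsg.Agent.Lib.Helper7
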