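import Cfsg.Agent.Lib.Helper7.IsoTransport

set_option autoImplicit false

namespace Cfsg.Agent.Lib.Helper7.IsoT

open Cfsg

/-- `O_2(C(x))`, as a subgroup of the ambient group. -/
abbrev Qc {G : Type*} [Group G] (x : G) : Subgroup G :=
  (pCore 2 ↥(Subgroup.centralizer ({x} : Set G))).map (Subgroup.centralizer ({x} : Set G)).subtype

theorem mem_Qc_iff {G : Type*} [Group G] (x g : G) :
    g ∈ Qc x ↔ ∃ c ∈ pCore 2 ↥(Subgroup.centralizer ({x} : Set G)), (c : G) = g := by
  constructor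
  · rintro ⟨c, hc, rfl⟩
    exact ⟨c, hc, rfl⟩
  · rintro ⟨c, hc, rfl⟩
    exact ⟨c, hc, rfl⟩

theorem Qc_le {G : Type*} [Group G] (x : G) : Qc x ≤ Subgroup.centralizer ({x} : Set G) :=
  Subgroup.map_subtype_le _

theorem mem_Qc_of_mem {G : Type*} [Group G] (x : G)
    (c : ↥(Subgroup.centralizer ({x} : Set G)))
    (hc : c ∈ pCore 2 ↥(Subgroup.centralizer ({x} : Set G))) : (c : G) ∈ Qc x :=
  ⟨c, hc, rfl⟩

theorem mem_pCore_of_mem_Qc {G : Type*} [Group G] (x : G)
    (c : ↥(Subgroup.centralizer ({x} : Set G))) (hc : (c : G) ∈ Qc x) :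
    c ∈ pCore 2 ↥(Subgroup.centralizer ({x} : Set G)) := by
  obtain ⟨c', hc', h⟩ := hc
  have : c' = c := Subtype.ext h
  rwa [← this]

/-- a normal 2-subgroup of the centraliser lies in `Qc`. -/
theorem le_Qc_of_normal {G : Type*} [Group G] (x : G) (E : Subgroup G)
    (hE : E ≤ Subgroup.centralizer ({x} : Set G))
    (hnorm : ∀ c ∈ Subgroup.centralizer ({x} : Set G), ∀ g ∈ E, c * g * c⁻¹ ∈ E)
    (hp : IsPGroup 2 ↥E) : E ≤ Qc x := by
  have hN : (E.subgroupOf (Subgroup.centralizer ({x} : Set G))).Normal := by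
    constructor
    intro n hn c
    rw [Subgroup.mem_subgroupOf] at hn ⊢
    exact hnorm c c.2 n hn
  have hP : IsPGroup 2 ↥(E.subgroupOf (Subgroup.centralizer ({x} : Set G))) :=
    hp.of_equiv (Subgroup.subgroupOfEquivOfLe hE).symm
  have hle := Cfsg.Agent.Lib.Helper87.le_pCore hN hP
  intro g hg
  exact ⟨⟨g, hE hg⟩, hle (Subgroup.mem_subgroupOf.2 hg), rfl⟩

/-- conjugation identifies the centralisers of conjugate elements. -/
def centConj {G : Type*} [Group G] (k x y : G) (h : k * x * k⁻¹ = y) :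
    ↥(Subgroup.centralizer ({x} : Set G)) ≃* ↥(Subgroup.centralizer ({y} : Set G)) where
  toFun c := ⟨k * c * k⁻¹, by
    have hc := Subgroup.mem_centralizer_singleton_iff.1 c.2
    rw [Subgroup.mem_centralizer_singleton_iff, ← h]
    calc k * (c : G) * k⁻¹ * (k * x * k⁻¹) = k * ((c : G) * x) * k⁻¹ := by group
      _ = k * (x * (c : G)) * k⁻¹ := by rw [hc]
      _ = k * x * k⁻¹ * (k * (c : G) * k⁻¹) := by group⟩
  invFun c := ⟨k⁻¹ * c * k, by
    have hc := Subgroup.mem_centralizer_singleton_iff.1 c.2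
    have hx : x = k⁻¹ * y * k := by rw [← h]; group
    rw [Subgroup.mem_centralizer_singleton_iff, hx]
    calc k⁻¹ * (c : G) * k * (k⁻¹ * y * k) = k⁻¹ * ((c : G) * y) * k := by group
      _ = k⁻¹ * (y * (c : G)) * k := by rw [hc]
      _ = k⁻¹ * y * k * (k⁻¹ * (c : G) * k) := by group⟩
  left_inv c := Subtype.ext (by
    show k⁻¹ * (k * (c : G) * k⁻¹) * k = c
    group)
  right_inv c := Subtype.ext (by
    show k * (k⁻¹ * (c : G) * k) * k⁻¹ = c
    group)
  map_mul' a b := Subtype.ext (by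
    show k * ((a : G) * (b : G)) * k⁻¹ = k * (a : G) * k⁻¹ * (k * (b : G) * k⁻¹)
    group)

section transport

variable {G G' : Type*} [Group G] [Group G'] {z : G} {s : G'}
  (e : ↥(Subgroup.centralizer ({z} : Set G)) ≃* ↥(Subgroup.centralizer ({s} : Set G')))

include e

theorem mem_pCore_iff_equiv (c : ↥(Subgroup.centralizer ({z} : Set G))) :
    c ∈ pCore 2 ↥(Subgroup.centralizer ({z} : Set G)) ↔
      e c ∈ pCore 2 ↥(Subgroup.centralizer ({s} : Set G')) := by
  rw [← Cfsg.Agent.Lib.Helper87.pCore_map_equiv (p := 2) e]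
  constructor
  · intro h
    exact Subgroup.mem_map_of_mem _ h
  · rintro ⟨y, hy, hxy⟩
    have : y = c := e.injective hxy
    rwa [← this]

/-- the isomorphism between the embedded cores. -/
noncomputable def QcEquiv : ↥(Qc z) ≃* ↥(Qc s) :=
  ((Subgroup.equivMapOfInjective _ _ (Subgroup.subtype_injective _)).symm.trans
    ((e.subgroupMap _).trans
      (MulEquiv.subgroupCongr (Cfsg.Agent.Lib.Helper87.pCore_map_equiv (p := 2) e)))).trans
    (Subgroup.equivMapOfInjective _ _ (Subgroup.subtype_injective _))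

theorem isExtraspecial_Qc (h : IsExtraspecial 2 ↥(Qc s)) : IsExtraspecial 2 ↥(Qc z) :=
  isExtraspecial_of_equiv 2 (QcEquiv e).symm h

theorem card_Qc : Nat.card ↥(Qc z) = Nat.card ↥(Qc s) := Nat.card_congr (QcEquiv e).toEquiv

theorem centralizer_Qc (hz : z ∈ Qc z)
    (hC' : Subgroup.centralizer (Qc s : Set G') = (Subgroup.center ↥(Qc s)).map (Qc s).subtype) :
    Subgroup.centralizer (Qc z : Set G) = (Subgroup.center ↥(Qc z)).map (Qc z).subtype := by
  ext x
  constructor
  · intro hx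
    rw [Subgroup.mem_centralizer_iff] at hx
    have hxz : x ∈ Subgroup.centralizer ({z} : Set G) := by
      rw [Subgroup.mem_centralizer_singleton_iff]
      exact (hx z hz).symm
    have hec : ((e ⟨x, hxz⟩ : ↥(Subgroup.centralizer ({s} : Set G'))) : G') ∈
        Subgroup.centralizer (Qc s : Set G') := by
      rw [Subgroup.mem_centralizer_iff]
      intro y hy
      obtain ⟨c', hc', rfl⟩ := (mem_Qc_iff s y).1 hy
      obtain ⟨c₀, rfl⟩ := e.surjective c'
      have hc₀ := (mem_pCore_iff_equiv e c₀).2 hc'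
      have h1 : (c₀ : G) * x = x * (c₀ : G) := hx _ (mem_Qc_of_mem z c₀ hc₀)
      have h2 : c₀ * ⟨x, hxz⟩ = ⟨x, hxz⟩ * c₀ := Subtype.ext h1
      have h3 := congrArg e h2
      rw [map_mul, map_mul] at h3
      exact congrArg Subtype.val h3
    rw [hC'] at hec
    obtain ⟨q', -, hq'⟩ := hec
    have hxQ' : ((e ⟨x, hxz⟩ : ↥(Subgroup.centralizer ({s} : Set G'))) : G') ∈ Qc s := by
      rw [← hq']
      exact q'.2
    have hxP := (mem_pCore_iff_equiv e ⟨x, hxz⟩).2 (mem_pCore_of_mem_Qc s _ hxQ')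
    have hxQ : x ∈ Qc z := mem_Qc_of_mem z ⟨x, hxz⟩ hxP
    refine ⟨⟨x, hxQ⟩, ?_, rfl⟩
    rw [SetLike.mem_coe, Subgroup.mem_center_iff]
    intro g
    apply Subtype.ext
    exact hx g g.2
  · rintro ⟨q, hq, rfl⟩
    rw [Subgroup.mem_centralizer_iff]
    intro g hg
    rw [SetLike.mem_coe, Subgroup.mem_center_iff] at hq
    exact congrArg Subtype.val (hq ⟨g, hg⟩)

omit e in
theorem cent_le_normalizer_Qc (hz : z ∈ Qc z) :
    Subgroup.centralizer (((Subgroup.center ↥(Qc z)).map (Qc z).subtype : Subgroup G) : Set G) ≤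
      Subgroup.normalizer (Qc z : Set G) := by
  intro g hg
  rw [Subgroup.mem_centralizer_iff] at hg
  have hzc : z ∈ (Subgroup.center ↥(Qc z)).map (Qc z).subtype := by
    refine ⟨⟨z, hz⟩, ?_, rfl⟩
    rw [SetLike.mem_coe, Subgroup.mem_center_iff]
    intro q
    apply Subtype.ext
    have := Qc_le z q.2
    rw [Subgroup.mem_centralizer_singleton_iff] at this
    exact this
  have hgz : g ∈ Subgroup.centralizer ({z} : Set G) := by
    rw [Subgroup.mem_centralizer_singleton_iff]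
    exact (hg z hzc).symm
  have hN : (pCore 2 ↥(Subgroup.centralizer ({z} : Set G))).Normal :=
    Cfsg.Agent.Lib.Helper87.pCore_normal 2 _
  have h1 : (⟨g, hgz⟩ : ↥(Subgroup.centralizer ({z} : Set G))) ∈
      Subgroup.normalizer ((pCore 2 ↥(Subgroup.centralizer ({z} : Set G)) :
        Subgroup ↥(Subgroup.centralizer ({z} : Set G))) : Set _) := by
    rw [Subgroup.normalizer_eq_top_iff.2 hN]
    exact Subgroup.mem_top _
  exact Subgroup.le_normalizer_map (Subgroup.centralizer ({z} : Set G)).subtype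
    (Subgroup.mem_map_of_mem _ h1)

/-- transport of a complement. -/
theorem exists_complement (K5 : Subgroup G') (hK5 : K5 ≤ Subgroup.centralizer ({s} : Set G'))
    (hinf : Qc s ⊓ K5 = ⊥) (hsup : Qc s ⊔ K5 = Subgroup.centralizer ({s} : Set G')) :
    ∃ K : Subgroup G, K ≤ Subgroup.centralizer ({z} : Set G) ∧ Qc z ⊓ K = ⊥ ∧
      Qc z ⊔ K = Subgroup.centralizer ({z} : Set G) ∧ Nonempty (↥K ≃* ↥K5) := by
  refine ⟨((K5.subgroupOf (Subgroup.centralizer ({s} : Set G'))).map e.symm.toMonoidHom).map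
    (Subgroup.centralizer ({z} : Set G)).subtype, Subgroup.map_subtype_le _, ?_, ?_, ?_⟩
  · rw [eq_bot_iff]
    rintro g ⟨hgQ, ⟨c, ⟨k, hk, rfl⟩, rfl⟩⟩
    rw [SetLike.mem_coe, Subgroup.mem_subgroupOf] at hk
    have hP := mem_pCore_of_mem_Qc z _ hgQ
    rw [mem_pCore_iff_equiv e] at hP
    have hk' : ((e (e.symm.toMonoidHom k) : ↥(Subgroup.centralizer ({s} : Set G'))) : G') ∈
        Qc s ⊓ K5 := by
      refine ⟨mem_Qc_of_mem s _ hP, ?_⟩
      simpa using hk
    rw [hinf, Subgroup.mem_bot] at hk'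
    have h1 : e (e.symm.toMonoidHom k) = 1 := Subtype.ext hk'
    have h2 : e.symm.toMonoidHom k = 1 := by
      apply e.injective
      rw [h1, map_one]
    rw [Subgroup.mem_bot]
    show ((e.symm.toMonoidHom k : ↥(Subgroup.centralizer ({z} : Set G))) : G) = 1
    rw [h2]
    rfl
  · apply le_antisymm (sup_le (Qc_le z) (Subgroup.map_subtype_le _))
    intro g hg
    have hN : (pCore 2 ↥(Subgroup.centralizer ({s} : Set G'))).Normal :=
      Cfsg.Agent.Lib.Helper87.pCore_normal 2 _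
    have htop : pCore 2 ↥(Subgroup.centralizer ({s} : Set G')) ⊔
        K5.subgroupOf (Subgroup.centralizer ({s} : Set G')) = ⊤ := by
      have h1 := Subgroup.subgroupOf_sup (Qc_le s) hK5
      rw [hsup, Subgroup.subgroupOf_self] at h1
      rw [h1]
      congr 1
      ext c
      rw [Subgroup.mem_subgroupOf]
      exact ⟨fun h => mem_Qc_of_mem s c h, fun h => mem_pCore_of_mem_Qc s c h⟩
    have hmem : e ⟨g, hg⟩ ∈ ((pCore 2 ↥(Subgroup.centralizer ({s} : Set G')) ⊔
        K5.subgroupOf (Subgroup.centralizer ({s} : Set G')) : Subgroup _) : Set _) := by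
      rw [htop]
      exact Set.mem_univ _
    rw [Subgroup.normal_mul] at hmem
    obtain ⟨p', hp', k', hk', hpk⟩ := Set.mem_mul.1 hmem
    have hg' : (⟨g, hg⟩ : ↥(Subgroup.centralizer ({z} : Set G))) = e.symm p' * e.symm k' := by
      apply e.injective
      rw [map_mul, MulEquiv.apply_symm_apply, MulEquiv.apply_symm_apply]
      exact hpk.symm
    have hg'' : g = ((e.symm p' : ↥(Subgroup.centralizer ({z} : Set G))) : G) *
        ((e.symm k' : ↥(Subgroup.centralizer ({z} : Set G))) : G) := congrArg Subtype.val hg'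
    rw [hg'']
    apply Subgroup.mul_mem_sup
    · apply mem_Qc_of_mem
      rw [mem_pCore_iff_equiv e, MulEquiv.apply_symm_apply]
      exact hp'
    · exact ⟨e.symm k', ⟨k', hk', rfl⟩, rfl⟩
  · exact ⟨((Subgroup.equivMapOfInjective _ _ (Subgroup.subtype_injective _)).symm.trans
      (e.symm.subgroupMap _).symm).trans (Subgroup.subgroupOfEquivOfLe hK5)⟩

end transport

end Cfsg.Agent.Lib.Helper7.IsoT
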