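import Cfsg.Agent.Lib.Helper7.M12Chain

set_option autoImplicit false

namespace Cfsg.Agent.Lib.Helper7

open Cfsg
open scoped Pointwise

theorem mem_take_getD {bs : List ℕ} {m t : ℕ} (ht : t < m) (hm : m ≤ bs.length) :
    bs.getD t 0 ∈ bs.take m := by
  rw [List.getD_eq_getElem _ _ (by omega)]
  rw [List.mem_take_iff_getElem]
  exact ⟨t, by omega, rfl⟩

theorem exists_of_mem_take {bs : List ℕ} {m b : ℕ} (hb : b ∈ bs.take m) :
    ∃ t, t < m ∧ t < bs.length ∧ bs.getD t 0 = b := by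
  rw [List.mem_take_iff_getElem] at hb
  obtain ⟨t, ht, rfl⟩ := hb
  refine ⟨t, by omega, by omega, ?_⟩
  rw [List.getD_eq_getElem _ _ (by omega)]

/-- multiple transitivity from a chain of transitive stabilisers -/
theorem chain_multi_trans (K : Subgroup (Equiv.Perm GolayPt)) (D : Finset GolayPt)
    (hD : ∀ σ ∈ K, ∀ p ∈ D, σ p ∈ D) (bs : List ℕ)
    (hchain : ∀ i < bs.length, ∀ z ∈ D, (∀ b ∈ bs.take i, z ≠ pt b) →
      ∃ τ ∈ fixIn K (bs.take i), τ (pt (bs.getD i 0)) = z)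
    (y : ℕ → GolayPt) (hy : ∀ i < bs.length, y i ∈ D)
    (hinj : ∀ i < bs.length, ∀ j < bs.length, y i = y j → i = j) :
    ∀ m ≤ bs.length, ∃ σ ∈ K, ∀ i < m, σ (pt (bs.getD i 0)) = y i := by
  intro m
  induction m with
  | zero => exact fun _ => ⟨1, K.one_mem, fun i hi => absurd hi (Nat.not_lt_zero i)⟩
  | succ m ih =>
    intro hm
    obtain ⟨σ, hσ, h1⟩ := ih (by omega)
    have hz : σ⁻¹ (y m) ∈ D := hD _ (K.inv_mem hσ) _ (hy m (by omega))
    have hne : ∀ b ∈ bs.take m, σ⁻¹ (y m) ≠ pt b := by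
      intro b hb heq
      obtain ⟨t, ht, htl, rfl⟩ := exists_of_mem_take hb
      have h2 := h1 t ht
      rw [← heq] at h2
      simp at h2
      have := hinj m (by omega) t htl h2
      omega
    obtain ⟨τ, hτ, h3⟩ := hchain m (by omega) _ hz hne
    rw [mem_fixIn] at hτ
    refine ⟨σ * τ, K.mul_mem hσ hτ.1, ?_⟩
    intro i hi
    rw [Equiv.Perm.mul_apply]
    rcases Nat.lt_succ_iff_lt_or_eq.1 hi with hi' | rfl
    · rw [hτ.2 _ (mem_take_getD hi' (by omega)), h1 i hi']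
    · rw [h3]
      simp

end Cfsg.Agent.Lib.Helper7
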