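import Cfsg.Agent.Lib.Helper7.Ext22Base
import Cfsg.Agent.Lib.Helper7.Ext22C6

set_option autoImplicit false
set_option maxRecDepth 1000000
set_option maxHeartbeats 0

namespace Cfsg.Agent.Lib.Helper7

open Cfsg

def ext22L5 : List ℕ := [4229001, 4563017, 10881097, 7864649, 213833, 593097, 2110153, 2031657, 6570537, 2269481, 118953, 11535529, 1075305, 4330601, 8946281, 3297305, 8619033, 6302745, 4788761, 2916505, 1122713, 1312345, 39257, 8663097, 542009, 133817, 1302533, 10630149, 4299781, 6857221, 9112069, 3031301, 5571333, 864389, 2363013, 3182981, 8471941, 1869893, 8675909, 2173253, 530245, 153797, 5252293, 10846245, 4597797, 1332261, 9969957, 52005, 689317, 4800613, 3277413, 8966165, 3736597, 1063445, 4343317, 304405, 9830549, 4721045, 6557781, 99029, 2121909, 201013, 8391797, 430605, 4223245, 1182989, 1589901, 8431757, 6488205, 2147405, 9506893, 2627629, 346141, 663645, 262637, 75309, 10486557, 5275709, 9347075, 7145475, 1460739, 4470275, 11731203, 5286147, 185603, 9465987, 2204803, 563843, 1836419, 6447171, 8505411, 3152963, 1647171, 2392899,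 4264387, 3719203, 8983587, 4424227, 10496547, 352547, 2494627, 657763, 18147, 1413139, 10765331, 2634003, 69395, 737427, 4752467, 8524371, 1188915, 4216883, 8421811, 272595, 7340691, 210955, 5325835, 2754059, 2115979, 806987, 1212619, 298027, 1053483, 2162811, 57883, 4587803, 9963547, 551943, 2183687, 140167, 459847, 2263063, 786999, 45159, 1065303, 1116327, 3416079, 622863, 5279, 8716939, 8398155, 4726955, 5902343, 9471495, 8657159, 4505735, 11010247, 6292775, 8536111, 4196943, 12584506, 12587685, 12594948, 12599513, 12604486, 12624578, 12638592, 12641313, 12650793, 12656663, 12661896, 12685424, 12698124, 12717187, 12720156, 12726562, 12733024, 12747077, 12780432, 12849992, 12861748, 12871690, 12880401, 12912836, 12944642, 12985424, 13009064, 13062145, 13108704, 13121601, 13124355, 13142054, 13148440, 13192208, 13262980, 13276672, 13303882, 13370381, 13373586, 13443616, 13631886, 13636881, 13641904, 13667400, 13703682, 13721920, 13771273, 13811730, 13829156, 13893731, 13911680, 13938692, 14156372, 14176296, 14254209, 14551296, 14682450, 14688364,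 14709264, 14714004, 14716939, 14747201, 14762146, 14828808, 14919680, 14949408, 14950785, 15073798, 15207048, 15274244, 15335473, 15515712, 15747077, 15762208, 15864000, 16056344, 16262146]

def ext22T5 : STree :=
  .node 4489 (.kid 9043968 (.node 9353 (.kid 409600 (.node 6281 (.kid 5505024 (.node 2825 (.kid 794624 (.node 5385 (.kid 2424832 (.node 49417 (.kid 9699328 (.node 3593 (.kid 8409088 (.node 35337 (.kid 3211264 (.node 13321 (.kid 1605632 (.node 51209 (.kid 4849664 (.node 90121 (.kid 11010048 (.node 241 (.kid 1576960 (.node 369 (.kid 4203008 (.node 16497 (.kid 425984 (.node 1201 (.kid 4521984 (.node 2353 (.kid 3407872 (.node 1585 (.kid 2134016 (.node 16945 (.kid 9502720 (.node 10289 (.kid 622592 (.node 465 (.kid 2229248 (.node 65873 (.kid 9175040 (.node 2641 (.kid 2637824 (.node 5201 (.kid 90112 (.node 67665 (.kid 5373952 (.node 41041 (.kid 11534336 (.node 913 (.kid 282624 (.node 1681 (.kid 8921088 (.node 3217 (.kid 1097728 (.node 6289 (.kid 10551296 (.node 12433 (.kid 4358144 (.node 33553 (.kid 1703936 (.node 10513 (.kid 8536064 (.node 49425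 (.kid 6356992 (.node 74257 (.kid 2490368 (.node 7185 (.kid 917504 (.node 286737 (.kid 5767168 (.node 2273 (.kid 6324224 (.node 8417 (.kid 8585216 (.node 1377 (.kid 1146880 (.node 4449 (.kid 10502144 (.node 2657 (.kid 331776 (.node 9313 (.kid 2883584 (.node 929 (.kid 2686976 (.node 1441 (.kid 14336 (.node 16801 (.kid 5373952 (.node 8865 (.kid 1343488 (.node 18593 (.kid 9175040 (.node 1825 (.kid 8781824 (.node 37153 (.kid 4980736 (.node 3617 (.kid 5767168 (.node 12833 (.kid 671744 (.node 19489 (.kid 2293760 (.node 38945 (.kid 9568256 (.node 77857 (.kid 7340032 (.node 961 (.kid 9439232 (.node 8641 (.kid 573440 (.node 131777 (.kid 4980736 (.node 5313 (.kid 8683520 (.node 82113 (.kid 3407872 (.node 3393 (.kid 4472832 (.node 12609 (.kid 1441792 (.node 3649 (.kid 172032 (.node 21057 (.kid 5275648 (.node 148545 (.kid 9961472 (.node 102465 (.kid 2752512 (.node 35201 (.kid 458752 (.node 5761 (.kid 1245184 (.node 10881 (.kid 4276224 (.node 49793 (.kid 10616832 (.node 21633 (.kid 6815744 (.node 141441 (.kid 3670016 (.node 9985 (.kid 3162112 (.node 6913 (.kid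 6422528 (.node 13057 (.kid 8486912 (.node 36097 (.kid 11010048 (.node 75009 (.kid 4849664 (.node 22785 (.kid 1638400 (.node 50689 (.kid 851968 (.node 791041 (.kid 11534336 (.node 76801 (.kid 9699328 (.node 427009 (.kid 7340032 (.node 30721 (.kid 2392064 (.node 62 (.kid 10496 (.node 94 (.kid 8683520 (.node 542 (.kid 1245184 (.node 16414 (.kid 6815744 (.node 110 (.kid 1573888 (.node 174 (.kid 2130432 (.node 4142 (.kid 4521984 (.node 206 (.kid 90112 (.node 334 (.kid 2232320 (.node 2190 (.kid 917504 (.node 782 (.kid 279552 (.node 4622 (.kid 8921088 (.node 3086 (.kid 10551296 (.node 9230 (.kid 4358144 (.node 6158 (.kid 1097728 (.node 118 (.kid 4325504 (.node 1078 (.kid 114688 (.node 4150 (.kid 11534336 (.node 598 (.kid 2106368 (.node 2134 (.kid 593920 (.node 406 (.kid 2424832 (.node 662 (.kid 8407040 (.node 8342 (.kid 1605632 (.node 790 (.kid 4231168 (.node 1302 (.kid 9043968 (.node 3094 (.kid 5505024 (.node 12310 (.kid 409600 (.node 358 (.kid 8454656 (.node 2150 (.kid 2375680 (.node 422 (.kid 544768 (.node 1190 (.kid 8658944 (.node 33062 (.kid 1441792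 (.node 1574 (.kid 137216 (.node 8742 (.kid 5259264 (.node 73766 (.kid 2752512 (.node 454 (.kid 35840 (.node 710 (.kid 1314816 (.node 8518 (.kid 4980736 (.node 16966 (.kid 688128 (.node 10310 (.kid 9568256 (.node 98374 (.kid 7340032 (.node 1670 (.kid 4784128 (.node 17542 (.kid 3276800 (.node 6278 (.kid 6299648 (.node 36998 (.kid 8585216 (.node 2822 (.kid 3670016 (.node 5382 (.kid 1122304 (.node 18694 (.kid 4390912 (.node 24838 (.kid 10518528 (.node 10758 (.kid 360448 (.node 37894 (.kid 2883584 (.node 344070 (.kid 9961472 (.node 186 (.kid 1327104 (.node 4154 (.kid 688128 (.node 218 (.kid 525056 (.node 1114 (.kid 149504 (.node 4186 (.kid 5251072 (.node 2202 (.kid 4292608 (.node 8346 (.kid 10616832 (.node 1306 (.kid 3178496 (.node 4378 (.kid 8470528 (.node 2586 (.kid 2363392 (.node 9242 (.kid 851968 (.node 234 (.kid 8394752 (.node 362 (.kid 4243456 (.node 618 (.kid 401408 (.node 426 (.kid 197632 (.node 262442 (.kid 11010048 (.leaf 0 0 0 0) .done)) .done)) .done)) .done)) .done)) .done)) .done)) .done)) .done)) .done)) .done)) .done)) .done)) .done))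 .done)) .done)) .done)) .done)) .done)) .done)) .done)) .done)) .done)) .done)) .done)) .done)) .done)) .done)) .done)) .done)) .done)) .done)) .done)) .done)) .done)) .done)) .done)) .done)) .done)) .done)) .done)) .done)) .done)) .done)) .done)) .done)) .done)) .done)) .done)) .done)) .done)) .done)) .done)) .done)) .done)) .done)) .done)) .done)) .done)) .done)) .done)) .done)) .done)) .done)) .done)) .done)) .done)) .done)) .done)) .done)) .done)) .done)) .done)) .done)) .done)) .done)) .done)) .done)) .done)) .done)) .done)) .done)) .done)) .done)) .done)) .done)) .done)) .done)) .done)) .done)) .done)) .done)) .done)) .done)) .done)) .done)) .done)) .done)) .done)) .done)) .done)) .done)) .done)) .done)) .done)) .done)) .done)) .done)) .done)) .done)) .done)) .done)) .done)) .done)) .done)) .done)) .done)) .done)) .done)) .done)) .done)) .done)) .done)) .done)) .done)) .done)) .done)) .done)) .done)) .done)) .done)) .done)) .done)) .done)) .done)) .done)) .done)) .done)) .done)) .done)) .done)) .done)) .done)) .done)) .done)) .done)) .done))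 .done)) .done)) .done)

theorem ext22_check5 : ext22T5.checkQ 16777215 5 8 (leafAny [ext22L6]) ext22L5 = true := by
  decide +kernel

theorem ext22_good5 (Q : Set (Finset GolayPt) → Prop)
    (h0 : GoodQ 16777215 5 8 Q ext22B0l) (h1 : GoodQ 16777215 5 8 Q ext22B1l) :
    GoodQ 16777215 5 8 Q ext22L5 := by
  refine STree.checkQ_sound 16777215 5 8 (leafAny [ext22L6]) Q (goodQ_of_leafAny ?_) ext22T5 ext22L5 ext22_check5
  intro T hT
  simp only [List.mem_cons, List.not_mem_nil, or_false] at hT
  rcases hT with rfl
  · exact ext22_good6 Q h0 h1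

end Cfsg.Agent.Lib.Helper7
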