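import Cfsg.Agent.Lib.Helper7.Ext22Base
import Cfsg.Agent.Lib.Helper7.Ext22C1
import Cfsg.Agent.Lib.Helper7.Ext22C5

set_option autoImplicit false
set_option maxRecDepth 1000000
set_option maxHeartbeats 0

namespace Cfsg.Agent.Lib.Helper7

open Cfsg

def ext22L0 : List ℕ := [12584506, 12587685, 12594948, 12599513, 12604486, 12624578, 12638592, 12641313, 12650793, 12656663, 12661896, 12685424, 12698124, 12717187, 12720156, 12726562, 12733024, 12747077, 12780432, 12849992, 12861748, 12871690, 12880401, 12912836, 12944642, 12985424, 13009064, 13062145, 13108704, 13121601, 13124355, 13142054, 13148440, 13192208, 13262980, 13276672, 13303882, 13370381, 13373586, 13443616, 13631886, 13636881, 13641904, 13667400, 13703682, 13721920, 13771273, 13811730, 13829156, 13893731, 13911680, 13938692, 14156372, 14176296, 14254209, 14551296, 14682450, 14688364, 14709264, 14714004, 14716939, 14747201, 14762146, 14828808, 14919680, 14949408, 14950785, 15073798, 15207048, 15274244, 15335473, 15515712, 15747077, 15762208, 15864000, 16056344, 16262146]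

def ext22T0 : STree :=
  .node 4194319 (.kid 147488 (.node 8388623 (.kid 2624 (.node 8388647 (.kid 2098432 (.node 4194375 (.kid 2621568 (.node 8388743 (.kid 311296 (.node 4194567 (.kid 268288 (.node 4194823 (.kid 1082368 (.node 8392711 (.kid 1703936 (.node 8388651 (.kid 532608 (.node 4194379 (.kid 9472 (.node 4194443 (.kid 328192 (.node 143 (.kid 5136 (.node 271 (.kid 622592 (.node 8207 (.kid 3407872 (.node 167 (.kid 1116160 (.node 1048599 (.kid 16704 (.node 103 (.kid 45056 (.node 55 (.kid 786944 (.node 2071 (.kid 2260992 (.node 1095 (.kid 458752 (.node 391 (.kid 139776 (.node 4615 (.kid 2179072 (.node 3079 (.kid 548864 (.node 4194331 (.kid 1574912 (.node 8388635 (.kid 393472 (.node 8219 (.kid 49664 (.node 59 (.kid 2162752 (.node 299 (.kid 1053184 (.node 1067 (.kid 296960 (.node 203 (.kid 1212416 (.node 4171 (.kid 802816 (.node 395 (.kid 2115584 (.node 1547 (.kid 2752512 (.node 17419 (.kid 9502720 (.node 6155 (.kid 204800 (.node 4194451 (.kid 33056 (.node 1048627 (.kid 140288 (.node 2099 (.kid 8409088 (.node 4179 (.kid 4325888 (.node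 211 (.kid 272384 (.node 1107 (.kid 8945664 (.node 659 (.kid 11534336 (.node 16531 (.kid 720896 (.node 787 (.kid 68608 (.node 4371 (.kid 2629632 (.node 17427 (.kid 6553600 (.node 36883 (.kid 1376256 (.node 227 (.kid 17920 (.node 355 (.kid 657408 (.node 4259 (.kid 2490368 (.node 8483 (.kid 344064 (.node 2595 (.kid 6299648 (.node 33315 (.kid 8585216 (.node 5155 (.kid 4784128 (.node 49187 (.kid 3670016 (.node 451 (.kid 8458240 (.node 835 (.kid 2392064 (.node 8771 (.kid 1638400 (.node 3139 (.kid 3149824 (.node 18499 (.kid 4292608 (.node 24643 (.kid 10616832 (.node 1411 (.kid 1835008 (.node 2691 (.kid 561152 (.node 9347 (.kid 2195456 (.node 12419 (.kid 5259264 (.node 5379 (.kid 180224 (.node 10499 (.kid 9469952 (.node 196867 (.kid 7340032 (.node 5635 (.kid 8658944 (.node 18947 (.kid 1441792 (.node 329731 (.kid 11010048 (.node 172035 (.kid 4980736 (.node 8388653 (.kid 1081360 (.node 4194333 (.kid 2097920 (.node 557 (.kid 74752 (.node 301 (.kid 262336 (.node 93 (.kid 663552 (.node 2077 (.kid 344064 (.node 2093 (.kid 2625536 (.node 4173 (.kid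 5308416 (.node 1101 (.kid 2146304 (.node 65677 (.kid 10616832 (.node 2189 (.kid 4235264 (.node 653 (.kid 1589248 (.node 1293 (.kid 1181696 (.node 4365 (.kid 8413184 (.node 4621 (.kid 425984 (.node 117 (.kid 4197376 (.node 4149 (.kid 196864 (.node 181 (.kid 2121728 (.node 213 (.kid 98816 (.node 4181 (.kid 10747904 (.node 405 (.kid 8914944 (.node 131221 (.kid 5505024 (.node 1301 (.kid 303104 (.node 1557 (.kid 8536064 (.node 2581 (.kid 1060864 (.node 66581 (.kid 3670016 (.node 20501 (.kid 4751360 (.node 613 (.kid 3276800 (.node 16485 (.kid 8978432 (.node 1189 (.kid 688128 (.node 805 (.kid 51200 (.node 8485 (.kid 5767168 (.node 5157 (.kid 1327104 (.node 10277 (.kid 8781824 (.node 98341 (.kid 6553600 (.node 1221 (.kid 9445376 (.node 2245 (.kid 151552 (.node 837 (.kid 529408 (.node 2373 (.kid 2170880 (.node 8773 (.kid 4472832 (.node 34885 (.kid 1835008 (.node 1413 (.kid 4276224 (.node 4485 (.kid 3178496 (.node 1669 (.kid 2361344 (.node 12421 (.kid 851968 (.node 66309 (.kid 9699328 (.node 147717 (.kid 2883584 (.node 68101 (.kid 4849664 (.node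 41477 (.kid 11010048 (.node 7173 (.kid 8486912 (.node 13317 (.kid 6422528 (.node 57349 (.kid 1245184 (.node 185 (.kid 133632 (.node 1081 (.kid 540928 (.node 4153 (.kid 4464640 (.node 345 (.kid 38912 (.node 601 (.kid 1311744 (.node 409 (.kid 1122304 (.node 32921 (.kid 2883584 (.node 4633 (.kid 8978432 (.node 3097 (.kid 10493952 (.node 33817 (.kid 4390912 (.node 20505 (.kid 3276800 (.node 617 (.kid 4751360 (.node 1129 (.kid 8523776 (.node 2153 (.kid 1073152 (.node 1193 (.kid 7340032 (.node 4265 (.kid 114688 (.node 8489 (.kid 2260992 (.node 16937 (.kid 10747904 (.node 196649 (.kid 1835008 (.node 713 (.kid 2109440 (.node 1225 (.kid 591872 (.node 841 (.kid 212992 (.node 524617 (.kid 11534336 (.node 133193 (.kid 6553600 (.node 41033 (.kid 8716288 (.node 905 (.kid 8422400 (.leaf 0 0 0 0) .done)) .done)) .done)) .done)) .done)) .done)) .done)) .done)) .done)) .done)) .done)) .done)) .done)) .done)) .done)) .done)) .done)) .done)) .done)) .done)) .done)) .done)) .done)) .done)) .done)) .done)) .done)) .done)) .done)) .done)) .done)) .done))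 .done)) .done)) .done)) .done)) .done)) .done)) .done)) .done)) .done)) .done)) .done)) .done)) .done)) .done)) .done)) .done)) .done)) .done)) .done)) .done)) .done)) .done)) .done)) .done)) .done)) .done)) .done)) .done)) .done)) .done)) .done)) .done)) .done)) .done)) .done)) .done)) .done)) .done)) .done)) .done)) .done)) .done)) .done)) .done)) .done)) .done)) .done)) .done)) .done)) .done)) .done)) .done)) .done)) .done)) .done)) .done)) .done)) .done)) .done)) .done)) .done)) .done)) .done)) .done)) .done)) .done)) .done)) .done)) .done)) .done)) .done)) .done)) .done)) .done)) .done)) .done)) .done)) .done)) .done)) .done)) .done)) .done)) .done)) .done)) .done)) .done)) .done)) .done)) .done)) .done)) .done)) .done)) .done)) .done)) .done)) .done)) .done)) .done)) .done)) .done)) .done)) .done)) .done)) .done)) .done)) .done)) .done)) .done)) .done)) .done)) .done)) .done)) .done)) .done)) .done)) .done)) .done)) (.kid 2624 (.node 8388623 (.kid 147488 (.node 4194343 (.kid 2098432 (.node 8388679 (.kid 2621568 (.node 4194439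 (.kid 311296 (.node 8388871 (.kid 268288 (.node 8389127 (.kid 1082368 (.node 4198407 (.kid 1703936 (.node 4194347 (.kid 532608 (.node 8388683 (.kid 9472 (.node 8388747 (.kid 328192 (.node 143 (.kid 5136 (.node 271 (.kid 622592 (.node 8207 (.kid 3407872 (.node 167 (.kid 1116160 (.node 1048599 (.kid 16704 (.node 103 (.kid 45056 (.node 55 (.kid 786944 (.node 2071 (.kid 2260992 (.node 1095 (.kid 458752 (.node 391 (.kid 139776 (.node 4615 (.kid 2179072 (.node 3079 (.kid 548864 (.node 8388635 (.kid 1574912 (.node 4194331 (.kid 393472 (.node 8219 (.kid 49664 (.node 59 (.kid 2162752 (.node 299 (.kid 1053184 (.node 1067 (.kid 296960 (.node 203 (.kid 1212416 (.node 4171 (.kid 802816 (.node 395 (.kid 2115584 (.node 1547 (.kid 2752512 (.node 17419 (.kid 5308416 (.node 6155 (.kid 204800 (.node 4194451 (.kid 3146240 (.node 211 (.kid 272384 (.node 8388755 (.kid 33056 (.node 2099 (.kid 4214784 (.node 1075 (.kid 1187840 (.node 4179 (.kid 8520192 (.node 1107 (.kid 4751360 (.node 16531 (.kid 720896 (.node 787 (.kid 68608 (.node 4371 (.kid 2629632 (.node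 17427 (.kid 10747904 (.node 36883 (.kid 1376256 (.node 227 (.kid 17920 (.node 355 (.kid 657408 (.node 4259 (.kid 2490368 (.node 8483 (.kid 344064 (.node 2595 (.kid 10493952 (.node 33315 (.kid 4390912 (.node 5155 (.kid 8978432 (.node 49187 (.kid 3670016 (.node 451 (.kid 4263936 (.node 835 (.kid 2392064 (.node 8771 (.kid 1638400 (.node 3139 (.kid 3149824 (.node 18499 (.kid 8486912 (.node 24643 (.kid 6422528 (.node 1411 (.kid 1835008 (.node 2691 (.kid 561152 (.node 9347 (.kid 2195456 (.node 12419 (.kid 9453568 (.node 5379 (.kid 180224 (.node 10499 (.kid 5275648 (.node 196867 (.kid 11534336 (.node 5635 (.kid 4464640 (.node 18947 (.kid 1441792 (.node 329731 (.kid 6815744 (.node 172035 (.kid 9175040 (.node 4194349 (.kid 1081360 (.node 8388637 (.kid 2097920 (.node 557 (.kid 74752 (.node 301 (.kid 262336 (.node 93 (.kid 663552 (.node 2077 (.kid 344064 (.node 2093 (.kid 2625536 (.node 4173 (.kid 9502720 (.node 1101 (.kid 2146304 (.node 65677 (.kid 6422528 (.node 2189 (.kid 8429568 (.node 653 (.kid 1589248 (.node 1293 (.kid 1181696 (.node 4365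 (.kid 4218880 (.node 4621 (.kid 425984 (.node 117 (.kid 8391680 (.node 4149 (.kid 196864 (.node 181 (.kid 2121728 (.node 213 (.kid 98816 (.node 4181 (.kid 6553600 (.node 405 (.kid 4720640 (.node 131221 (.kid 9699328 (.node 1301 (.kid 303104 (.node 1557 (.kid 4341760 (.node 2581 (.kid 1060864 (.node 66581 (.kid 3670016 (.node 20501 (.kid 8945664 (.node 613 (.kid 3276800 (.node 16485 (.kid 4784128 (.node 1189 (.kid 688128 (.node 805 (.kid 51200 (.node 8485 (.kid 9961472 (.node 5157 (.kid 1327104 (.node 10277 (.kid 4587520 (.node 98341 (.kid 10747904 (.node 1221 (.kid 5251072 (.node 2245 (.kid 151552 (.node 837 (.kid 529408 (.node 2373 (.kid 2170880 (.node 8773 (.kid 8667136 (.node 34885 (.kid 1835008 (.node 1413 (.kid 8470528 (.node 4485 (.kid 3178496 (.node 1669 (.kid 2361344 (.node 12421 (.kid 851968 (.node 66309 (.kid 5505024 (.node 147717 (.kid 2883584 (.node 68101 (.kid 9043968 (.node 41477 (.kid 6815744 (.node 7173 (.kid 4292608 (.node 13317 (.kid 10616832 (.node 57349 (.kid 1245184 (.node 185 (.kid 133632 (.node 1081 (.kid 540928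 (.node 4153 (.kid 8658944 (.node 345 (.kid 38912 (.node 601 (.kid 1311744 (.node 409 (.kid 1122304 (.node 32921 (.kid 2883584 (.node 4633 (.kid 4784128 (.node 3097 (.kid 6299648 (.node 33817 (.kid 8585216 (.node 20505 (.kid 3276800 (.node 617 (.kid 8945664 (.node 1129 (.kid 4329472 (.node 2153 (.kid 1073152 (.node 1193 (.kid 11534336 (.node 4265 (.kid 114688 (.node 8489 (.kid 2260992 (.node 16937 (.kid 6553600 (.node 196649 (.kid 1835008 (.node 713 (.kid 2109440 (.node 1225 (.kid 591872 (.node 841 (.kid 212992 (.node 524617 (.kid 7340032 (.node 133193 (.kid 10747904 (.node 41033 (.kid 4521984 (.node 905 (.kid 4228096 (.leaf 0 0 0 0) .done)) .done)) .done)) .done)) .done)) .done)) .done)) .done)) .done)) .done)) .done)) .done)) .done)) .done)) .done)) .done)) .done)) .done)) .done)) .done)) .done)) .done)) .done)) .done)) .done)) .done)) .done)) .done)) .done)) .done)) .done)) .done)) .done)) .done)) .done)) .done)) .done)) .done)) .done)) .done)) .done)) .done)) .done)) .done)) .done)) .done)) .done)) .done)) .done)) .done)) .done))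 .done)) .done)) .done)) .done)) .done)) .done)) .done)) .done)) .done)) .done)) .done)) .done)) .done)) .done)) .done)) .done)) .done)) .done)) .done)) .done)) .done)) .done)) .done)) .done)) .done)) .done)) .done)) .done)) .done)) .done)) .done)) .done)) .done)) .done)) .done)) .done)) .done)) .done)) .done)) .done)) .done)) .done)) .done)) .done)) .done)) .done)) .done)) .done)) .done)) .done)) .done)) .done)) .done)) .done)) .done)) .done)) .done)) .done)) .done)) .done)) .done)) .done)) .done)) .done)) .done)) .done)) .done)) .done)) .done)) .done)) .done)) .done)) .done)) .done)) .done)) .done)) .done)) .done)) .done)) .done)) .done)) .done)) .done)) .done)) .done)) .done)) .done)) .done)) .done)) .done)) .done)) .done)) .done)) .done)) .done)) .done)) .done)) .done)) .done))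

theorem ext22_check0 : ext22T0.checkQ 16777215 5 8 (leafAny [ext22L1, ext22L5]) ext22L0 = true := by
  decide +kernel

theorem ext22_good0 (Q : Set (Finset GolayPt) → Prop)
    (h0 : GoodQ 16777215 5 8 Q ext22B0l) (h1 : GoodQ 16777215 5 8 Q ext22B1l) :
    GoodQ 16777215 5 8 Q ext22L0 := by
  refine STree.checkQ_sound 16777215 5 8 (leafAny [ext22L1, ext22L5]) Q (goodQ_of_leafAny ?_) ext22T0 ext22L0 ext22_check0
  intro T hT
  simp only [List.mem_cons, List.not_mem_nil, or_false] at hT
  rcases hT with rfl | rfl
  · exact ext22_good1 Q h0 h1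
  · exact ext22_good5 Q h0 h1

end Cfsg.Agent.Lib.Helper7
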