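import Cfsg.Prelude.Def_Sporadic_a

set_option autoImplicit false

namespace Cfsg.Agent.Lib.Helper7

open Cfsg
open scoped Pointwise

/-- support of a word transported along a coordinate permutation -/
theorem support₂_comp_symm {α : Type*} [Fintype α] [DecidableEq α] (σ : Equiv.Perm α)
    (w : α → ZMod 2) : support₂ (w ∘ σ.symm) = σ • support₂ w := by
  ext p
  simp only [support₂, Finset.mem_filter, Finset.mem_univ, true_and, Function.comp_apply,
    Finset.mem_smul_finset, Equiv.Perm.smul_def]
  constructor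
  · intro h
    exact ⟨σ.symm p, h, by simp⟩
  · rintro ⟨q, hq, rfl⟩
    simpa using hq

/-- If a coordinate permutation maps a code into itself, it lies in the stabiliser of the
family of supports. -/
theorem mem_setSystemAut_supports {α : Type*} [Fintype α] [DecidableEq α]
    (C : Submodule (ZMod 2) (α → ZMod 2)) (σ : Equiv.Perm α)
    (h : ∀ w ∈ C, w ∘ σ.symm ∈ C) :
    σ ∈ setSystemAut (supports (C : Set (α → ZMod 2))) := by
  unfold setSystemAut
  rw [MulAction.mem_stabilizer_set_iff_smul_set_subset (Set.toFinite _)]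
  rintro b ⟨a, ⟨w, hw, rfl⟩, rfl⟩
  refine ⟨w ∘ σ.symm, h w hw, ?_⟩
  simpa using support₂_comp_symm σ w

/-- Enough to check generators. -/
theorem mem_setSystemAut_supports_span {α : Type*} [Fintype α] [DecidableEq α]
    (S : Set (α → ZMod 2)) (σ : Equiv.Perm α)
    (h : ∀ w ∈ S, w ∘ σ.symm ∈ Submodule.span (ZMod 2) S) :
    σ ∈ setSystemAut (supports ((Submodule.span (ZMod 2) S : Submodule (ZMod 2) (α → ZMod 2)) :
      Set (α → ZMod 2))) := by
  apply mem_setSystemAut_supports
  intro w hw
  have : Submodule.span (ZMod 2) S ≤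
      (Submodule.span (ZMod 2) S).comap (LinearMap.funLeft (ZMod 2) (ZMod 2) σ.symm) := by
    rw [Submodule.span_le]
    intro v hv
    exact h v hv
  exact this hw

theorem mem_M24_of_gens (σ : Equiv.Perm GolayPt)
    (h : ∀ t : ZMod 23, qrWord t ∘ σ.symm ∈ golayCode)
    (h1 : (1 : GolayPt → ZMod 2) ∘ σ.symm ∈ golayCode) : σ ∈ M24 := by
  unfold M24 golayCode
  apply mem_setSystemAut_supports_span
  rintro w (⟨t, rfl⟩ | rfl)
  · exact h t
  · exact h1

theorem one_comp_mem (σ : Equiv.Perm GolayPt) :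
    (1 : GolayPt → ZMod 2) ∘ σ.symm ∈ golayCode := by
  have : (1 : GolayPt → ZMod 2) ∘ σ.symm = 1 := by ext; simp
  rw [this]
  exact Submodule.subset_span (Or.inr rfl)

theorem qrWord_mem (t : ZMod 23) : qrWord t ∈ golayCode :=
  Submodule.subset_span (Or.inl ⟨t, rfl⟩)

end Cfsg.Agent.Lib.Helper7

namespace Cfsg.Agent.Lib.Helper7

open Cfsg

theorem qrWord_none (t : ZMod 23) : qrWord t none = 0 := rfl

theorem qrWord_some (t x : ZMod 23) :
    qrWord t (some x) = if ∃ r : ZMod 23, x = r ^ 2 + t then 1 else 0 := rfl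

theorem qrWord_comp_optionCongr (e : Equiv.Perm (ZMod 23)) (t t' : ZMod 23)
    (h : ∀ x : ZMod 23, (∃ r : ZMod 23, e.symm x = r ^ 2 + t) ↔ (∃ r : ZMod 23, x = r ^ 2 + t')) :
    qrWord t ∘ (Equiv.optionCongr e).symm = qrWord t' := by
  funext p
  cases p with
  | none => rfl
  | some x =>
    show qrWord t (some (e.symm x)) = qrWord t' (some x)
    rw [qrWord_some, qrWord_some]
    simp only [h x]

end Cfsg.Agent.Lib.Helper7
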