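import Cfsg.Agent.Lib.Helper7.GolayOrbit

set_option autoImplicit false

namespace Cfsg.Agent.Lib.Helper7

open Cfsg
open scoped Pointwise

/-- evaluate all entries of a list before continuing (helps kernel reduction) -/
def forceList {α : Sort*} : List ℕ → (List ℕ → α) → α
  | [], k => k []
  | x :: xs, k => force x fun x' => forceList xs fun xs' => k (x' :: xs')

theorem forceList_eq {α : Sort*} (l : List ℕ) (k : List ℕ → α) : forceList l k = k l := by
  induction l generalizing k with
  | nil => rfl
  | cons x xs ih => simp only [forceList, force_eq, ih]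

def forcePD {α : Sort*} (d : PD) (k : PD → α) : α :=
  forceList d.fwd fun f => forceList d.bwd fun b => k ⟨f, b⟩

theorem forcePD_eq {α : Sort*} (d : PD) (k : PD → α) : forcePD d k = k d := by
  simp only [forcePD, forceList_eq]

/-- straight-line programs with inverses; the store is kept in reverse order, `n` is its length.
Instruction `(i, j)` appends `store[i] * store[j]`, or `store[i]⁻¹` when `j = 100000`. -/
def slpRun2 : List (ℕ × ℕ) → List PD → ℕ → List PD
  | [], acc, _ => acc
  | (i, j) :: rest, acc, n =>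
    forcePD (if j = 100000 then (acc.getD (n - 1 - i) PD.one).inv
      else (acc.getD (n - 1 - i) PD.one).mul (acc.getD (n - 1 - j) PD.one)) fun d =>
      force (n + 1) fun n' => slpRun2 rest (d :: acc) n'

theorem slpRun2_repIn (H : Subgroup (Equiv.Perm GolayPt)) (prog : List (ℕ × ℕ)) (acc : List PD)
    (n : ℕ) (h : ∀ d ∈ acc, RepIn H d) : ∀ d ∈ slpRun2 prog acc n, RepIn H d := by
  induction prog generalizing acc n with
  | nil => exact h
  | cons ij rest ih =>
    obtain ⟨i, j⟩ := ij
    simp only [slpRun2, forcePD_eq, force_eq]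
    apply ih
    intro d hd
    rcases List.mem_cons.1 hd with rfl | hd
    · obtain ⟨σ, hσ, rσ⟩ := RepIn.getD h (n - 1 - i)
      obtain ⟨τ, hτ, rτ⟩ := RepIn.getD h (n - 1 - j)
      split
      · exact ⟨σ⁻¹, H.inv_mem hσ, rσ.inv⟩
      · exact ⟨σ * τ, H.mul_mem hσ hτ, rσ.mul rτ⟩
    · exact h d hd

/-! ### the chain of pointwise stabilisers -/

/-- elements of the group of the code fixing the listed points -/
def fixK : List ℕ → Subgroup (Equiv.Perm GolayPt)
  | [] => M24
  | b :: l => fixK l ⊓ MulAction.stabilizer (Equiv.Perm GolayPt) (pt b)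

theorem mem_fixK (l : List ℕ) (σ : Equiv.Perm GolayPt) :
    σ ∈ fixK l ↔ σ ∈ M24 ∧ ∀ b ∈ l, σ (pt b) = pt b := by
  induction l with
  | nil => simp [fixK]
  | cons b l ih =>
    simp only [fixK, Subgroup.mem_inf, ih, MulAction.mem_stabilizer_iff, Equiv.Perm.smul_def,
      List.mem_cons, forall_eq_or_imp]
    tauto

/-- the stabiliser of a point in a subgroup, as a subgroup of the big group, has the same size -/
theorem card_stabilizer_subgroup {G X : Type*} [Group G] [MulAction G X] (K : Subgroup G) (x : X) :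
    Nat.card (MulAction.stabilizer K x) = Nat.card ↥(K ⊓ MulAction.stabilizer G x) := by
  apply Nat.card_congr
  refine ⟨fun g => ⟨g.1.1, ⟨g.1.2, ?_⟩⟩, fun g => ⟨⟨g.1, g.2.1⟩, ?_⟩, fun g => rfl, fun g => rfl⟩
  · have h := g.2
    rw [MulAction.mem_stabilizer_iff] at h
    show g.1.1 ∈ MulAction.stabilizer G x
    rw [MulAction.mem_stabilizer_iff]
    exact h
  · have h : g.1 ∈ MulAction.stabilizer G x := g.2.2
    rw [MulAction.mem_stabilizer_iff] at h ⊢
    exact h

/-- one step of the orbit-stabiliser chain -/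
theorem card_fixK_step (l : List ℕ) (j : ℕ) (S : List ℕ) (hS : S.Nodup) (hlt : ∀ s ∈ S, s < 24)
    (lower : ∀ s ∈ S, ∃ σ ∈ fixK l, σ (pt j) = pt s)
    (upper : ∀ σ ∈ fixK l, idx (σ (pt j)) ∈ S) :
    Nat.card (fixK l) = S.length * Nat.card (fixK (j :: l)) := by
  have h1 := Subgroup.card_mul_index (MulAction.stabilizer (fixK l) (pt j))
  rw [MulAction.index_stabilizer, card_stabilizer_subgroup] at h1
  have horb : MulAction.orbit (fixK l) (pt j) = pt '' (↑S.toFinset : Set ℕ) := by
    ext q
    constructor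
    · rintro ⟨g, rfl⟩
      refine ⟨idx (g.1 (pt j)), ?_, pt_idx _⟩
      rw [Finset.mem_coe, List.mem_toFinset]
      exact upper g.1 g.2
    · rintro ⟨s, hs, rfl⟩
      rw [Finset.mem_coe, List.mem_toFinset] at hs
      obtain ⟨σ, hσ, h⟩ := lower s hs
      exact ⟨⟨σ, hσ⟩, h⟩
  have hinj : Set.InjOn pt (↑S.toFinset : Set ℕ) := by
    intro a ha b hb hab
    rw [Finset.mem_coe, List.mem_toFinset] at ha hb
    rw [← idx_pt a (hlt a ha), ← idx_pt b (hlt b hb), hab]
  rw [horb, Set.InjOn.ncard_image hinj, Set.ncard_coe_finset, List.toFinset_card_of_nodup hS,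
    mul_comm] at h1
  exact h1.symm

end Cfsg.Agent.Lib.Helper7

namespace Cfsg.Agent.Lib.Helper7

open Cfsg
open scoped Pointwise

/-! ### lower bounds from explicit elements -/

def transCheck (pds : List PD) (l : List ℕ) (j : ℕ) (tr : List (ℕ × ℕ)) : Bool :=
  tr.all fun pk => ((pds.getD pk.2 PD.one).fwd.getD j 0 == pk.1) &&
    l.all fun b => (pds.getD pk.2 PD.one).fwd.getD b 0 == b

theorem lower_of_transCheck (pds : List PD) (hpds : ∀ d ∈ pds, RepIn genSub d) (l : List ℕ)
    (j : ℕ) (tr : List (ℕ × ℕ)) (hl : ∀ b ∈ l, b < 24) (hj : j < 24)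
    (h : transCheck pds l j tr = true) :
    ∀ s ∈ tr.map Prod.fst, ∃ σ ∈ fixK l, σ (pt j) = pt s := by
  intro s hs
  rw [List.mem_map] at hs
  obtain ⟨pk, hpk, rfl⟩ := hs
  have h1 := List.all_eq_true.1 h pk hpk
  rw [Bool.and_eq_true, beq_iff_eq, List.all_eq_true] at h1
  obtain ⟨σ, hσ, rσ⟩ := RepIn.getD hpds pk.2
  refine ⟨σ, (mem_fixK l σ).2 ⟨genSub_le hσ, ?_⟩, ?_⟩
  · intro b hb
    have := h1.2 b hb
    rw [beq_iff_eq] at this
    rw [rσ.apply, idx_pt b (hl b hb), this]
  · rw [rσ.apply, idx_pt j hj, h1.1]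

/-- generic upper bound: the image of a new point avoids the fixed points -/
theorem upper_generic (l : List ℕ) (j : ℕ) (S : List ℕ) (hl : ∀ b ∈ l, b < 24) (hj : j < 24)
    (hjl : j ∉ l) (hS : (List.range 24).all (fun s => l.contains s || S.contains s) = true) :
    ∀ σ ∈ fixK l, idx (σ (pt j)) ∈ S := by
  intro σ hσ
  rw [mem_fixK] at hσ
  have h1 := List.all_eq_true.1 hS (idx (σ (pt j))) (List.mem_range.2 (idx_lt _))
  rw [Bool.or_eq_true, List.contains_iff_mem, List.contains_iff_mem] at h1
  rcases h1 with h1 | h1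
  · exfalso
    have h2 := hσ.2 _ h1
    rw [pt_idx] at h2
    have h3 : σ (pt j) = pt j := σ.injective h2
    have h4 : idx (σ (pt j)) = j := by rw [h3, idx_pt j hj]
    rw [h4] at h1
    exact hjl h1
  · exact h1

/-! ### invariant sets -/

def FixedBy (σ : Equiv.Perm GolayPt) (F : ℕ) : Prop := ∀ p, F.testBit (idx p) = true → σ p = p

def InvMask (σ : Equiv.Perm GolayPt) (m : ℕ) : Prop := σ • finOf m = finOf m

theorem finOf_and (a b : ℕ) : finOf (a &&& b) = finOf a ∩ finOf b := by
  ext p
  rw [Finset.mem_inter, mem_finOf, mem_finOf, mem_finOf, Nat.testBit_and, Bool.and_eq_true]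

theorem finOf_xor_all (a : ℕ) : finOf (a ^^^ 16777215) = (finOf a)ᶜ := by
  ext p
  rw [Finset.mem_compl, mem_finOf, mem_finOf, Nat.testBit_xor]
  have h : (16777215 : ℕ).testBit (idx p) = true := by
    have : (16777215 : ℕ) = 2 ^ 24 - 1 := by norm_num
    rw [this, Nat.testBit_two_pow_sub_one]
    simpa using idx_lt p
  rw [h]
  cases a.testBit (idx p) <;> simp

theorem finOf_all : finOf 16777215 = Finset.univ := by
  have := finOf_xor_all 0
  rw [Nat.zero_xor] at this
  rw [this]
  ext p
  simp [mem_finOf]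

theorem InvMask.and {σ : Equiv.Perm GolayPt} {a b : ℕ} (ha : InvMask σ a) (hb : InvMask σ b) :
    InvMask σ (a &&& b) := by
  unfold InvMask at *
  rw [finOf_and, Finset.smul_finset_inter, ha, hb]

theorem InvMask.compl {σ : Equiv.Perm GolayPt} {a : ℕ} (ha : InvMask σ a) :
    InvMask σ (a ^^^ 16777215) := by
  unfold InvMask at *
  rw [finOf_xor_all, Finset.compl_eq_univ_sdiff, Finset.smul_finset_sdiff,
    Finset.smul_finset_univ, ha]

theorem InvMask.all (σ : Equiv.Perm GolayPt) : InvMask σ 16777215 := by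
  unfold InvMask
  rw [finOf_all, Finset.smul_finset_univ]

theorem finOf_one_shiftLeft (p : ℕ) (hp : p < 24) : finOf (1 <<< p) = {pt p} := by
  ext q
  rw [mem_finOf, Finset.mem_singleton, Nat.one_shiftLeft, Nat.testBit_two_pow]
  simp only [decide_eq_true_eq]
  constructor
  · intro h
    rw [h, pt_idx]
  · intro h
    rw [h, idx_pt p hp]

theorem InvMask.fixed {σ : Equiv.Perm GolayPt} {p : ℕ} (hp : p < 24) (h : InvMask σ (1 <<< p)) :
    σ (pt p) = pt p := by
  unfold InvMask at h
  rw [finOf_one_shiftLeft p hp, Finset.smul_finset_singleton] at h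
  simpa using h

/-- an octad with five fixed points is invariant -/
theorem invMask_octad {σ : Equiv.Perm GolayPt} (hσ : σ ∈ M24) {o F : ℕ} (ho : finOf o ∈ octads)
    (hF : FixedBy σ F) (h5 : 5 ≤ popc (o &&& F)) : InvMask σ o := by
  unfold InvMask
  apply octad_eq_of_card_inter (smul_mem_octads hσ ho) ho
  rw [← card_finOf] at h5
  refine le_trans h5 (Finset.card_le_card ?_)
  intro p hp
  rw [finOf_and, Finset.mem_inter, mem_finOf, mem_finOf] at hp
  rw [Finset.mem_inter]
  refine ⟨?_, by rw [mem_finOf]; exact hp.1⟩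
  rw [Finset.mem_smul_finset]
  exact ⟨p, by rw [mem_finOf]; exact hp.1, hF p hp.2⟩

/-! ### partition refinement -/

def atomOf (inv : List ℕ) (p : ℕ) : ℕ :=
  inv.foldl (fun a o => a &&& (if o.testBit p then o else o ^^^ 16777215)) 16777215

theorem invMask_foldl {σ : Equiv.Perm GolayPt} (inv : List ℕ) (hinv : ∀ o ∈ inv, InvMask σ o)
    (p a : ℕ) (ha : InvMask σ a) :
    InvMask σ (inv.foldl (fun a o => a &&& (if o.testBit p then o else o ^^^ 16777215)) a) := by
  induction inv generalizing a with
  | nil => exact ha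
  | cons o os ih =>
    rw [List.foldl_cons]
    apply ih (fun o' ho' => hinv o' (List.mem_cons_of_mem _ ho'))
    apply ha.and
    split
    · exact hinv o List.mem_cons_self
    · exact (hinv o List.mem_cons_self).compl

theorem invMask_atomOf {σ : Equiv.Perm GolayPt} (inv : List ℕ) (hinv : ∀ o ∈ inv, InvMask σ o)
    (p : ℕ) : InvMask σ (atomOf inv p) :=
  invMask_foldl inv hinv p _ (InvMask.all σ)

def refineStep (octs extra : List ℕ) (F : ℕ) : ℕ :=
  forceList (extra ++ octs.filter fun o => decide (5 ≤ popc (o &&& F))) fun inv =>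
    (List.range 24).foldl
      (fun acc p => if atomOf inv p == 1 <<< p then acc ||| (1 <<< p) else acc) F

theorem fixedBy_foldl {σ : Equiv.Perm GolayPt} (inv : List ℕ) (hinv : ∀ o ∈ inv, InvMask σ o)
    (ps : List ℕ) (hps : ∀ p ∈ ps, p < 24) (F : ℕ) (hF : FixedBy σ F) :
    FixedBy σ (ps.foldl
      (fun acc p => if atomOf inv p == 1 <<< p then acc ||| (1 <<< p) else acc) F) := by
  induction ps generalizing F with
  | nil => exact hF
  | cons p ps ih =>
    rw [List.foldl_cons]
    apply ih (fun p' hp' => hps p' (List.mem_cons_of_mem _ hp'))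
    split
    · rename_i heq
      rw [beq_iff_eq] at heq
      have hp := hps p List.mem_cons_self
      have h1 : σ (pt p) = pt p := by
        apply InvMask.fixed hp
        rw [← heq]
        exact invMask_atomOf inv hinv p
      intro q hq
      rw [Nat.testBit_or, Bool.or_eq_true] at hq
      rcases hq with hq | hq
      · exact hF q hq
      · rw [Nat.one_shiftLeft, Nat.testBit_two_pow] at hq
        simp only [decide_eq_true_eq] at hq
        rw [← pt_idx q, ← hq]
        exact h1
    · exact hF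

theorem fixedBy_refineStep {σ : Equiv.Perm GolayPt} (hσ : σ ∈ M24) (octs extra : List ℕ)
    (hocts : ∀ o ∈ octs, finOf o ∈ octads) (hextra : ∀ o ∈ extra, InvMask σ o) (F : ℕ)
    (hF : FixedBy σ F) : FixedBy σ (refineStep octs extra F) := by
  rw [refineStep, forceList_eq]
  apply fixedBy_foldl _ _ _ (fun p hp => List.mem_range.1 hp) _ hF
  intro o ho
  rw [List.mem_append, List.mem_filter] at ho
  rcases ho with ho | ho
  · exact hextra o ho
  · exact invMask_octad hσ (hocts o ho.1) hF (by simpa using ho.2)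

def refineN (octs extra : List ℕ) : ℕ → ℕ → ℕ
  | 0, F => F
  | n + 1, F => force (refineStep octs extra F) fun F' => refineN octs extra n F'

theorem fixedBy_refineN {σ : Equiv.Perm GolayPt} (hσ : σ ∈ M24) (octs extra : List ℕ)
    (hocts : ∀ o ∈ octs, finOf o ∈ octads) (hextra : ∀ o ∈ extra, InvMask σ o) (n F : ℕ)
    (hF : FixedBy σ F) : FixedBy σ (refineN octs extra n F) := by
  induction n generalizing F with
  | zero => exact hF
  | succ n ih =>
    rw [refineN, force_eq]
    exact ih _ (fixedBy_refineStep hσ octs extra hocts hextra F hF)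

theorem eq_one_of_fixedBy_all {σ : Equiv.Perm GolayPt} (h : FixedBy σ 16777215) : σ = 1 := by
  apply Equiv.ext
  intro p
  apply h
  have : (16777215 : ℕ) = 2 ^ 24 - 1 := by norm_num
  rw [this, Nat.testBit_two_pow_sub_one]
  simpa using idx_lt p

/-- check that a list of masks consists of octads -/
def octadCheck (octs : List ℕ) : Bool :=
  octs.all fun o => decide (o < 2 ^ 24) && (encode (o % 4096) == o) && (popc o == 8)

theorem finOf_mem_octads_of_check {octs : List ℕ} (h : octadCheck octs = true) :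
    ∀ o ∈ octs, finOf o ∈ octads := by
  intro o ho
  have h1 := List.all_eq_true.1 h o ho
  simp only [Bool.and_eq_true, decide_eq_true_eq, beq_iff_eq] at h1
  refine ⟨?_, by rw [card_finOf, h1.2]⟩
  rw [← h1.1.2]
  exact finOf_encode_mem_supports _

/-- mask of a list of points -/
def maskOfList (l : List ℕ) : ℕ := l.foldl (fun a b => a ||| (1 <<< b)) 0

theorem fixedBy_maskOfList_aux {σ : Equiv.Perm GolayPt} (l : List ℕ)
    (hl : ∀ b ∈ l, σ (pt b) = pt b) (a : ℕ) (ha : FixedBy σ a) :
    FixedBy σ (l.foldl (fun a b => a ||| (1 <<< b)) a) := by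
  induction l generalizing a with
  | nil => exact ha
  | cons b bs ih =>
    rw [List.foldl_cons]
    apply ih (fun b' hb' => hl b' (List.mem_cons_of_mem _ hb'))
    intro q hq
    rw [Nat.testBit_or, Bool.or_eq_true] at hq
    rcases hq with hq | hq
    · exact ha q hq
    · rw [Nat.one_shiftLeft, Nat.testBit_two_pow] at hq
      simp only [decide_eq_true_eq] at hq
      rw [← pt_idx q, ← hq]
      exact hl b List.mem_cons_self

theorem fixedBy_maskOfList {σ : Equiv.Perm GolayPt} (l : List ℕ)
    (hl : ∀ b ∈ l, σ (pt b) = pt b) : FixedBy σ (maskOfList l) :=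
  fixedBy_maskOfList_aux l hl 0 (fun p hp => by simp at hp)

/-- the pointwise stabiliser of `l` is trivial, by partition refinement -/
theorem fixK_eq_bot_of_refine (l octs : List ℕ) (n : ℕ) (hocts : octadCheck octs = true)
    (h : refineN octs [] n (maskOfList l) = 16777215) : fixK l = ⊥ := by
  rw [eq_bot_iff]
  intro σ hσ
  rw [mem_fixK] at hσ
  rw [Subgroup.mem_bot]
  apply eq_one_of_fixedBy_all
  rw [← h]
  exact fixedBy_refineN hσ.1 octs [] (finOf_mem_octads_of_check hocts) (by simp) n _
    (fixedBy_maskOfList l hσ.2)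

end Cfsg.Agent.Lib.Helper7
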