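import Cfsg.Agent.Lib.Helper7.M24Trans
import Cfsg.Agent.Lib.Helper7.M12Order

set_option autoImplicit false

namespace Cfsg.Agent.Lib.Helper7

open Cfsg
open scoped Pointwise

section general

variable {G X Y : Type*} [Group G] [MulAction G X] [MulAction G Y]

theorem card_inf_stabilizer_smul₂' (K : Subgroup G) {σ : G} (hσ : σ ∈ K) (x : X) (y : Y) :
    Nat.card ↥(K ⊓ MulAction.stabilizer G (σ • x) ⊓ MulAction.stabilizer G (σ • y)) =
      Nat.card ↥(K ⊓ MulAction.stabilizer G x ⊓ MulAction.stabilizer G y) := by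
  apply Nat.card_congr
  refine Equiv.subtypeEquiv (MulAut.conj σ⁻¹).toEquiv ?_
  intro h
  simp only [Subgroup.mem_inf, MulAction.mem_stabilizer_iff, MulEquiv.toEquiv_eq_coe,
    MulEquiv.coe_toEquiv, MulAut.conj_apply, inv_inv, conj_mem_iff K hσ, conj_smul_iff]

theorem card_stabilizer_subgroup₂' (K : Subgroup G) (x : X) (y : Y) :
    Nat.card ↥(MulAction.stabilizer K x ⊓ MulAction.stabilizer K y) =
      Nat.card ↥(K ⊓ MulAction.stabilizer G x ⊓ MulAction.stabilizer G y) := by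
  apply Nat.card_congr
  refine ⟨fun g => ⟨g.1.1, ⟨⟨g.1.2, ?_⟩, ?_⟩⟩, fun g => ⟨⟨g.1, g.2.1.1⟩, ⟨?_, ?_⟩⟩,
    fun g => rfl, fun g => rfl⟩
  · have h : g.1 ∈ MulAction.stabilizer K x := g.2.1
    rw [MulAction.mem_stabilizer_iff] at h
    show g.1.1 ∈ MulAction.stabilizer G x
    rw [MulAction.mem_stabilizer_iff]
    exact h
  · have h : g.1 ∈ MulAction.stabilizer K y := g.2.2
    rw [MulAction.mem_stabilizer_iff] at h
    show g.1.1 ∈ MulAction.stabilizer G y
    rw [MulAction.mem_stabilizer_iff]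
    exact h
  · have h : g.1 ∈ MulAction.stabilizer G x := g.2.1.2
    rw [MulAction.mem_stabilizer_iff] at h
    show (⟨g.1, g.2.1.1⟩ : K) ∈ MulAction.stabilizer K x
    rw [MulAction.mem_stabilizer_iff]
    exact h
  · have h : g.1 ∈ MulAction.stabilizer G y := g.2.2
    rw [MulAction.mem_stabilizer_iff] at h
    show (⟨g.1, g.2.1.1⟩ : K) ∈ MulAction.stabilizer K y
    rw [MulAction.mem_stabilizer_iff]
    exact h

end general

/-! ### chains below an arbitrary subgroup -/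

def fixIn (K : Subgroup (Equiv.Perm GolayPt)) : List ℕ → Subgroup (Equiv.Perm GolayPt)
  | [] => K
  | b :: l => fixIn K l ⊓ MulAction.stabilizer (Equiv.Perm GolayPt) (pt b)

theorem mem_fixIn (K : Subgroup (Equiv.Perm GolayPt)) (l : List ℕ) (σ : Equiv.Perm GolayPt) :
    σ ∈ fixIn K l ↔ σ ∈ K ∧ ∀ b ∈ l, σ (pt b) = pt b := by
  induction l with
  | nil => simp [fixIn]
  | cons b l ih =>
    simp only [fixIn, Subgroup.mem_inf, ih, MulAction.mem_stabilizer_iff, Equiv.Perm.smul_def,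
      List.mem_cons, forall_eq_or_imp]
    tauto

theorem fixIn_le (K : Subgroup (Equiv.Perm GolayPt)) (l : List ℕ) : fixIn K l ≤ K :=
  fun σ hσ => ((mem_fixIn K l σ).1 hσ).1

theorem card_fixIn_step (K : Subgroup (Equiv.Perm GolayPt)) (l : List ℕ) (j : ℕ) (S : List ℕ)
    (hS : S.Nodup) (hlt : ∀ s ∈ S, s < 24)
    (lower : ∀ s ∈ S, ∃ σ ∈ fixIn K l, σ (pt j) = pt s)
    (upper : ∀ σ ∈ fixIn K l, idx (σ (pt j)) ∈ S) :
    Nat.card (fixIn K l) = S.length * Nat.card (fixIn K (j :: l)) := by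
  have h1 := Subgroup.card_mul_index (MulAction.stabilizer (fixIn K l) (pt j))
  rw [MulAction.index_stabilizer, card_stabilizer_subgroup] at h1
  have horb : MulAction.orbit (fixIn K l) (pt j) = pt '' (↑S.toFinset : Set ℕ) := by
    ext q
    constructor
    · rintro ⟨g, rfl⟩
      refine ⟨idx (g.1 (pt j)), ?_, pt_idx _⟩
      rw [Finset.mem_coe, List.mem_toFinset]
      exact upper g.1 g.2
    · rintro ⟨s, hs, rfl⟩
      rw [Finset.mem_coe, List.mem_toFinset] at hs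
      obtain ⟨σ, hσ, h⟩ := lower s hs
      exact ⟨⟨σ, hσ⟩, h⟩
  have hinj : Set.InjOn pt (↑S.toFinset : Set ℕ) := by
    intro a ha b hb hab
    rw [Finset.mem_coe, List.mem_toFinset] at ha hb
    rw [← idx_pt a (hlt a ha), ← idx_pt b (hlt b hb), hab]
  rw [horb, Set.InjOn.ncard_image hinj, Set.ncard_coe_finset, List.toFinset_card_of_nodup hS,
    mul_comm] at h1
  exact h1.symm

/-- the setwise stabiliser of the set with mask `m` in the group of the code -/
def stabD (m : ℕ) : Subgroup (Equiv.Perm GolayPt) :=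
  M24 ⊓ MulAction.stabilizer (Equiv.Perm GolayPt) (finOf m)

theorem mem_stabD (m : ℕ) (σ : Equiv.Perm GolayPt) :
    σ ∈ stabD m ↔ σ ∈ M24 ∧ σ • finOf m = finOf m := by
  unfold stabD
  rw [Subgroup.mem_inf]
  constructor
  · rintro ⟨h1, h2⟩
    exact ⟨h1, MulAction.mem_stabilizer_iff.1 h2⟩
  · rintro ⟨h1, h2⟩
    exact ⟨h1, MulAction.mem_stabilizer_iff.2 h2⟩

def transCheckD (pds : List PD) (m : ℕ) (l : List ℕ) (j : ℕ) (tr : List (ℕ × ℕ)) : Bool :=
  tr.all fun pk => ((pds.getD pk.2 PD.one).fwd.getD j 0 == pk.1) &&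
    (pushMask (pds.getD pk.2 PD.one).bwd m == m) &&
    l.all fun b => (pds.getD pk.2 PD.one).fwd.getD b 0 == b

theorem lower_of_transCheckD (pds : List PD) (hpds : ∀ d ∈ pds, RepIn genSub d) (m : ℕ)
    (l : List ℕ) (j : ℕ) (tr : List (ℕ × ℕ)) (hl : ∀ b ∈ l, b < 24) (hj : j < 24)
    (h : transCheckD pds m l j tr = true) :
    ∀ s ∈ tr.map Prod.fst, ∃ σ ∈ fixIn (stabD m) l, σ (pt j) = pt s := by
  intro s hs
  rw [List.mem_map] at hs
  obtain ⟨pk, hpk, rfl⟩ := hs
  have h1 := List.all_eq_true.1 h pk hpk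
  rw [Bool.and_eq_true, Bool.and_eq_true, beq_iff_eq, beq_iff_eq, List.all_eq_true] at h1
  obtain ⟨σ, hσ, rσ⟩ := RepIn.getD hpds pk.2
  refine ⟨σ, (mem_fixIn _ l σ).2 ⟨(mem_stabD m σ).2 ⟨genSub_le hσ, ?_⟩, ?_⟩, ?_⟩
  · rw [rσ.smul_finOf, h1.1.2]
  · intro b hb
    have := h1.2 b hb
    rw [beq_iff_eq] at this
    rw [rσ.apply, idx_pt b (hl b hb), this]
  · rw [rσ.apply, idx_pt j hj, h1.1.1]

theorem upper_D (m : ℕ) (l : List ℕ) (j : ℕ) (S : List ℕ) (hj : j < 24) (hjl : j ∉ l)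
    (hS : (List.range 24).all
      (fun s => l.contains s || (m.testBit s != m.testBit j) || S.contains s) = true) :
    ∀ σ ∈ fixIn (stabD m) l, idx (σ (pt j)) ∈ S := by
  intro σ hσ
  rw [mem_fixIn, mem_stabD] at hσ
  have hinv : InvMask σ m := hσ.1.2
  have h1 := List.all_eq_true.1 hS (idx (σ (pt j))) (List.mem_range.2 (idx_lt _))
  rw [Bool.or_eq_true, Bool.or_eq_true, List.contains_iff_mem, List.contains_iff_mem] at h1
  rcases h1 with (h1 | h1) | h1
  · exfalso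
    have h2 := hσ.2 _ h1
    rw [pt_idx] at h2
    have h3 : σ (pt j) = pt j := σ.injective h2
    have h4 : idx (σ (pt j)) = j := by rw [h3, idx_pt j hj]
    rw [h4] at h1
    exact hjl h1
  · exfalso
    rw [hinv.testBit, idx_pt j hj] at h1
    simp at h1
  · exact h1

theorem card_stabD_dodecad (m : ℕ) (hm : finOf m ∈ dodecads) : Nat.card (stabD m) = 95040 := by
  rw [stabD, ← card_stabilizer_subgroup]
  exact card_stabilizer_dodecad _ hm

end Cfsg.Agent.Lib.Helper7
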