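import Cfsg.Agent.Lib.Helper7.GolayComp

set_option autoImplicit false

namespace Cfsg.Agent.Lib.Helper7

open Cfsg

def golayBasis : List ℕ :=
  [13062145, 4845570, 13938692, 7221256, 10170384, 11952160, 15515712, 2019456, 4038912, 8077824,
    11654144, 14919680]

def qrMasks : List ℕ :=
  [340831, 681662, 1363324, 2726648, 5453296, 2517985, 5035970, 1683333, 3366666, 6733332, 5078057,
    1767507, 3535014, 7070028, 5751449, 3114291, 6228582, 4068557, 8137114, 7885621, 7382635,
    6376663, 4364719]

def genMasks : List ℕ := qrMasks ++ [16777215]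

def basisSel : List ℕ :=
  [8390313, 280, 8389785, 1400, 8390330, 8390551, 8390093, 2000, 1347, 101, 8390243, 8390181]

def encode (c : ℕ) : ℕ := comb golayBasis c

theorem qrWord_eq_wordOf :
    ∀ t : ZMod 23, ∀ p : GolayPt, qrWord t p = wordOf (qrMasks.getD (ZMod.val t) 0) p := by
  decide +kernel

theorem one_eq_wordOf : ∀ p : GolayPt, (1 : GolayPt → ZMod 2) p = wordOf 16777215 p := by
  decide +kernel

theorem genMasks_mem : ∀ g ∈ genMasks, wordOf g ∈ golayCode := by
  intro g hg
  rw [genMasks, List.mem_append] at hg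
  rcases hg with hg | hg
  · obtain ⟨i, hi, rfl⟩ := List.getElem_of_mem hg
    have hi' : i < 23 := hi
    have : qrWord (i : ZMod 23) = wordOf (qrMasks[i]) := by
      funext p
      rw [qrWord_eq_wordOf, ZMod.val_natCast, Nat.mod_eq_of_lt hi']
      congr 1
      exact (List.getD_eq_getElem _ _ hi)
    have h2 := qrWord_mem (i : ZMod 23)
    rw [this] at h2
    exact h2
  · simp only [List.mem_singleton] at hg
    subst hg
    have : (1 : GolayPt → ZMod 2) = wordOf 16777215 := funext one_eq_wordOf
    rw [← this]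
    exact one_mem_golayCode

theorem golayBasis_eq : golayBasis = basisSel.map (comb genMasks) := by decide +kernel

theorem golayBasis_mem : ∀ b ∈ golayBasis, wordOf b ∈ golayCode := by
  intro b hb
  rw [golayBasis_eq, List.mem_map] at hb
  obtain ⟨s, _, rfl⟩ := hb
  exact wordOf_comb_mem _ _ genMasks_mem _

theorem wordOf_encode_mem (c : ℕ) : wordOf (encode c) ∈ golayCode :=
  wordOf_comb_mem _ _ golayBasis_mem _

/-- the explicit code as a submodule -/
def codeSub : Submodule (ZMod 2) (GolayPt → ZMod 2) where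
  carrier := {f | ∃ c, c < 4096 ∧ f = wordOf (encode c)}
  add_mem' := by
    rintro f g ⟨c, hc, rfl⟩ ⟨c', hc', rfl⟩
    refine ⟨c ^^^ c', Nat.xor_lt_two_pow (n := 12) hc hc', ?_⟩
    simp only [encode, comb_xor, wordOf_xor]
  zero_mem' := ⟨0, by norm_num, by simp only [encode, comb_zero, wordOf_zero]⟩
  smul_mem' := by
    rintro r f ⟨c, hc, rfl⟩
    have key : ∀ z : ZMod 2, z = 0 ∨ z = 1 := by decide
    rcases key r with rfl | rfl
    · exact ⟨0, by norm_num, by simp only [encode, comb_zero, wordOf_zero, zero_smul]⟩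
    · exact ⟨c, hc, by rw [one_smul]⟩

theorem genMasks_encode : ∀ g ∈ genMasks, g % 4096 < 4096 ∧ g = encode (g % 4096) := by
  decide +kernel

theorem golayCode_eq : golayCode = codeSub := by
  apply le_antisymm
  · unfold golayCode
    rw [Submodule.span_le]
    rintro f (⟨t, rfl⟩ | rfl)
    · have h1 : (ZMod.val t) < 23 := ZMod.val_lt t
      have hmem : qrMasks.getD (ZMod.val t) 0 ∈ genMasks := by
        rw [genMasks, List.mem_append]
        left
        rw [List.getD_eq_getElem _ _ (show ZMod.val t < qrMasks.length from h1)]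
        exact List.getElem_mem _
      obtain ⟨h2, h3⟩ := genMasks_encode _ hmem
      refine ⟨_, h2, ?_⟩
      rw [← h3]
      exact funext (qrWord_eq_wordOf t)
    · have hmem : 16777215 ∈ genMasks := by simp [genMasks]
      obtain ⟨h2, h3⟩ := genMasks_encode _ hmem
      refine ⟨_, h2, ?_⟩
      rw [← h3]
      exact funext one_eq_wordOf
  · rintro f ⟨c, _, rfl⟩
    exact wordOf_encode_mem c

theorem mem_golayCode_iff (f : GolayPt → ZMod 2) :
    f ∈ golayCode ↔ ∃ c, c < 4096 ∧ f = wordOf (encode c) := by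
  rw [golayCode_eq]
  rfl

theorem mem_supports_golayCode_iff (s : Finset GolayPt) :
    s ∈ supports (golayCode : Set (GolayPt → ZMod 2)) ↔ ∃ c, c < 4096 ∧ s = finOf (encode c) := by
  constructor
  · rintro ⟨f, hf, rfl⟩
    obtain ⟨c, hc, rfl⟩ := (mem_golayCode_iff f).1 hf
    exact ⟨c, hc, support₂_wordOf _⟩
  · rintro ⟨c, _, rfl⟩
    exact ⟨wordOf (encode c), wordOf_encode_mem c, support₂_wordOf _⟩

end Cfsg.Agent.Lib.Helper7

namespace Cfsg.Agent.Lib.Helper7

open Cfsg

/-- variant: check `w ∘ σ` on generators instead of `w ∘ σ.symm`. -/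
theorem mem_M24_of_gens' (σ : Equiv.Perm GolayPt)
    (h : ∀ t : ZMod 23, qrWord t ∘ σ ∈ golayCode) : σ ∈ M24 := by
  have : σ⁻¹ ∈ M24 := by
    apply mem_M24_of_gens
    · intro t
      exact h t
    · exact one_comp_mem _
  simpa using this

/-- membership certificate: for each `t` an index `c` with `qrWord t ∘ σ = wordOf (encode c)`. -/
theorem mem_M24_of_cert (σ : Equiv.Perm GolayPt) (cs : List ℕ)
    (h : ∀ t : ZMod 23, ∀ p : GolayPt,
      qrWord t (σ p) = wordOf (encode (cs.getD (ZMod.val t) 0)) p) : σ ∈ M24 := by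
  apply mem_M24_of_gens'
  intro t
  have : qrWord t ∘ σ = wordOf (encode (cs.getD (ZMod.val t) 0)) := funext (h t)
  rw [this]
  exact wordOf_encode_mem _

end Cfsg.Agent.Lib.Helper7
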