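import Cfsg.Agent.Lib.Helper7.LeechBasic

set_option autoImplicit false

namespace Cfsg.Agent.Lib.Helper7

open Cfsg

/-! ### indexing the 24 points -/

def idx : GolayPt → ℕ
  | none => 23
  | some x => ZMod.val x

def pt (n : ℕ) : GolayPt := if n < 23 then some (n : ZMod 23) else none

theorem idx_lt (p : GolayPt) : idx p < 24 := by
  cases p with
  | none => simp [idx]
  | some x =>
    have := ZMod.val_lt x
    simp only [idx]
    omega

theorem pt_idx (p : GolayPt) : pt (idx p) = p := by
  cases p with
  | none => simp [idx, pt]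
  | some x =>
    have := ZMod.val_lt x
    simp only [idx, pt, this, if_true, ZMod.natCast_zmod_val]

theorem idx_pt (n : ℕ) (h : n < 24) : idx (pt n) = n := by
  by_cases h23 : n < 23
  · simp only [pt, h23, if_true, idx, ZMod.val_natCast]
    exact Nat.mod_eq_of_lt h23
  · have : n = 23 := by omega
    subst this
    simp [pt, idx]

theorem idx_injective : Function.Injective idx := by
  intro p q h
  rw [← pt_idx p, ← pt_idx q, h]

theorem forall_pt_iff (P : GolayPt → Prop) : (∀ p, P p) ↔ ∀ i < 24, P (pt i) := by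
  constructor
  · intro h i _
    exact h _
  · intro h p
    have := h (idx p) (idx_lt p)
    rwa [pt_idx] at this

/-! ### masks -/

def wordOf (n : ℕ) : GolayPt → ZMod 2 := fun p => if n.testBit (idx p) then 1 else 0

def finOf (n : ℕ) : Finset GolayPt := Finset.univ.filter fun p => n.testBit (idx p) = true

theorem mem_finOf (n : ℕ) (p : GolayPt) : p ∈ finOf n ↔ n.testBit (idx p) = true := by
  simp [finOf]

theorem wordOf_xor (a b : ℕ) : wordOf (a ^^^ b) = wordOf a + wordOf b := by
  funext p
  simp only [wordOf, Nat.testBit_xor, Pi.add_apply]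
  cases a.testBit (idx p) <;> cases b.testBit (idx p) <;> decide

theorem wordOf_zero : wordOf 0 = 0 := by
  funext p
  simp [wordOf]

theorem support₂_wordOf (n : ℕ) : support₂ (wordOf n) = finOf n := by
  ext p
  rw [mem_support₂, mem_finOf, wordOf]
  cases n.testBit (idx p) <;> simp

def maskOf (f : GolayPt → ZMod 2) : ℕ := Nat.ofBits fun i : Fin 24 => decide (f (pt i) ≠ 0)

def maskOfSet (s : Finset GolayPt) : ℕ := Nat.ofBits fun i : Fin 24 => decide (pt i ∈ s)

theorem maskOf_lt (f : GolayPt → ZMod 2) : maskOf f < 2 ^ 24 := Nat.ofBits_lt_two_pow _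

theorem maskOfSet_lt (s : Finset GolayPt) : maskOfSet s < 2 ^ 24 := Nat.ofBits_lt_two_pow _

theorem testBit_maskOf (f : GolayPt → ZMod 2) (p : GolayPt) :
    (maskOf f).testBit (idx p) = decide (f p ≠ 0) := by
  rw [maskOf, Nat.testBit_ofBits_lt _ _ (idx_lt p)]
  simp only [pt_idx]

theorem testBit_maskOfSet (s : Finset GolayPt) (p : GolayPt) :
    (maskOfSet s).testBit (idx p) = decide (p ∈ s) := by
  rw [maskOfSet, Nat.testBit_ofBits_lt _ _ (idx_lt p)]
  simp only [pt_idx]

theorem wordOf_maskOf (f : GolayPt → ZMod 2) : wordOf (maskOf f) = f := by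
  funext p
  rw [wordOf, testBit_maskOf]
  have key : ∀ z : ZMod 2, (if decide (z ≠ 0) = true then (1 : ZMod 2) else 0) = z := by decide
  exact key _

theorem finOf_maskOfSet (s : Finset GolayPt) : finOf (maskOfSet s) = s := by
  ext p
  rw [mem_finOf, testBit_maskOfSet]
  simp

theorem eq_of_finOf_eq {a b : ℕ} (ha : a < 2 ^ 24) (hb : b < 2 ^ 24) (h : finOf a = finOf b) :
    a = b := by
  apply Nat.eq_of_testBit_eq
  intro i
  by_cases hi : i < 24
  · have h1 : pt i ∈ finOf a ↔ pt i ∈ finOf b := by rw [h]
    rw [mem_finOf, mem_finOf, idx_pt i hi] at h1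
    cases h2 : a.testBit i <;> cases h3 : b.testBit i <;> simp_all
  · have h24 : 2 ^ 24 ≤ 2 ^ i := Nat.pow_le_pow_right (by norm_num) (by omega)
    rw [Nat.testBit_lt_two_pow (lt_of_lt_of_le ha h24),
      Nat.testBit_lt_two_pow (lt_of_lt_of_le hb h24)]

theorem maskOfSet_finOf {a : ℕ} (ha : a < 2 ^ 24) : maskOfSet (finOf a) = a :=
  eq_of_finOf_eq (maskOfSet_lt _) ha (finOf_maskOfSet _)

def popc (n : ℕ) : ℕ := ((List.range 24).filter fun i => n.testBit i).length

theorem card_finOf (n : ℕ) : (finOf n).card = popc n := by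
  have h1 : popc n = ((Finset.range 24).filter fun i => n.testBit i = true).card := by
    simp [popc, Finset.card_def, Finset.filter_val, Finset.range_val, Multiset.range]
  rw [h1]
  apply Finset.card_bij (fun p _ => idx p)
  · intro p hp
    rw [mem_finOf] at hp
    simp only [Finset.mem_filter, Finset.mem_range]
    exact ⟨idx_lt p, hp⟩
  · intro p _ q _ h
    exact idx_injective h
  · intro i hi
    simp only [Finset.mem_filter, Finset.mem_range] at hi
    refine ⟨pt i, ?_, idx_pt i hi.1⟩
    rw [mem_finOf, idx_pt i hi.1]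
    exact hi.2

/-! ### xor combinations -/

def comb : List ℕ → ℕ → ℕ
  | [], _ => 0
  | b :: bs, c => (if c.testBit 0 then b else 0) ^^^ comb bs (c >>> 1)

theorem xor_xor_xor_comm' (a b c d : ℕ) : (a ^^^ b) ^^^ (c ^^^ d) = (a ^^^ c) ^^^ (b ^^^ d) := by
  apply Nat.eq_of_testBit_eq
  intro i
  simp only [Nat.testBit_xor]
  cases a.testBit i <;> cases b.testBit i <;> cases c.testBit i <;> cases d.testBit i <;> rfl

theorem ite_xor_bool (x y : Bool) (b : ℕ) :
    (if (x ^^ y) = true then b else 0) = (if x = true then b else 0) ^^^ (if y = true then b else 0) := by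
  cases x <;> cases y <;> simp

theorem comb_xor (B : List ℕ) (c c' : ℕ) : comb B (c ^^^ c') = comb B c ^^^ comb B c' := by
  induction B generalizing c c' with
  | nil => simp [comb]
  | cons b bs ih =>
    simp only [comb, Nat.testBit_xor, Nat.shiftRight_xor_distrib, ih]
    rw [ite_xor_bool, xor_xor_xor_comm']

theorem comb_zero (B : List ℕ) : comb B 0 = 0 := by
  induction B with
  | nil => simp [comb]
  | cons b bs ih => simp [comb, ih]

theorem wordOf_comb_mem (C : Submodule (ZMod 2) (GolayPt → ZMod 2)) (B : List ℕ)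
    (hB : ∀ b ∈ B, wordOf b ∈ C) (c : ℕ) : wordOf (comb B c) ∈ C := by
  induction B generalizing c with
  | nil =>
    simp only [comb, wordOf_zero]
    exact Submodule.zero_mem _
  | cons b bs ih =>
    simp only [comb, wordOf_xor]
    apply Submodule.add_mem
    · split
      · exact hB b (List.mem_cons_self)
      · rw [wordOf_zero]; exact Submodule.zero_mem _
    · exact ih (fun b' hb' => hB b' (List.mem_cons_of_mem _ hb')) _

end Cfsg.Agent.Lib.Helper7
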