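import Cfsg.Agent.Lib.Helper7.GolayPerm
import Cfsg.Agent.S0370
import Cfsg.Agent.S0372
import Cfsg.Agent.S0373

set_option autoImplicit false

namespace Cfsg.Agent.Lib.Helper7

open Cfsg
open scoped Pointwise

/-- computational data of a permutation: table and table of the inverse -/
structure PD where
  fwd : List ℕ
  bwd : List ℕ
deriving DecidableEq

def PD.one : PD := ⟨List.range 24, List.range 24⟩

def PD.mul (d e : PD) : PD := ⟨compL d.fwd e.fwd, compL e.bwd d.bwd⟩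

def PD.inv (d : PD) : PD := ⟨d.bwd, d.fwd⟩

def Rep (σ : Equiv.Perm GolayPt) (d : PD) : Prop := tab σ = d.fwd ∧ tab σ⁻¹ = d.bwd

theorem Rep.one : Rep 1 PD.one := ⟨tab_one, by rw [inv_one]; exact tab_one⟩

theorem Rep.mul {σ τ : Equiv.Perm GolayPt} {d e : PD} (h1 : Rep σ d) (h2 : Rep τ e) :
    Rep (σ * τ) (d.mul e) := by
  refine ⟨?_, ?_⟩
  · rw [tab_mul, h1.1, h2.1]; rfl
  · rw [mul_inv_rev, tab_mul, h1.2, h2.2]; rfl

theorem Rep.inv {σ : Equiv.Perm GolayPt} {d : PD} (h1 : Rep σ d) : Rep σ⁻¹ d.inv :=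
  ⟨h1.2, by rw [inv_inv]; exact h1.1⟩

theorem Rep.apply {σ : Equiv.Perm GolayPt} {d : PD} (h : Rep σ d) (p : GolayPt) :
    σ p = pt (d.fwd.getD (idx p) 0) := by
  rw [← h.1]; exact apply_eq_tab σ p

theorem Rep.smul_finOf {σ : Equiv.Perm GolayPt} {d : PD} (h : Rep σ d) (n : ℕ) :
    σ • finOf n = finOf (pushMask d.bwd n) := by
  rw [← h.2]; exact Helper7.smul_finOf σ n

theorem Rep.of_isInvTab {σ : Equiv.Perm GolayPt} {d : PD} (h1 : tab σ = d.fwd)
    (h2 : isInvTab d.fwd d.bwd = true) : Rep σ d :=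
  ⟨h1, tab_inv_of_isInvTab h1 h2⟩

/-! ### the three generators -/

def gA : Equiv.Perm GolayPt := Equiv.optionCongr (Equiv.addRight (1 : ZMod 23))
def gB : Equiv.Perm GolayPt := projInv
noncomputable def gC : Equiv.Perm GolayPt := cubeTwist

def dA : PD :=
  ⟨[1, 2, 3, 4, 5, 6, 7, 8, 9, 10, 11, 12, 13, 14, 15, 16, 17, 18, 19, 20, 21, 22, 0, 23],
   [22, 0, 1, 2, 3, 4, 5, 6, 7, 8, 9, 10, 11, 12, 13, 14, 15, 16, 17, 18, 19, 20, 21, 23]⟩
def dB : PD :=
  ⟨[23, 22, 11, 15, 17, 9, 19, 13, 20, 5, 16, 2, 21, 7, 18, 3, 10, 4, 14, 6, 8, 12, 1, 0],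
   [23, 22, 11, 15, 17, 9, 19, 13, 20, 5, 16, 2, 21, 7, 18, 3, 10, 4, 14, 6, 8, 12, 1, 0]⟩
def dC : PD :=
  ⟨[0, 18, 6, 3, 2, 21, 1, 5, 16, 12, 7, 19, 8, 9, 17, 15, 13, 11, 4, 22, 10, 20, 14, 23],
   [0, 6, 4, 3, 18, 7, 2, 10, 12, 13, 20, 17, 9, 16, 22, 15, 8, 14, 1, 11, 21, 5, 19, 23]⟩

theorem tab_gA : tab gA = dA.fwd := by decide +kernel
theorem tab_gB : tab gB = dB.fwd := by decide +kernel
theorem tab_gC : tab gC = dC.fwd := by
  show (List.ofFn fun i : Fin 24 => idx (cubeTwistFun (pt i))) = dC.fwd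
  decide +kernel

theorem rep_gA : Rep gA dA := Rep.of_isInvTab tab_gA (by decide +kernel)
theorem rep_gB : Rep gB dB := Rep.of_isInvTab tab_gB (by decide +kernel)
theorem rep_gC : Rep gC dC := Rep.of_isInvTab tab_gC (by decide +kernel)

theorem gA_mem : gA ∈ M24 := Cfsg.Agent.S0370.result
theorem gB_mem : gB ∈ M24 := Cfsg.Agent.S0372.result
theorem gC_mem : gC ∈ M24 := Cfsg.Agent.S0373.result

/-- the subgroup generated by the three permutations -/
noncomputable def genSub : Subgroup (Equiv.Perm GolayPt) :=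
  Subgroup.closure {Equiv.optionCongr (Equiv.addRight (1 : ZMod 23)), Cfsg.projInv, Cfsg.cubeTwist}

theorem genSub_le : genSub ≤ M24 := by
  unfold genSub
  rw [Subgroup.closure_le]
  rintro g (rfl | rfl | rfl)
  · exact gA_mem
  · exact gB_mem
  · exact gC_mem

theorem gA_mem_genSub : gA ∈ genSub := Subgroup.subset_closure (by simp [gA])
theorem gB_mem_genSub : gB ∈ genSub := Subgroup.subset_closure (by simp [gB])
theorem gC_mem_genSub : gC ∈ genSub := Subgroup.subset_closure (by simp [gC])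

/-! ### straight-line programs -/

def slpRun : List (ℕ × ℕ) → List PD → List PD
  | [], acc => acc
  | (i, j) :: rest, acc => slpRun rest (acc ++ [(acc.getD i PD.one).mul (acc.getD j PD.one)])

def RepIn (H : Subgroup (Equiv.Perm GolayPt)) (d : PD) : Prop := ∃ σ ∈ H, Rep σ d

theorem RepIn.getD {H : Subgroup (Equiv.Perm GolayPt)} {acc : List PD}
    (h : ∀ d ∈ acc, RepIn H d) (i : ℕ) : RepIn H (acc.getD i PD.one) := by
  by_cases hi : i < acc.length
  · rw [List.getD_eq_getElem _ _ hi]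
    exact h _ (List.getElem_mem _)
  · rw [List.getD_eq_default _ _ (by omega)]
    exact ⟨1, H.one_mem, Rep.one⟩

theorem slpRun_repIn (H : Subgroup (Equiv.Perm GolayPt)) (prog : List (ℕ × ℕ)) (acc : List PD)
    (h : ∀ d ∈ acc, RepIn H d) : ∀ d ∈ slpRun prog acc, RepIn H d := by
  induction prog generalizing acc with
  | nil => exact h
  | cons ij rest ih =>
    obtain ⟨i, j⟩ := ij
    apply ih
    intro d hd
    rw [List.mem_append, List.mem_singleton] at hd
    rcases hd with hd | rfl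
    · exact h d hd
    · obtain ⟨σ, hσ, rσ⟩ := RepIn.getD h i
      obtain ⟨τ, hτ, rτ⟩ := RepIn.getD h j
      exact ⟨σ * τ, H.mul_mem hσ hτ, rσ.mul rτ⟩

def genPDs : List PD := [dA, dB, dC]

theorem genPDs_repIn : ∀ d ∈ genPDs, RepIn genSub d := by
  intro d hd
  simp only [genPDs, List.mem_cons, List.not_mem_nil, or_false] at hd
  rcases hd with rfl | rfl | rfl
  · exact ⟨gA, gA_mem_genSub, rep_gA⟩
  · exact ⟨gB, gB_mem_genSub, rep_gB⟩
  · exact ⟨gC, gC_mem_genSub, rep_gC⟩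

end Cfsg.Agent.Lib.Helper7
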