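import Cfsg.Agent.Lib.Helper7.GolayCode

set_option autoImplicit false

namespace Cfsg.Agent.Lib.Helper7

open Cfsg

def weightOK (w : ℕ) : Bool := w == 0 || w == 8 || w == 12 || w == 16 || w == 24

theorem encode_props_aux :
    (List.range 4096).all (fun c => decide (encode c < 2 ^ 24) && (encode c % 4096 == c) &&
      weightOK (popc (encode c))) = true := by
  decide +kernel

theorem encode_props (c : ℕ) (hc : c < 4096) :
    encode c < 2 ^ 24 ∧ encode c % 4096 = c ∧ weightOK (popc (encode c)) = true := by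
  have := List.all_eq_true.1 encode_props_aux c (List.mem_range.2 hc)
  simp only [Bool.and_eq_true, decide_eq_true_eq, beq_iff_eq] at this
  exact ⟨this.1.1, this.1.2, this.2⟩

end Cfsg.Agent.Lib.Helper7

namespace Cfsg.Agent.Lib.Helper7

open Cfsg
open scoped Pointwise

theorem weightOK_iff (w : ℕ) : weightOK w = true ↔ (w = 0 ∨ w = 8 ∨ w = 12 ∨ w = 16 ∨ w = 24) := by
  simp [weightOK, or_assoc]

theorem card_of_mem_supports {s : Finset GolayPt}
    (hs : s ∈ supports (golayCode : Set (GolayPt → ZMod 2))) :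
    s.card = 0 ∨ s.card = 8 ∨ s.card = 12 ∨ s.card = 16 ∨ s.card = 24 := by
  obtain ⟨c, hc, rfl⟩ := (mem_supports_golayCode_iff s).1 hs
  rw [card_finOf, ← weightOK_iff]
  exact (encode_props c hc).2.2

theorem support₂_add {α : Type*} [Fintype α] [DecidableEq α] (v w : α → ZMod 2) :
    support₂ (v + w) = symmDiff (support₂ v) (support₂ w) := by
  ext a
  rw [Finset.mem_symmDiff, mem_support₂, mem_support₂, mem_support₂, Pi.add_apply]
  have key : ∀ x y : ZMod 2, x + y ≠ 0 ↔ (x ≠ 0 ∧ ¬ y ≠ 0) ∨ (y ≠ 0 ∧ ¬ x ≠ 0) := by decide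
  exact key _ _

theorem symmDiff_mem_supports {s t : Finset GolayPt}
    (hs : s ∈ supports (golayCode : Set (GolayPt → ZMod 2)))
    (ht : t ∈ supports (golayCode : Set (GolayPt → ZMod 2))) :
    symmDiff s t ∈ supports (golayCode : Set (GolayPt → ZMod 2)) := by
  obtain ⟨v, hv, rfl⟩ := hs
  obtain ⟨w, hw, rfl⟩ := ht
  exact ⟨v + w, Submodule.add_mem _ hv hw, support₂_add v w⟩

theorem card_symmDiff_add {α : Type*} [DecidableEq α] (s t : Finset α) :
    (symmDiff s t).card + 2 * (s ∩ t).card = s.card + t.card := by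
  have h1 : (symmDiff s t).card = (s \ t).card + (t \ s).card := by
    rw [symmDiff_def, Finset.sup_eq_union, Finset.card_union_of_disjoint]
    exact disjoint_sdiff_sdiff
  have h2 := Finset.card_sdiff_add_card_inter s t
  have h3 := Finset.card_sdiff_add_card_inter t s
  rw [Finset.inter_comm t s] at h3
  omega

theorem mem_octads_iff (o : Finset GolayPt) :
    o ∈ octads ↔ o ∈ supports (golayCode : Set (GolayPt → ZMod 2)) ∧ o.card = 8 := Iff.rfl

theorem mem_dodecads_iff (o : Finset GolayPt) :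
    o ∈ dodecads ↔ o ∈ supports (golayCode : Set (GolayPt → ZMod 2)) ∧ o.card = 12 := Iff.rfl

/-- two octads sharing five points coincide -/
theorem octad_eq_of_card_inter {o o' : Finset GolayPt} (ho : o ∈ octads) (ho' : o' ∈ octads)
    (h : 5 ≤ (o ∩ o').card) : o = o' := by
  have h1 := card_of_mem_supports (symmDiff_mem_supports ho.1 ho'.1)
  have h2 := card_symmDiff_add o o'
  rw [ho.2, ho'.2] at h2
  have h3 : (symmDiff o o').card = 0 := by omega
  rw [Finset.card_eq_zero] at h3
  exact symmDiff_eq_bot.1 h3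

theorem smul_mem_supports {σ : Equiv.Perm GolayPt} (hσ : σ ∈ M24) {s : Finset GolayPt}
    (hs : s ∈ supports (golayCode : Set (GolayPt → ZMod 2))) :
    σ • s ∈ supports (golayCode : Set (GolayPt → ZMod 2)) := by
  have h1 : σ • supports (golayCode : Set (GolayPt → ZMod 2)) =
      supports (golayCode : Set (GolayPt → ZMod 2)) := hσ
  rw [← h1]
  exact Set.smul_mem_smul_set hs

theorem smul_mem_octads {σ : Equiv.Perm GolayPt} (hσ : σ ∈ M24) {o : Finset GolayPt}
    (ho : o ∈ octads) : σ • o ∈ octads :=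
  ⟨smul_mem_supports hσ ho.1, by rw [Finset.card_smul_finset]; exact ho.2⟩

theorem smul_mem_dodecads {σ : Equiv.Perm GolayPt} (hσ : σ ∈ M24) {o : Finset GolayPt}
    (ho : o ∈ dodecads) : σ • o ∈ dodecads :=
  ⟨smul_mem_supports hσ ho.1, by rw [Finset.card_smul_finset]; exact ho.2⟩

end Cfsg.Agent.Lib.Helper7
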