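import Cfsg.Agent.Lib.Helper7.GolayGens
import Cfsg.Agent.Lib.Helper7.GolayWeights

set_option autoImplicit false

namespace Cfsg.Agent.Lib.Helper7

open Cfsg
open scoped Pointwise

/-- evaluate the first argument before continuing (helps kernel reduction) -/
def force {α : Sort*} (m : ℕ) (f : ℕ → α) : α :=
  match m with
  | 0 => f 0
  | n + 1 => f (n + 1)

theorem force_eq {α : Sort*} (m : ℕ) (f : ℕ → α) : force m f = f m := by
  cases m <;> rfl

/-- depth-first traversal: instruction `0` pops, instruction `i+1` applies generator `i` to the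
top of the stack and pushes the result, recording its information bits in a bitmap -/
def dfsRun (gens : List PD) : List ℕ → List ℕ → ℕ → ℕ
  | [], _, bm => bm
  | _ :: _, [], bm => bm
  | i :: is, top :: rest, bm =>
    if i = 0 then dfsRun gens is rest bm
    else force (pushMask (gens.getD (i - 1) PD.one).bwd top) fun m =>
      force (bm ||| (1 <<< (m % 4096))) fun bm' => dfsRun gens is (m :: top :: rest) bm'

/-- `m` is the mask of an image of `finOf base` under an element of `H` -/
def InOrb (H : Subgroup (Equiv.Perm GolayPt)) (base m : ℕ) : Prop :=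
  m < 2 ^ 24 ∧ ∃ σ ∈ H, σ • finOf base = finOf m

theorem InOrb.push {H : Subgroup (Equiv.Perm GolayPt)} {base m : ℕ} (h : InOrb H base m)
    {d : PD} (hd : RepIn H d) : InOrb H base (pushMask d.bwd m) := by
  obtain ⟨_, σ, hσ, hσm⟩ := h
  obtain ⟨τ, hτ, rτ⟩ := hd
  refine ⟨pushMask_lt _ _, τ * σ, H.mul_mem hτ hσ, ?_⟩
  rw [mul_smul, hσm, rτ.smul_finOf]

/-- every set bit of the bitmap comes from a mask in the orbit -/
def BitmapOK (H : Subgroup (Equiv.Perm GolayPt)) (base bm : ℕ) : Prop :=
  ∀ c, bm.testBit c = true → ∃ m, InOrb H base m ∧ m % 4096 = c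

theorem BitmapOK.insert {H : Subgroup (Equiv.Perm GolayPt)} {base bm m : ℕ}
    (h : BitmapOK H base bm) (hm : InOrb H base m) :
    BitmapOK H base (bm ||| (1 <<< (m % 4096))) := by
  intro c hc
  rw [Nat.testBit_or, Bool.or_eq_true] at hc
  rcases hc with hc | hc
  · exact h c hc
  · rw [Nat.one_shiftLeft, Nat.testBit_two_pow] at hc
    exact ⟨m, hm, by simpa using hc⟩

theorem dfsRun_ok (H : Subgroup (Equiv.Perm GolayPt)) (base : ℕ) (gens : List PD)
    (hgens : ∀ d ∈ gens, RepIn H d) (instrs stack : List ℕ) (bm : ℕ)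
    (hs : ∀ m ∈ stack, InOrb H base m) (ha : BitmapOK H base bm) :
    BitmapOK H base (dfsRun gens instrs stack bm) := by
  induction instrs generalizing stack bm with
  | nil => exact ha
  | cons i is ih =>
    cases stack with
    | nil => exact ha
    | cons top rest =>
      simp only [dfsRun, force_eq]
      split
      · exact ih rest bm (fun m hm => hs m (List.mem_cons_of_mem _ hm)) ha
      · have hnew : InOrb H base (pushMask (gens.getD (i - 1) PD.one).bwd top) :=
          (hs top List.mem_cons_self).push (RepIn.getD hgens _)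
        apply ih
        · intro m hm
          rcases List.mem_cons.1 hm with rfl | hm
          · exact hnew
          · exact hs m hm
        · exact ha.insert hnew

/-- a mask below `2^24` whose set is a code support is the encoding of its low bits -/
theorem eq_encode_of_mem_supports {m : ℕ} (hm : m < 2 ^ 24)
    (h : finOf m ∈ supports (golayCode : Set (GolayPt → ZMod 2))) : m = encode (m % 4096) := by
  obtain ⟨c, hc, hcm⟩ := (mem_supports_golayCode_iff _).1 h
  obtain ⟨h1, h2, _⟩ := encode_props c hc
  have : m = encode c := eq_of_finOf_eq hm h1 hcm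
  rw [this, h2]

theorem finOf_encode_mem_supports (c : ℕ) :
    finOf (encode c) ∈ supports (golayCode : Set (GolayPt → ZMod 2)) :=
  ⟨wordOf (encode c), wordOf_encode_mem c, support₂_wordOf _⟩

/-- transitivity certificate: the traversal from `encode c₀` covers all words of weight `w` -/
theorem orbit_of_cert (w c₀ : ℕ) (instrs : List ℕ) (bm : ℕ)
    (hbase : encode c₀ < 2 ^ 24)
    (h1 : dfsRun genPDs instrs [encode c₀] (1 <<< (encode c₀ % 4096)) = bm)
    (h2 : (List.range 4096).all (fun c => popc (encode c) != w || bm.testBit c) = true) :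
    ∀ s ∈ wordsOfWeight (golayCode : Set (GolayPt → ZMod 2)) w,
      ∃ σ ∈ genSub, σ • finOf (encode c₀) = s := by
  rintro s ⟨hs, hcard⟩
  obtain ⟨c, hc, rfl⟩ := (mem_supports_golayCode_iff s).1 hs
  rw [card_finOf] at hcard
  have h3 := List.all_eq_true.1 h2 c (List.mem_range.2 hc)
  rw [hcard] at h3
  simp only [bne_self_eq_false, Bool.false_or] at h3
  rw [← h1] at h3
  have hb : InOrb genSub (encode c₀) (encode c₀) := ⟨hbase, 1, genSub.one_mem, one_smul _ _⟩
  have hb0 : BitmapOK genSub (encode c₀) (1 <<< (encode c₀ % 4096)) := by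
    have : BitmapOK genSub (encode c₀) 0 := by
      intro c hc; simp at hc
    simpa using this.insert hb
  obtain ⟨m, ⟨hlt, σ, hσ, hσm⟩, hmc⟩ :=
    dfsRun_ok genSub (encode c₀) genPDs genPDs_repIn instrs [encode c₀] _
      (fun m hm => by rw [List.mem_singleton] at hm; rw [hm]; exact hb) hb0 c h3
  refine ⟨σ, hσ, ?_⟩
  rw [hσm]
  have hsupp : finOf m ∈ supports (golayCode : Set (GolayPt → ZMod 2)) := by
    rw [← hσm]
    exact smul_mem_supports (genSub_le hσ) (finOf_encode_mem_supports c₀)
  rw [eq_encode_of_mem_supports hlt hsupp, hmc]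

end Cfsg.Agent.Lib.Helper7
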