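import Cfsg.Agent.Lib.Helper7.GolayCode

set_option autoImplicit false

namespace Cfsg.Agent.Lib.Helper7

open Cfsg
open scoped Pointwise

/-! ### tables of permutations of the 24 points -/

def compL (L M : List ℕ) : List ℕ := M.map fun j => L.getD j 0

def tab (σ : Equiv.Perm GolayPt) : List ℕ := List.ofFn fun i : Fin 24 => idx (σ (pt i))

theorem tab_length (σ : Equiv.Perm GolayPt) : (tab σ).length = 24 := by
  unfold tab
  rw [List.length_ofFn]

theorem tab_getD (σ : Equiv.Perm GolayPt) (i : ℕ) (hi : i < 24) :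
    (tab σ).getD i 0 = idx (σ (pt i)) := by
  rw [List.getD_eq_getElem _ _ (by rw [tab_length]; exact hi)]
  unfold tab
  rw [List.getElem_ofFn]

theorem list_ext_getD {L M : List ℕ} (hlen : L.length = M.length)
    (h : ∀ i < L.length, L.getD i 0 = M.getD i 0) : L = M := by
  apply List.ext_getElem hlen
  intro i h1 h2
  have := h i h1
  rwa [List.getD_eq_getElem _ _ h1, List.getD_eq_getElem _ _ h2] at this

theorem compL_getD (L M : List ℕ) (i : ℕ) (hi : i < M.length) :
    (compL L M).getD i 0 = L.getD (M.getD i 0) 0 := by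
  unfold compL
  rw [List.getD_eq_getElem _ _ (by rw [List.length_map]; exact hi), List.getElem_map,
    List.getD_eq_getElem _ _ hi]

theorem apply_eq_tab (σ : Equiv.Perm GolayPt) (p : GolayPt) :
    σ p = pt ((tab σ).getD (idx p) 0) := by
  rw [tab_getD _ _ (idx_lt p), pt_idx, pt_idx]

theorem idx_apply (σ : Equiv.Perm GolayPt) (p : GolayPt) :
    idx (σ p) = (tab σ).getD (idx p) 0 := by
  rw [tab_getD _ _ (idx_lt p), pt_idx]

theorem eq_of_tab_eq {σ τ : Equiv.Perm GolayPt} (h : tab σ = tab τ) : σ = τ := by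
  ext p
  rw [apply_eq_tab σ, apply_eq_tab τ, h]

theorem tab_mul (σ τ : Equiv.Perm GolayPt) : tab (σ * τ) = compL (tab σ) (tab τ) := by
  apply list_ext_getD
  · simp [compL, tab_length]
  · intro i h1
    have hi : i < 24 := by rwa [tab_length] at h1
    rw [compL_getD _ _ _ (by rw [tab_length]; exact hi), tab_getD _ _ hi, tab_getD _ _ hi,
      Equiv.Perm.mul_apply, idx_apply]

theorem tab_one : tab 1 = List.range 24 := by
  apply list_ext_getD
  · simp [tab_length]
  · intro i h1
    have hi : i < 24 := by rwa [tab_length] at h1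
    rw [tab_getD _ _ hi, List.getD_eq_getElem _ _ (by simpa using hi)]
    simp [idx_pt i hi]

/-- check that `L'` is a right inverse table of `L` with valid entries -/
def isInvTab (L L' : List ℕ) : Bool :=
  L'.length == 24 && L'.all (fun j => decide (j < 24)) &&
    (List.range 24).all (fun j => L.getD (L'.getD j 0) 0 == j)

theorem tab_inv_of_isInvTab {σ : Equiv.Perm GolayPt} {L L' : List ℕ} (hL : tab σ = L)
    (h : isInvTab L L' = true) : tab σ⁻¹ = L' := by
  simp only [isInvTab, Bool.and_eq_true, beq_iff_eq, List.all_eq_true, decide_eq_true_eq,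
    List.mem_range] at h
  obtain ⟨⟨hlen, hlt⟩, hinv⟩ := h
  apply list_ext_getD
  · rw [tab_length, hlen]
  · intro j h1
    have hj : j < 24 := by rwa [tab_length] at h1
    rw [tab_getD _ _ hj]
    have hlt' : L'.getD j 0 < 24 := by
      rw [List.getD_eq_getElem _ _ (by rw [hlen]; exact hj)]
      exact hlt _ (List.getElem_mem _)
    have h3 := hinv j hj
    rw [← hL, tab_getD _ _ hlt'] at h3
    have h4 : σ (pt (L'.getD j 0)) = pt j := by
      rw [← pt_idx (σ (pt (L'.getD j 0))), h3]
    have h5 : σ⁻¹ (pt j) = pt (L'.getD j 0) := by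
      rw [← h4]; simp
    rw [h5, idx_pt _ hlt']

/-- transport a mask along a permutation, given the table of the inverse -/
def pushMask (Linv : List ℕ) (n : ℕ) : ℕ :=
  Nat.ofBits fun j : Fin 24 => n.testBit (Linv.getD j 0)

theorem pushMask_lt (Linv : List ℕ) (n : ℕ) : pushMask Linv n < 2 ^ 24 := Nat.ofBits_lt_two_pow _

theorem smul_finOf (σ : Equiv.Perm GolayPt) (n : ℕ) :
    σ • finOf n = finOf (pushMask (tab σ⁻¹) n) := by
  ext p
  rw [Finset.mem_smul_finset, mem_finOf, pushMask, Nat.testBit_ofBits_lt _ _ (idx_lt p)]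
  simp only
  rw [← idx_apply]
  constructor
  · rintro ⟨q, hq, rfl⟩
    rw [mem_finOf] at hq
    simpa using hq
  · intro h
    refine ⟨σ⁻¹ p, ?_, by simp⟩
    rw [mem_finOf]
    exact h

end Cfsg.Agent.Lib.Helper7
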