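import Cfsg.Agent.Lib.Helper7.HSRecogC
import Cfsg.Agent.S0366
import Cfsg.Agent.S0378

/-!
An explicit 100-point model of the Higman-Sims group: the even automorphisms of the graph `adjT`
on `Fin 100` (vertex `0` the extra vertex, `1..22` the points, `23..99` the 77 hexads), with its
order and an isomorphism with `Cfsg.Spor.HS`.
-/

set_option autoImplicit false
set_option linter.style.haveILetI false
set_option linter.dupNamespace false

namespace Cfsg.Agent.Lib.Helper7.HS100

open Cfsg Cfsg.Agent.Lib.Helper7

/-- the code of the `i`-th vertex -/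
def code (i : Fin 100) : ℕ := hsV.getD i.val 0

/-- adjacency of the model graph on `Fin 100` -/
def adjT (i j : Fin 100) : Bool :=
  adjD (code i) (code j) || adjD (code j) (code i)

theorem code_mem (i : Fin 100) : code i ∈ hsV := by
  unfold code
  have hl : i.val < hsV.length := by rw [hsV_length]; exact i.2
  rw [List.getD_eq_getElem _ _ hl]
  exact List.getElem_mem hl

theorem code_injective : Function.Injective code := by
  intro i j h
  unfold code at h
  have hi : i.val < hsV.length := by rw [hsV_length]; exact i.2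
  have hj : j.val < hsV.length := by rw [hsV_length]; exact j.2
  rw [List.getD_eq_getElem _ _ hi, List.getD_eq_getElem _ _ hj] at h
  exact Fin.ext ((List.Nodup.getElem_inj_iff hsV_nodup).1 h)

theorem exists_code_eq (m : ℕ) (hm : m ∈ hsV) : ∃ i : Fin 100, code i = m := by
  obtain ⟨n, hn, rfl⟩ := List.getElem_of_mem hm
  refine ⟨⟨n, by rw [← hsV_length]; exact hn⟩, ?_⟩
  unfold code
  rw [List.getD_eq_getElem _ _ hn]

theorem adjT_irrefl : ∀ i : Fin 100, adjT i i = false := by
  unfold adjT code
  decide +kernel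

theorem adjT_symm (i j : Fin 100) : adjT i j = adjT j i := by
  unfold adjT
  rw [Bool.or_comm]

/-- the vertex with a given index -/
noncomputable def vert (i : Fin 100) : HSV := Classical.choose (exists_vcode_eq (code i) (code_mem i))

theorem vcode_vert (i : Fin 100) : vcode (vert i) = code i :=
  Classical.choose_spec (exists_vcode_eq (code i) (code_mem i))

theorem vert_bijective : Function.Bijective vert := by
  constructor
  · intro i j h
    apply code_injective
    rw [← vcode_vert, ← vcode_vert, h]
  · intro v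
    obtain ⟨i, hi⟩ := exists_code_eq (vcode v) (vcode_mem v)
    refine ⟨i, vcode_injective ?_⟩
    rw [vcode_vert, hi]

/-- the numbering of the vertices -/
noncomputable def E : Fin 100 ≃ HSV := Equiv.ofBijective vert vert_bijective

theorem vcode_E (i : Fin 100) : vcode (E i) = code i := vcode_vert i

theorem adj_iff (i j : Fin 100) : (pointBlockGraph W22).Adj (E i) (E j) ↔ adjT i j = true := by
  rw [adj_iff_codes, vcode_E, vcode_E]
  constructor
  · rintro ⟨-, h⟩
    exact h
  · intro h
    refine ⟨fun hij => ?_, h⟩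
    have : i = j := E.injective hij
    subst this
    rw [adjT_irrefl] at h
    exact Bool.false_ne_true h

/-- the automorphism group of the coded graph -/
def Aut100 : Subgroup (Equiv.Perm (Fin 100)) where
  carrier := {σ | ∀ i j, adjT (σ i) (σ j) = adjT i j}
  one_mem' := fun _ _ => rfl
  mul_mem' := by
    intro σ τ hσ hτ i j
    show adjT (σ (τ i)) (σ (τ j)) = _
    rw [hσ, hτ]
  inv_mem' := by
    intro σ hσ i j
    have := hσ (σ⁻¹ i) (σ⁻¹ j)
    have e1 : σ (σ⁻¹ i) = i := Equiv.apply_symm_apply σ i
    have e2 : σ (σ⁻¹ j) = j := Equiv.apply_symm_apply σ j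
    rw [e1, e2] at this
    exact this.symm

theorem mem_Aut100 (σ : Equiv.Perm (Fin 100)) : σ ∈ Aut100 ↔ ∀ i j, adjT (σ i) (σ j) = adjT i j :=
  Iff.rfl

/-- the Higman-Sims group on 100 points: the even automorphisms of the coded graph -/
def HS100 : Subgroup (Equiv.Perm (Fin 100)) := Aut100 ⊓ (Equiv.Perm.sign (α := Fin 100)).ker

theorem mem_HS100 (σ : Equiv.Perm (Fin 100)) :
    σ ∈ HS100 ↔ (∀ i j, adjT (σ i) (σ j) = adjT i j) ∧ Equiv.Perm.sign σ = 1 := by
  unfold HS100
  rw [Subgroup.mem_inf, mem_Aut100, MonoidHom.mem_ker]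

/-- an automorphism of odd order is even -/
theorem mem_HS100_of_odd (σ : Equiv.Perm (Fin 100)) (h : ∀ i j, adjT (σ i) (σ j) = adjT i j)
    (n : ℕ) (hn : Odd n) (hσ : σ ^ n = 1) : σ ∈ HS100 := by
  rw [mem_HS100]
  refine ⟨h, ?_⟩
  have h1 : Equiv.Perm.sign σ ^ n = 1 := by rw [← map_pow, hσ, map_one]
  rcases Int.units_eq_one_or (Equiv.Perm.sign σ) with h2 | h2
  · exact h2
  · rw [h2, Odd.neg_one_pow hn] at h1
    exact absurd h1 (by decide)

/-- the permutation of the indices induced by an automorphism of the model graph -/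
noncomputable def toPerm100 : HSA →* Equiv.Perm (Fin 100) :=
  (E.symm.permCongrHom.toMonoidHom).comp (MulAction.toPermHom HSA HSV)

theorem toPerm100_apply (φ : HSA) (i : Fin 100) : toPerm100 φ i = E.symm (φ (E i)) := rfl

theorem toPerm100_injective : Function.Injective toPerm100 := by
  intro φ ψ h
  apply RelIso.ext
  intro v
  have := congrArg (fun σ : Equiv.Perm (Fin 100) => E (σ (E.symm v))) h
  simpa [toPerm100_apply] using this

theorem toPerm100_mem (φ : HSA) : toPerm100 φ ∈ Aut100 := by
  intro i j
  rw [Bool.eq_iff_iff, ← adj_iff, ← adj_iff, toPerm100_apply, toPerm100_apply,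
    Equiv.apply_symm_apply, Equiv.apply_symm_apply]
  exact φ.map_rel_iff

/-- every automorphism of the coded graph comes from an automorphism of the model graph -/
theorem exists_of_mem_Aut100 (σ : Equiv.Perm (Fin 100)) (hσ : σ ∈ Aut100) :
    ∃ φ : HSA, toPerm100 φ = σ := by
  refine ⟨⟨E.permCongr σ, ?_⟩, ?_⟩
  · intro v w
    show (pointBlockGraph W22).Adj (E (σ (E.symm v))) (E (σ (E.symm w))) ↔ _
    rw [adj_iff, hσ, ← adj_iff, Equiv.apply_symm_apply, Equiv.apply_symm_apply]
  · apply Equiv.ext
    intro i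
    rw [toPerm100_apply]
    show E.symm (E (σ (E.symm (E i)))) = σ i
    rw [Equiv.symm_apply_apply, Equiv.symm_apply_apply]

theorem sign_toPerm100 (φ : HSA) : Equiv.Perm.sign (toPerm100 φ) = sgnHom φ := by
  show Equiv.Perm.sign (E.symm.permCongr (MulAction.toPermHom HSA HSV φ)) = _
  rw [Equiv.Perm.sign_permCongr]
  rfl

theorem map_HSH : HSH.map toPerm100 = HS100 := by
  ext σ
  rw [Subgroup.mem_map, mem_HS100]
  constructor
  · rintro ⟨φ, hφ, rfl⟩
    refine ⟨toPerm100_mem φ, ?_⟩
    rw [sign_toPerm100]
    exact (mem_HSH φ).1 hφ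
  · rintro ⟨h1, h2⟩
    obtain ⟨φ, rfl⟩ := exists_of_mem_Aut100 σ h1
    refine ⟨φ, ?_, rfl⟩
    rw [mem_HSH, ← sign_toPerm100]
    exact h2

/-- the model graph group and the 100-point group -/
noncomputable def equivHSH : HSH ≃* HS100 :=
  (HSH.equivMapOfInjective toPerm100 toPerm100_injective).trans (MulEquiv.subgroupCongr map_HSH)

theorem card_HS100 : Nat.card HS100 = 44352000 := by
  have hne : (none : GolayPt) ≠ some 22 := by simp
  rw [← Nat.card_congr equivHSH.toEquiv]
  exact card_HSH Cfsg.Agent.S0366.result (Cfsg.Agent.S0378.result none (some 22) hne)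

/-- the Higman-Sims group of the prelude is isomorphic to the 100-point group -/
theorem nonempty_equiv : Nonempty (Cfsg.Spor.HS ≃* HS100) := by
  obtain ⟨e⟩ := Cfsg.Agent.Lib.Helper7Std.sporHS_equiv
  exact ⟨e.trans equivHSH⟩

end Cfsg.Agent.Lib.Helper7.HS100
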