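import Cfsg.Agent.Lib.Helper7.M22Index22
import Cfsg.Agent.Lib.Helper93.FixCounts

set_option autoImplicit false

/-! In the stabiliser of two points of the group of the Golay code no involution normalises a
subgroup of order 7 or 11; consequently that stabiliser has no subgroup of order 36960 or 9856. -/

namespace Cfsg.Agent.Lib.Helper7

open Cfsg

theorem fixP_pow_subset (y : Equiv.Perm GolayPt) (n : ℕ) : fixP y ⊆ fixP (y ^ n) := by
  intro x hx
  rw [mem_fixP] at hx ⊢
  exact Equiv.Perm.pow_apply_eq_self_of_apply_eq_self hx n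

/-- a nontrivial element of a cyclic group of prime order has the fixed points of the generator -/
theorem fixP_eq_of_mem_zpowers {y g : Equiv.Perm GolayPt} {p' : ℕ} (hp' : p'.Prime)
    (hord : orderOf y = p') (hg : g ∈ Subgroup.zpowers y) (hg1 : g ≠ 1) : fixP g = fixP y := by
  have hfin : IsOfFinOrder y := by
    rw [← orderOf_pos_iff, hord]
    exact hp'.pos
  obtain ⟨n, rfl⟩ := (hfin.mem_powers_iff_mem_zpowers).2 hg
  have hnd : ¬ p' ∣ n := by
    intro hd
    apply hg1
    rw [← hord] at hd
    exact orderOf_dvd_iff_pow_eq_one.1 hd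
  have hcop : n.Coprime (orderOf y) := by
    rw [hord]
    exact ((Nat.Prime.coprime_iff_not_dvd hp').2 hnd).symm
  obtain ⟨m, hm⟩ := exists_pow_eq_self_of_coprime hcop
  apply Finset.Subset.antisymm
  · intro x hx
    have := fixP_pow_subset (y ^ n) m hx
    rwa [hm] at this
  · exact fixP_pow_subset y n

theorem card_fixP_eleven {g : Equiv.Perm GolayPt} (hg : g ∈ M24) (hord : orderOf g = 11) :
    (fixP g).card = 2 := by
  have : Fact (Nat.Prime 11) := ⟨by norm_num⟩
  have h4 : (fixP g).card ≤ 4 := card_fixP_le_four hg (by rw [hord]; norm_num)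
  have hmod : 24 % 11 = (fixP g).card % 11 := card_fixP_univ_mod hord
  omega

theorem card_fixP_involution {t : Equiv.Perm GolayPt} (ht : t ∈ M24) (ht2 : t * t = 1)
    (ht1 : t ≠ 1) {a : GolayPt} (ha : t a = a) : (fixP t).card = 8 := by
  rcases Cfsg.Agent.Lib.Helper93.Golay.inv_fix_cases ht ht2 ht1 with h | h
  · exact h
  · exfalso
    have h0 : (fixP t).card = 0 := h
    rw [Finset.card_eq_zero] at h0
    have : a ∈ fixP t := (mem_fixP t a).2 ha
    rw [h0] at this
    exact absurd this (Finset.notMem_empty _)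

section

variable {p q : GolayPt} {y t : Equiv.Perm GolayPt} {p' : ℕ}

theorem conj_mem_zpowers (ht2 : t * t = 1) (hnorm : t * y * t⁻¹ ∈ Subgroup.zpowers y)
    {g : Equiv.Perm GolayPt} (hg : g ∈ Subgroup.zpowers y) :
    t * g * t⁻¹ ∈ Subgroup.zpowers y ∧ t⁻¹ * g * t ∈ Subgroup.zpowers y := by
  have hinv : t⁻¹ = t := inv_eq_of_mul_eq_one_left ht2
  obtain ⟨k, rfl⟩ := hg
  have : t * y ^ k * t⁻¹ = (t * y * t⁻¹) ^ k := by
    rw [conj_zpow]
  constructor
  · rw [this]
    exact Subgroup.zpow_mem _ hnorm k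
  · have h2 : t⁻¹ * y ^ k * t = t * y ^ k * t⁻¹ := by rw [hinv]
    rw [h2, this]
    exact Subgroup.zpow_mem _ hnorm k

/-- the fixed points of `y` are fixed by the involution -/
theorem fixP_subset_of_normalizes (hpq : p ≠ q) (hp' : p'.Prime) (hord : orderOf y = p')
    (hcard : (fixP y).card ≤ 3) (hyp : y p = p) (hyq : y q = q) (htp : t p = p) (htq : t q = q)
    (ht2 : t * t = 1) (hnorm : t * y * t⁻¹ ∈ Subgroup.zpowers y) : fixP y ⊆ fixP t := by
  have hy1 : y ≠ 1 := by
    intro h
    rw [h, orderOf_one] at hord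
    exact hp'.one_lt.ne hord
  -- the involution permutes the fixed points
  have hperm : ∀ x ∈ fixP y, t x ∈ fixP y := by
    intro x hx
    rw [mem_fixP]
    have hg := (conj_mem_zpowers ht2 hnorm (Subgroup.mem_zpowers y)).2
    by_cases hg1 : t⁻¹ * y * t = 1
    · have : y = 1 := by
        have := congrArg (fun z => t * z * t⁻¹) hg1
        simpa [mul_assoc] using this
      exact absurd this hy1
    · have hfx := fixP_eq_of_mem_zpowers hp' hord hg hg1
      rw [← hfx, mem_fixP] at hx
      have : y (t x) = t ((t⁻¹ * y * t) x) := by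
        simp only [Equiv.Perm.mul_apply]
        exact (Equiv.apply_symm_apply t _).symm
      rw [this, hx]
  intro x hx
  rw [mem_fixP]
  by_cases hxp : x = p
  · rw [hxp]; exact htp
  by_cases hxq : x = q
  · rw [hxq]; exact htq
  have hsub : ({p, q, x} : Finset GolayPt) ⊆ fixP y := by
    intro z hz
    simp only [Finset.mem_insert, Finset.mem_singleton] at hz
    rcases hz with rfl | rfl | rfl
    · exact (mem_fixP y _).2 hyp
    · exact (mem_fixP y _).2 hyq
    · exact hx
  have hc3 : ({p, q, x} : Finset GolayPt).card = 3 := by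
    rw [Finset.card_insert_of_notMem, Finset.card_insert_of_notMem, Finset.card_singleton]
    · simpa using Ne.symm hxq
    · simp only [Finset.mem_insert, Finset.mem_singleton, not_or]
      exact ⟨hpq, Ne.symm hxp⟩
  have heq : ({p, q, x} : Finset GolayPt) = fixP y :=
    Finset.eq_of_subset_of_card_le hsub (by rw [hc3]; exact hcard)
  have htx := hperm x hx
  rw [← heq] at htx
  simp only [Finset.mem_insert, Finset.mem_singleton] at htx
  rcases htx with h | h | h
  · exact absurd (t.injective (h.trans htp.symm)) hxp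
  · exact absurd (t.injective (h.trans htq.symm)) hxq
  · exact h

/-- the commuting case -/
theorem no_comm_involution_of_fixP (hp' : p'.Prime) (hord : orderOf y = p')
    (hsub : fixP y ⊆ fixP t) (hc8 : (fixP t).card = 8) (hmod : 8 % p' ≠ (fixP y).card % p')
    (hcomm : t * y = y * t) : False := by
  haveI : Fact p'.Prime := ⟨hp'⟩
  have hinv : Inv (Subgroup.zpowers y) (fixP t) := by
    intro σ hσ x hx
    obtain ⟨k, rfl⟩ := hσ
    rw [mem_fixP] at hx ⊢
    have hck : t * y ^ k = y ^ k * t := (Commute.zpow_right (show Commute t y from hcomm) k).eq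
    have := congrArg (fun f : Equiv.Perm GolayPt => f x) hck
    simp only [Equiv.Perm.mul_apply] at this
    rw [this, hx]
  have h1 := hinv.card_modEq (Subgroup.mem_zpowers y) hord
  have h2 : fixP t ∩ fixP y = fixP y := Finset.inter_eq_right.2 hsub
  rw [h2, hc8] at h1
  exact hmod h1

/-- the conjugates of the involution by the powers of `y` -/
def conjT (y t : Equiv.Perm GolayPt) (i : ℕ) : Equiv.Perm GolayPt := y ^ i * t * (y ^ i)⁻¹

theorem fixP_conjT (i : ℕ) : fixP (conjT y t i) = (fixP t).image (y ^ i) := by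
  ext x
  rw [mem_fixP, Finset.mem_image]
  constructor
  · intro hx
    refine ⟨(y ^ i)⁻¹ x, ?_, by simp⟩
    rw [mem_fixP]
    have : (y ^ i)⁻¹ (conjT y t i x) = (y ^ i)⁻¹ x := by rw [hx]
    simpa [conjT, Equiv.Perm.mul_apply] using this
  · rintro ⟨z, hz, rfl⟩
    rw [mem_fixP] at hz
    simp [conjT, Equiv.Perm.mul_apply, hz]

theorem card_fixP_conjT (i : ℕ) : (fixP (conjT y t i)).card = (fixP t).card := by
  rw [fixP_conjT, Finset.card_image_of_injective _ (y ^ i).injective]

theorem fixP_subset_conjT (hsub : fixP y ⊆ fixP t) (i : ℕ) : fixP y ⊆ fixP (conjT y t i) := by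
  intro x hx
  rw [fixP_conjT, Finset.mem_image]
  refine ⟨x, hsub hx, ?_⟩
  exact (mem_fixP _ _).1 (fixP_pow_subset y i hx)

/-- the non-commuting case -/
theorem no_inverting_involution (hp' : p'.Prime) (hord : orderOf y = p')
    (hsub : fixP y ⊆ fixP t) (hc8 : (fixP t).card = 8)
    (hcount : 24 - (fixP y).card < p' * (8 - (fixP y).card))
    (ht2 : t * t = 1) (hnorm : t * y * t⁻¹ ∈ Subgroup.zpowers y) (hcomm : t * y ≠ y * t) :
    False := by
  have hinv : t⁻¹ = t := inv_eq_of_mul_eq_one_left ht2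
  have hfin : IsOfFinOrder y := by
    rw [← orderOf_pos_iff, hord]
    exact hp'.pos
  -- the product of two distinct conjugates is a nontrivial power of `y`
  have hprod : ∀ i j : ℕ, i < j → j < p' → ∀ x, conjT y t i x = x → conjT y t j x = x →
      x ∈ fixP y := by
    intro i j hij hj x hxi hxj
    set g : Equiv.Perm GolayPt := y ^ (j - i) with hg
    have hgz : g ∈ Subgroup.zpowers y := Subgroup.pow_mem _ (Subgroup.mem_zpowers y) _
    have hg1 : g ≠ 1 := by
      apply pow_ne_one_of_lt_orderOf (by omega)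
      rw [hord]
      omega
    have hg' := (conj_mem_zpowers ht2 hnorm hgz).1
    -- the element `t g t⁻¹ g⁻¹`
    have hne : t * g * t⁻¹ * g⁻¹ ≠ 1 := by
      intro h
      have hcg : t * g = g * t := by
        have := congrArg (fun z => z * g * t) h
        simpa [mul_assoc] using this
      -- then `t` commutes with `y`
      obtain ⟨n, hn⟩ := (hfin.mem_powers_iff_mem_zpowers).2 hgz
      have hnd : ¬ p' ∣ (j - i) := by
        intro hd
        have := Nat.le_of_dvd (by omega) hd
        omega
      have hcop : (j - i).Coprime (orderOf y) := by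
        rw [hord]
        exact ((Nat.Prime.coprime_iff_not_dvd hp').2 hnd).symm
      obtain ⟨m, hm⟩ := exists_pow_eq_self_of_coprime hcop
      apply hcomm
      have : Commute t (g ^ m) := Commute.pow_right (show Commute t g from hcg) m
      rw [hg, hm] at this
      exact this.eq
    have hmem : t * g * t⁻¹ * g⁻¹ ∈ Subgroup.zpowers y :=
      Subgroup.mul_mem _ hg' (Subgroup.inv_mem _ hgz)
    rw [← fixP_eq_of_mem_zpowers hp' hord hmem hne, mem_fixP]
    -- rewrite the product of the two conjugates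
    have hyi : Commute (y ^ i) (t * g * t⁻¹ * g⁻¹) := by
      obtain ⟨k, hk⟩ := hmem
      rw [← hk]
      exact (Commute.refl y).pow_left i |>.zpow_right k
    have hji : y ^ j = y ^ i * g := by
      rw [hg, ← pow_add]
      congr 1
      omega
    have hcj : conjT y t i * conjT y t j = t * g * t⁻¹ * g⁻¹ := by
      have h1 : conjT y t i * conjT y t j = y ^ i * (t * g * t⁻¹ * g⁻¹) * (y ^ i)⁻¹ := by
        unfold conjT
        rw [hji, hinv]
        group
      rw [h1, hyi.eq, mul_inv_cancel_right]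
    rw [← hcj, Equiv.Perm.mul_apply, hxj, hxi]
  -- count
  set D : ℕ → Finset GolayPt := fun i => fixP (conjT y t i) \ fixP y with hD
  have hDcard : ∀ i, (D i).card = 8 - (fixP y).card := by
    intro i
    rw [hD]
    simp only
    rw [Finset.card_sdiff_of_subset (fixP_subset_conjT hsub i), card_fixP_conjT, hc8]
  have hdisj : ((Finset.range p' : Finset ℕ) : Set ℕ).PairwiseDisjoint D := by
    intro i hi j hj hij
    rw [Finset.coe_range, Set.mem_Iio] at hi hj
    rw [Function.onFun, Finset.disjoint_left]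
    intro x hxi hxj
    rw [hD] at hxi hxj
    simp only [Finset.mem_sdiff, mem_fixP] at hxi hxj
    rcases Nat.lt_or_gt_of_ne hij with h | h
    · exact hxi.2 ((mem_fixP _ _).1 (hprod i j h hj x hxi.1 hxj.1))
    · exact hxi.2 ((mem_fixP _ _).1 (hprod j i h hi x hxj.1 hxi.1))
  have hU := Finset.card_biUnion hdisj
  rw [Finset.sum_congr rfl (fun i _ => hDcard i), Finset.sum_const, Finset.card_range,
    smul_eq_mul] at hU
  have hsubU : (Finset.range p').biUnion D ⊆ Finset.univ \ fixP y := by
    intro x hx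
    rw [Finset.mem_biUnion] at hx
    obtain ⟨i, -, hxi⟩ := hx
    rw [hD] at hxi
    simp only [Finset.mem_sdiff] at hxi
    rw [Finset.mem_sdiff]
    exact ⟨Finset.mem_univ _, hxi.2⟩
  have hle := Finset.card_le_card hsubU
  rw [hU, Finset.card_sdiff_of_subset (Finset.subset_univ _), Finset.card_univ,
    card_golayPt'] at hle
  omega

/-- no involution fixing two points normalises a subgroup of order 7 or 11 fixing them -/
theorem no_involution_normalizes (hpq : p ≠ q) (hy : y ∈ M24) (ht : t ∈ M24)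
    (hyp : y p = p) (hyq : y q = q) (htp : t p = p) (htq : t q = q)
    (hp' : p' = 7 ∨ p' = 11) (hord : orderOf y = p') (ht2 : t * t = 1) (ht1 : t ≠ 1)
    (hnorm : t * y * t⁻¹ ∈ Subgroup.zpowers y) : False := by
  have hprime : p'.Prime := by
    rcases hp' with rfl | rfl <;> norm_num
  have hc8 : (fixP t).card = 8 := card_fixP_involution ht ht2 ht1 htp
  have hf : (p' = 7 ∧ (fixP y).card = 3) ∨ (p' = 11 ∧ (fixP y).card = 2) := by
    rcases hp' with h | h
    · exact Or.inl ⟨h, card_fixP_seven hy (hord.trans h)⟩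
    · exact Or.inr ⟨h, card_fixP_eleven hy (hord.trans h)⟩
  have hsub : fixP y ⊆ fixP t :=
    fixP_subset_of_normalizes hpq hprime hord (by rcases hf with h | h <;> omega) hyp hyq htp htq
      ht2 hnorm
  by_cases hcomm : t * y = y * t
  · refine no_comm_involution_of_fixP hprime hord hsub hc8 ?_ hcomm
    rcases hf with ⟨rfl, h⟩ | ⟨rfl, h⟩ <;> rw [h] <;> norm_num
  · refine no_inverting_involution hprime hord hsub hc8 ?_ ht2 hnorm hcomm
    rcases hf with ⟨rfl, h⟩ | ⟨rfl, h⟩ <;> rw [h] <;> norm_num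

end

/-- Sylow counting in a subgroup fixing two points, for the primes 7 and 11 -/
theorem Fix2.sylow_count {p q : GolayPt} {K : Subgroup (Equiv.Perm GolayPt)} (h : Fix2 p q K)
    {p' : ℕ} (hp' : p' = 7 ∨ p' = 11) (hdiv : p' ∣ Nat.card K) (hndiv : ¬ p' ^ 2 ∣ Nat.card K) :
    ∃ a m : ℕ, a * m = Nat.card K ∧ p' ∣ a ∧ a % 2 = 1 ∧ m % p' = 1 := by
  have hprime : p'.Prime := by
    rcases hp' with rfl | rfl <;> norm_num
  haveI : Fact p'.Prime := ⟨hprime⟩
  haveI : Fact (Nat.Prime 2) := ⟨Nat.prime_two⟩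
  obtain ⟨P⟩ : Nonempty (Sylow p' K) := inferInstance
  have hPcard : Nat.card (P : Subgroup K) = p' := by
    obtain ⟨n, hn⟩ := (IsPGroup.iff_card).1 P.isPGroup'
    have h1 : p' ∣ Nat.card (P : Subgroup K) := P.dvd_card_of_dvd_card hdiv
    have h2 : Nat.card (P : Subgroup K) ∣ Nat.card K := Subgroup.card_subgroup_dvd_card _
    rw [hn] at h1 h2 ⊢
    have hn1 : n ≠ 0 := by
      rintro rfl
      rw [pow_zero, Nat.dvd_one] at h1
      exact hprime.one_lt.ne' h1
    have hn2 : n < 2 := by
      by_contra hcon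
      push Not at hcon
      exact hndiv ((pow_dvd_pow p' hcon).trans h2)
    have : n = 1 := by omega
    rw [this, pow_one]
  obtain ⟨x, hx⟩ := exists_prime_orderOf_dvd_card' (G := (P : Subgroup K)) p'
    (by rw [hPcard])
  have hx1 : x ≠ 1 := by
    rintro rfl
    rw [orderOf_one] at hx
    exact hprime.one_lt.ne hx
  refine ⟨Nat.card (Subgroup.normalizer ((P : Subgroup K) : Set K)),
    (Subgroup.normalizer ((P : Subgroup K) : Set K)).index, Subgroup.card_mul_index _, ?_, ?_, ?_⟩
  · have hle := Subgroup.card_dvd_of_le (Subgroup.le_normalizer (H := (P : Subgroup K)))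
    rwa [hPcard] at hle
  · by_contra hodd
    have h2 : 2 ∣ Nat.card (Subgroup.normalizer ((P : Subgroup K) : Set K)) := by omega
    obtain ⟨t, ht⟩ := exists_prime_orderOf_dvd_card'
      (G := Subgroup.normalizer ((P : Subgroup K) : Set K)) 2 h2
    -- the conjugate of the generator lies in the Sylow subgroup
    have hmem : (t : K) * (x : K) * (t : K)⁻¹ ∈ (P : Subgroup K) :=
      (Subgroup.mem_normalizer_iff.1 t.2 (x : K)).1 x.2
    have hz := mem_zpowers_of_prime_card (G := (P : Subgroup K)) hPcard (g := x)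
      (g' := ⟨(t : K) * (x : K) * (t : K)⁻¹, hmem⟩) hx1
    obtain ⟨k, hk⟩ := hz
    have hk' : (((x : K) : Equiv.Perm GolayPt)) ^ k =
        ((t : K) : Equiv.Perm GolayPt) * ((x : K) : Equiv.Perm GolayPt) *
          ((t : K) : Equiv.Perm GolayPt)⁻¹ := by
      have := congrArg (fun z : (P : Subgroup K) => (((z : K)) : Equiv.Perm GolayPt)) hk
      simpa using this
    have hordx : orderOf (((x : K)) : Equiv.Perm GolayPt) = p' := by
      rw [Subgroup.orderOf_coe, Subgroup.orderOf_coe, hx]
    have hordt : orderOf (((t : K)) : Equiv.Perm GolayPt) = 2 := by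
      rw [Subgroup.orderOf_coe, Subgroup.orderOf_coe, ht]
    have ht2 : (((t : K)) : Equiv.Perm GolayPt) * ((t : K) : Equiv.Perm GolayPt) = 1 := by
      rw [← sq, ← hordt]
      exact pow_orderOf_eq_one _
    have ht1 : (((t : K)) : Equiv.Perm GolayPt) ≠ 1 := by
      intro h1
      rw [h1, orderOf_one] at hordt
      omega
    exact no_involution_normalizes h.ne (h.le (x : K).2) (h.le (t : K).2)
      (h.fp _ (x : K).2) (h.fq _ (x : K).2) (h.fp _ (t : K).2) (h.fq _ (t : K).2) hp' hordx
      ht2 ht1 ⟨k, hk'⟩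
  · have h1 := card_sylow_modEq_one p' K
    rw [Sylow.card_eq_index_normalizer P] at h1
    have h2 : 1 % p' = 1 := Nat.mod_eq_of_lt hprime.one_lt
    rw [← h2]
    exact h1

theorem Fix2.card_ne_36960 {p q : GolayPt} {K : Subgroup (Equiv.Perm GolayPt)} (h : Fix2 p q K) :
    Nat.card K ≠ 36960 := by
  intro hc
  obtain ⟨a, m, ham, h7, hodd, hm⟩ := h.sylow_count (p' := 7) (Or.inl rfl)
    (by rw [hc]; norm_num) (by rw [hc]; norm_num)
  rw [hc] at ham
  have ha : a ∣ 1155 := by
    have h1 : a ∣ 1155 * 32 := ⟨m, by omega⟩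
    have hcop : a.Coprime 32 := by
      have : a.Coprime 2 := by
        rw [Nat.coprime_two_right, Nat.odd_iff]
        exact hodd
      exact Nat.Coprime.pow_right 5 this
    exact hcop.dvd_of_dvd_mul_right h1
  have hle : a ≤ 1155 := Nat.le_of_dvd (by norm_num) ha
  have key : ∀ a : ℕ, a ≤ 1155 → a ∣ 1155 → 7 ∣ a → (36960 / a) % 7 ≠ 1 := by decide +kernel
  have hm' : m = 36960 / a := by
    have hpos : 0 < a := Nat.pos_of_dvd_of_pos ha (by norm_num)
    rw [← ham, Nat.mul_div_cancel_left _ hpos]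
  rw [hm'] at hm
  exact key a hle ha h7 hm

theorem Fix2.card_ne_9856 {p q : GolayPt} {K : Subgroup (Equiv.Perm GolayPt)} (h : Fix2 p q K) :
    Nat.card K ≠ 9856 := by
  intro hc
  obtain ⟨a, m, ham, h11, hodd, hm⟩ := h.sylow_count (p' := 11) (Or.inr rfl)
    (by rw [hc]; norm_num) (by rw [hc]; norm_num)
  rw [hc] at ham
  have ha : a ∣ 77 := by
    have h1 : a ∣ 77 * 128 := ⟨m, by omega⟩
    have hcop : a.Coprime 128 := by
      have : a.Coprime 2 := by
        rw [Nat.coprime_two_right, Nat.odd_iff]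
        exact hodd
      exact Nat.Coprime.pow_right 7 this
    exact hcop.dvd_of_dvd_mul_right h1
  have hle : a ≤ 77 := Nat.le_of_dvd (by norm_num) ha
  have key : ∀ a : ℕ, a ≤ 77 → a ∣ 77 → 11 ∣ a → (9856 / a) % 11 ≠ 1 := by decide
  have hm' : m = 9856 / a := by
    have hpos : 0 < a := Nat.pos_of_dvd_of_pos ha (by norm_num)
    rw [← ham, Nat.mul_div_cancel_left _ hpos]
  rw [hm'] at hm
  exact key a hle ha h11 hm

end Cfsg.Agent.Lib.Helper7
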