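import Cfsg.Agent.Lib.Helper7.HSRecogA
import Cfsg.Agent.Lib.Helper7.M22NoInv

set_option autoImplicit false
set_option linter.unusedSectionVars false

/-! In a rank three group on 100 points with point stabiliser the stabiliser of two points of the
group of the Golay code and subdegrees 1, 22, 77, every subgroup isomorphic to the point stabiliser
is a point stabiliser; automorphisms permute the point stabilisers. -/

namespace Cfsg.Agent.Lib.Helper7.HSRecog

open Cfsg Cfsg.Agent.Lib.Helper7
open scoped Classical

section AutA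

variable {G : Type*} [Group G] {Ω : Type*} [MulAction G Ω] [Fintype Ω]
  (hΩ : Fintype.card Ω = 100) [MulAction.IsPretransitive G Ω] {a b c : Ω} {p q : GolayPt}
  (hpq : p ≠ q) (e : MulAction.stabilizer G a ≃* fixL [q, p])
  (hb : (MulAction.orbit (MulAction.stabilizer G a) b).ncard = 22)
  (hc : (MulAction.orbit (MulAction.stabilizer G a) c).ncard = 77)

include hΩ hpq e hb hc in
theorem card_St_cases (y : Ω) (hy : y ≠ a) :
    Nat.card (St G a y) = 20160 ∨ Nat.card (St G a y) = 5760 := by
  have h1 := orbit_mul_card (G := G) a y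
  rw [card_H hpq e] at h1
  rcases cover hΩ hb hc y with h | h | h
  · exact absurd h hy
  · rw [MulAction.orbit_eq_iff.2 h, hb] at h1
    left; omega
  · rw [MulAction.orbit_eq_iff.2 h, hc] at h1
    right; omega

include hΩ hpq e hb hc in
/-- an element of order 11 has at most one fixed point -/
theorem fix_unique_of_order_eleven (x : G) (hx : orderOf x = 11) (v0 v1 : Ω) (h0 : x • v0 = v0)
    (h1 : x • v1 = v1) : v0 = v1 := by
  by_contra hne
  obtain ⟨g, hg⟩ := MulAction.exists_smul_eq G a v0
  have hy : g⁻¹ • v1 ≠ a := by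
    intro h
    apply hne
    rw [← hg, ← h, smul_inv_smul]
  have hmem : g⁻¹ * x * g ∈ St G a (g⁻¹ • v1) := by
    rw [mem_St]
    constructor
    · rw [mul_smul, mul_smul, hg, h0, ← hg, inv_smul_smul]
    · rw [mul_smul, mul_smul, smul_inv_smul, h1]
  have hord : orderOf (g⁻¹ * x * g) = 11 := by
    have : g⁻¹ * x * g = MulAut.conj g⁻¹ x := by rw [MulAut.conj_apply, inv_inv]
    rw [this, MulEquiv.orderOf_eq, hx]
  have hdvd : 11 ∣ Nat.card (St G a (g⁻¹ • v1)) := by
    rw [← hord]
    have := orderOf_dvd_natCard (⟨g⁻¹ * x * g, hmem⟩ : St G a (g⁻¹ • v1))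
    rwa [← Subgroup.orderOf_coe] at this
  rcases card_St_cases hΩ hpq e hb hc _ hy with h | h <;> rw [h] at hdvd <;> omega

include hΩ in
theorem exists_fix_of_order_eleven (x : G) (hx : orderOf x = 11) : ∃ v : Ω, x • v = v := by
  haveI : Fact (Nat.Prime 11) := ⟨by norm_num⟩
  have hP : IsPGroup 11 (Subgroup.zpowers x) :=
    IsPGroup.of_card (n := 1) (by rw [Nat.card_zpowers, hx, pow_one])
  have h1 := hP.card_modEq_card_fixedPoints Ω
  rw [Nat.card_eq_fintype_card, hΩ] at h1
  have hne : Nat.card (MulAction.fixedPoints (Subgroup.zpowers x) Ω) ≠ 0 := by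
    intro h0
    rw [h0] at h1
    exact absurd h1 (by decide)
  have : Nonempty (MulAction.fixedPoints (Subgroup.zpowers x) Ω) := by
    by_contra hcon
    rw [not_nonempty_iff] at hcon
    exact hne Nat.card_of_isEmpty
  obtain ⟨⟨v, hv⟩⟩ := this
  exact ⟨v, MulAction.mem_fixedPoints.1 hv ⟨x, Subgroup.mem_zpowers x⟩⟩

theorem orbit_cases_arith : ∀ n : ℕ, n ≤ 100 → n ∣ 443520 → n % 11 = 1 →
    n = 1 ∨ n = 12 ∨ n = 45 ∨ n = 56 := by decide

include hΩ hpq e in
theorem card_stabilizer_pt (v : Ω) : Nat.card (MulAction.stabilizer G v) = 443520 := by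
  have h1 := Subgroup.card_mul_index (MulAction.stabilizer G v)
  have h2 := Subgroup.card_mul_index (MulAction.stabilizer G a)
  rw [MulAction.index_stabilizer_of_transitive] at h1 h2
  rw [card_H hpq e, ← h1, Nat.card_eq_fintype_card, hΩ] at h2
  omega

include hΩ hpq e hb hc in
/-- a subgroup isomorphic to the point stabiliser is a point stabiliser -/
theorem eq_stabilizer_of_equiv (K : Subgroup G) (f : K ≃* MulAction.stabilizer G a) :
    ∃ v : Ω, K = MulAction.stabilizer G v := by
  haveI : Fact (Nat.Prime 11) := ⟨by norm_num⟩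
  have hK : Nat.card K = 443520 := by
    rw [Nat.card_congr f.toEquiv]
    exact card_H hpq e
  haveI : Finite K := Nat.finite_of_card_ne_zero (by rw [hK]; norm_num)
  obtain ⟨x, hx⟩ := exists_prime_orderOf_dvd_card' (G := K) 11 (by rw [hK]; norm_num)
  have hxG : orderOf (x : G) = 11 := by rw [Subgroup.orderOf_coe, hx]
  obtain ⟨v0, hv0⟩ := exists_fix_of_order_eleven hΩ (x : G) hxG
  -- the orbit of the fixed point
  have h1 := Subgroup.card_mul_index (MulAction.stabilizer K v0)
  rw [MulAction.index_stabilizer, hK] at h1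
  have hle : (MulAction.orbit K v0).ncard ≤ 100 := by
    have := Set.ncard_le_card (MulAction.orbit K v0)
    rwa [Nat.card_eq_fintype_card, hΩ] at this
  have hmod : (MulAction.orbit K v0).ncard % 11 = 1 := by
    have hP : IsPGroup 11 (Subgroup.zpowers x) :=
      IsPGroup.of_card (n := 1) (by rw [Nat.card_zpowers, hx, pow_one])
    have h2 := hP.card_modEq_card_fixedPoints (MulAction.orbit K v0)
    rw [Nat.card_coe_set_eq, Nat.card_coe_set_eq] at h2
    have hfix : MulAction.fixedPoints (Subgroup.zpowers x) (MulAction.orbit K v0) =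
        {⟨v0, MulAction.mem_orbit_self v0⟩} := by
      ext ⟨w, hw⟩
      rw [MulAction.mem_fixedPoints, Set.mem_singleton_iff]
      constructor
      · intro hfw
        have h3 := hfw ⟨x, Subgroup.mem_zpowers x⟩
        have h4 : (x : G) • w = w := congrArg Subtype.val h3
        exact Subtype.ext (fix_unique_of_order_eleven hΩ hpq e hb hc (x : G) hxG w v0 h4 hv0)
      · intro hw0
        rintro ⟨z, hz⟩
        have hw1 : w = v0 := congrArg Subtype.val hw0
        subst hw1
        apply Subtype.ext
        have hxs : x ∈ MulAction.stabilizer K w := MulAction.mem_stabilizer_iff.2 hv0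
        have hzs : z ∈ MulAction.stabilizer K w := by
          obtain ⟨k, rfl⟩ := hz
          exact Subgroup.zpow_mem _ hxs k
        exact MulAction.mem_stabilizer_iff.1 hzs
    rw [hfix, Set.ncard_singleton] at h2
    exact h2
  have hdvd : (MulAction.orbit K v0).ncard ∣ 443520 := ⟨_, by rw [← h1, mul_comm]⟩
  -- the stabiliser of the fixed point inside the code group
  set S := MulAction.stabilizer K v0 with hS
  set L' : Subgroup (Equiv.Perm GolayPt) := (S.map f.toMonoidHom).map (phi e) with hL'
  have hL'card : Nat.card L' = Nat.card S := by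
    rw [hL', Subgroup.card_map_of_injective (phi_injective e),
      Subgroup.card_map_of_injective f.injective]
  have hfix2 : Fix2 p q L' := by
    refine (fix2_fixL2 hpq).mono ?_
    rintro _ ⟨h, -, rfl⟩
    exact phi_mem e h
  have hn1 : (MulAction.orbit K v0).ncard = 1 := by
    rcases orbit_cases_arith _ hle hdvd hmod with h | h | h | h
    · exact h
    · exfalso
      rw [h] at h1
      exact hfix2.card_ne_36960 (by rw [hL'card]; omega)
    · exfalso
      rw [h] at h1
      exact hfix2.card_ne_9856 (by rw [hL'card]; omega)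
    · exfalso
      rw [h] at h1
      exact hfix2.card_ne_7920 (by rw [hL'card]; omega)
  obtain ⟨w, hw⟩ := Set.ncard_eq_one.1 hn1
  have hwv : w = v0 := by
    have := MulAction.mem_orbit_self (M := K) v0
    rw [hw, Set.mem_singleton_iff] at this
    exact this.symm
  have hKle : K ≤ MulAction.stabilizer G v0 := by
    intro k hk
    rw [MulAction.mem_stabilizer_iff]
    have : (⟨k, hk⟩ : K) • v0 ∈ MulAction.orbit K v0 := MulAction.mem_orbit _ _
    rw [hw, Set.mem_singleton_iff, hwv] at this
    exact this
  have hcv := card_stabilizer_pt hΩ hpq e v0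
  haveI : Finite (MulAction.stabilizer G v0) :=
    Nat.finite_of_card_ne_zero (by rw [hcv]; norm_num)
  exact ⟨v0, Subgroup.eq_of_le_of_card_ge hKle (by rw [hcv, hK])⟩

include hΩ hpq e hb hc in
/-- automorphisms permute the point stabilisers -/
theorem aut_stabilizer (α : MulAut G) (a' : Ω) :
    ∃ b' : Ω, ∀ g : G, g • a' = a' ↔ (α g) • b' = b' := by
  obtain ⟨g0, hg0⟩ := MulAction.exists_smul_eq G a a'
  have f1 : (MulAction.stabilizer G a').map α.toMonoidHom ≃* MulAction.stabilizer G a' :=
    ((MulAction.stabilizer G a').equivMapOfInjective α.toMonoidHom α.injective).symm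
  have f2 : MulAction.stabilizer G a ≃* MulAction.stabilizer G a' :=
    MulAction.stabilizerEquivStabilizer hg0.symm
  obtain ⟨v, hv⟩ := eq_stabilizer_of_equiv hΩ hpq e hb hc _ (f1.trans f2.symm)
  refine ⟨v, fun g => ?_⟩
  rw [← MulAction.mem_stabilizer_iff, ← MulAction.mem_stabilizer_iff (a := v), ← hv]
  constructor
  · intro hg
    exact ⟨g, hg, rfl⟩
  · rintro ⟨g', hg', heq⟩
    have := α.injective heq
    subst this
    exact hg'

include hΩ hb hc in
/-- distinct points have distinct stabilisers -/
theorem pt_unique_of_stabilizer (v v' : Ω) (h : ∀ g : G, g • v = v ↔ g • v' = v') : v = v' := by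
  by_contra hne
  obtain ⟨g0, hg0⟩ := MulAction.exists_smul_eq G a v
  have hy : g0⁻¹ • v' ≠ a := by
    intro h1
    apply hne
    rw [← hg0, ← h1, smul_inv_smul]
  have horb : MulAction.orbit (MulAction.stabilizer G a) (g0⁻¹ • v') = {g0⁻¹ • v'} := by
    ext z
    rw [mem_orbit_stab, Set.mem_singleton_iff]
    constructor
    · rintro ⟨k, hk, rfl⟩
      have h1 : (g0 * k * g0⁻¹) • v = v := by
        rw [mul_smul, mul_smul, ← hg0, inv_smul_smul, hk]
      have h2 := (h _).1 h1
      rw [mul_smul, mul_smul] at h2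
      have h3 := congrArg (fun z => g0⁻¹ • z) h2
      simpa using h3
    · rintro rfl
      exact ⟨1, one_smul _ _, one_smul _ _⟩
  have h1 : (MulAction.orbit (MulAction.stabilizer G a) (g0⁻¹ • v')).ncard = 1 := by
    rw [horb, Set.ncard_singleton]
  rcases cover hΩ hb hc (g0⁻¹ • v') with h2 | h2 | h2
  · exact hy h2
  · rw [MulAction.orbit_eq_iff.2 h2, hb] at h1
    omega
  · rw [MulAction.orbit_eq_iff.2 h2, hc] at h1
    omega

end AutA

end Cfsg.Agent.Lib.Helper7.HSRecog
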