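import Cfsg.Agent.Lib.Helper7.PrimeDegree

set_option autoImplicit false

namespace Cfsg.Agent.Lib.Helper7

open MulAction

section

variable {G : Type*} [Group G] [Finite G] {Ω : Type*} [MulAction G Ω] [Fintype Ω]
  [FaithfulSMul G Ω] [IsPreprimitive G Ω]

/-- a primitive group of degree 100 has no normal subgroup of order 100 -/
theorem no_normal_of_card_100 (hΩ : Fintype.card Ω = 100) (N : Subgroup G) [N.Normal]
    (hN : Nat.card N = 100) : False := by
  have : Fact (Nat.Prime 5) := ⟨by norm_num⟩
  have : Nonempty Ω := Fintype.card_pos_iff.1 (by rw [hΩ]; norm_num)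
  obtain ⟨P⟩ : Nonempty (Sylow 5 N) := inferInstance
  have h1 : 5 ^ 2 ∣ Nat.card P := P.pow_dvd_card_of_pow_dvd_card (by rw [hN]; norm_num)
  have h2 : Nat.card P ∣ 100 := by
    rw [← hN]
    exact Subgroup.card_subgroup_dvd_card _
  obtain ⟨k, hk⟩ := IsPGroup.iff_card.mp P.isPGroup'
  have hk2 : k = 2 := by
    rw [hk] at h1 h2
    have hge : 2 ≤ k := (Nat.pow_dvd_pow_iff_le_right (by norm_num)).1 h1
    have hle : k ≤ 2 := by
      by_contra hcon
      rw [not_le] at hcon
      have h3 : 5 ^ 3 ∣ 5 ^ k := Nat.pow_dvd_pow 5 hcon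
      have h4 := Nat.le_of_dvd (by norm_num) (dvd_trans h3 h2)
      norm_num at h4
    omega
  have hcardP : Nat.card P = 25 := by rw [hk, hk2]; norm_num
  have hidx : (P : Subgroup N).index = 4 := by
    have := Subgroup.card_mul_index (P : Subgroup N)
    rw [hN] at this
    have h25 : Nat.card (P : Subgroup N) = 25 := hcardP
    rw [h25] at this
    omega
  have hn1 : Nat.card (Sylow 5 N) = 1 := by
    have hmod := card_sylow_modEq_one 5 N
    have hdvd := P.card_dvd_index
    rw [hidx] at hdvd
    have hle := Nat.le_of_dvd (by norm_num) hdvd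
    have hpos : 0 < Nat.card (Sylow 5 N) := Nat.card_pos
    unfold Nat.ModEq at hmod
    interval_cases h : Nat.card (Sylow 5 N) <;> simp_all
  have hsub : Subsingleton (Sylow 5 N) := (Nat.card_eq_one_iff_unique.1 hn1).1
  have hchar : (P : Subgroup N).Characteristic := Sylow.characteristic_of_subsingleton P
  have hnormal : ((P : Subgroup N).map N.subtype).Normal :=
    ConjAct.normal_of_characteristic_of_normal
  have hcard' : Nat.card ((P : Subgroup N).map N.subtype) = 25 := by
    rw [← hcardP]
    exact (Nat.card_congr ((P : Subgroup N).equivMapOfInjective N.subtype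
      N.subtype_injective).toEquiv).symm
  have hne : (P : Subgroup N).map N.subtype ≠ ⊥ := by
    intro h
    rw [h, Subgroup.card_bot] at hcard'
    norm_num at hcard'
  have htrans := normal_transitive (Ω := Ω) ((P : Subgroup N).map N.subtype) hne
  have hdvd := card_dvd_of_transitive (Ω := Ω) _ htrans
  rw [hΩ, hcard'] at hdvd
  norm_num at hdvd

/-- a primitive group of degree 100 with a simple point stabiliser is simple -/
theorem isSimpleGroup_of_primitive_100 (hΩ : Fintype.card Ω = 100) (x0 : Ω)
    (hS : IsSimpleGroup (stabilizer G x0)) : IsSimpleGroup G := by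
  have hnt : Nontrivial G := by
    obtain ⟨a, b, hab⟩ := hS.toNontrivial
    exact ⟨a.1, b.1, fun h => hab (Subtype.ext h)⟩
  refine ⟨fun N hN => ?_⟩
  by_cases hbot : N = ⊥
  · exact Or.inl hbot
  right
  have htrans := normal_transitive (Ω := Ω) N hbot
  have hK := hS.eq_bot_or_eq_top_of_normal (N.subgroupOf (stabilizer G x0)) inferInstance
  rcases hK with hK | hK
  · exfalso
    have hdisj : Disjoint N (stabilizer G x0) := Subgroup.subgroupOf_eq_bot.1 hK
    have hpre : IsPretransitive N Ω := ⟨fun a b => by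
      obtain ⟨g, hg, h⟩ := htrans a b
      exact ⟨⟨g, hg⟩, h⟩⟩
    have hstab : stabilizer N x0 = ⊥ := by
      rw [eq_bot_iff]
      intro n hn
      rw [Subgroup.mem_bot]
      have h1 : (n : G) ∈ N ⊓ stabilizer G x0 := ⟨n.2, hn⟩
      rw [disjoint_iff.1 hdisj, Subgroup.mem_bot] at h1
      exact Subtype.ext h1
    have hidx := index_stabilizer_of_transitive N x0
    rw [hstab, Subgroup.index_bot, Nat.card_eq_fintype_card (α := Ω), hΩ] at hidx
    exact no_normal_of_card_100 hΩ N hidx
  · have hle : stabilizer G x0 ≤ N := Subgroup.subgroupOf_eq_top.1 hK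
    rw [eq_top_iff]
    intro g _
    obtain ⟨n, hn, h⟩ := htrans x0 (g • x0)
    have h1 : n⁻¹ * g ∈ stabilizer G x0 := by
      rw [mem_stabilizer_iff, mul_smul, ← h, inv_smul_smul]
    have h2 := N.mul_mem hn (hle h1)
    rwa [mul_inv_cancel_left] at h2

end

end Cfsg.Agent.Lib.Helper7
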