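import Cfsg.Agent.Lib.Helper7.HSSign
import Cfsg.Agent.Lib.Helper7.PrimSimple
import Cfsg.Prelude.Def_Sporadic

set_option autoImplicit false

namespace Cfsg.Agent.Lib.Helper7

open Cfsg MulAction
open scoped Pointwise

/-- the automorphism group of the model graph -/
abbrev HSA : Type := pointBlockGraph W22 ≃g pointBlockGraph W22

instance instFiniteHSA : Finite HSA :=
  Finite.of_injective (fun φ : HSA => φ.toEquiv) (fun _ _ h => RelIso.toEquiv_injective h)

/-- the sign of an automorphism as a permutation of the 100 vertices -/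
noncomputable def sgnHom : HSA →* ℤˣ := Equiv.Perm.sign.comp (MulAction.toPermHom HSA HSV)

theorem toPerm_iotaAut : MulAction.toPermHom HSA HSV iotaAut = iotaPerm := by
  apply Equiv.ext
  intro v
  rfl

theorem sgnHom_iotaAut : sgnHom iotaAut = -1 := by
  show Equiv.Perm.sign (MulAction.toPermHom HSA HSV iotaAut) = -1
  rw [toPerm_iotaAut, sign_iotaPerm]

/-- the even automorphisms -/
noncomputable def HSH : Subgroup HSA := sgnHom.ker

theorem mem_HSH (g : HSA) : g ∈ HSH ↔ sgnHom g = 1 := MonoidHom.mem_ker

theorem index_HSH : HSH.index = 2 := by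
  rw [Subgroup.index_eq_two_iff]
  refine ⟨iotaAut, fun b => ?_⟩
  rw [mem_HSH, mem_HSH, map_mul, sgnHom_iotaAut]
  rcases Int.units_eq_one_or (sgnHom b) with h | h
  · right
    rw [h]
    exact ⟨rfl, by decide⟩
  · left
    rw [h]
    exact ⟨by decide, by decide⟩

/-- the automorphisms fixing the extra vertex -/
abbrev HSK : Subgroup HSA := stabilizer HSA (none : HSV)

theorem HSK_eq_range : HSK = (graphAutHom (B := W22)).range := range_graphAutHom.symm

theorem card_HSK (hcard : Nat.card stab2 = 443520) : Nat.card HSK = 887040 := by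
  rw [HSK_eq_range, ← card_aut_W22 extProp hcard]
  exact (Nat.card_congr (MonoidHom.ofInjective graphAutHom_injective).toEquiv).symm

/-- the image of the stabiliser of two points -/
noncomputable def HSM : Subgroup HSA := autPlus.map graphAutHom

/-- the image is isomorphic to the stabiliser of two points -/
noncomputable def HSMEquiv : HSM ≃* stab2 :=
  (autPlus.equivMapOfInjective graphAutHom graphAutHom_injective).symm.trans autPlusEquiv

theorem card_HSM (hcard : Nat.card stab2 = 443520) : Nat.card HSM = 443520 := by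
  rw [Nat.card_congr HSMEquiv.toEquiv, hcard]

theorem HSM_le_HSK : HSM ≤ HSK := by
  rw [HSK_eq_range]
  exact Subgroup.map_le_range _ _

theorem HSM_le_HSH (hcard : Nat.card stab2 = 443520) (hsimple : IsSimpleGroup stab2) :
    HSM ≤ HSH := by
  have hs : IsSimpleGroup HSM := HSMEquiv.isSimpleGroup
  have hker := hs.eq_bot_or_eq_top_of_normal (sgnHom.comp HSM.subtype).ker
    (MonoidHom.normal_ker _)
  rcases hker with h | h
  · exfalso
    have hinj : Function.Injective (sgnHom.comp HSM.subtype) :=
      (MonoidHom.ker_eq_bot_iff _).1 h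
    have h1 := Nat.card_le_card_of_injective _ hinj
    rw [card_HSM hcard, Nat.card_eq_fintype_card, Fintype.card_units_int] at h1
    omega
  · intro m hm
    have : (⟨m, hm⟩ : HSM) ∈ (sgnHom.comp HSM.subtype).ker := by
      rw [h]
      exact Subgroup.mem_top _
    rw [mem_HSH]
    exact MonoidHom.mem_ker.1 this

/-! ### transitivity of the stabiliser of two points -/

theorem autPlus_trans (n : ℕ) (hn : MulAction.IsMultiplyPretransitive M24 GolayPt (n + 2))
    (x y : Fin n ↪ Pt22) : ∃ g : setSystemAut W22, g ∈ autPlus ∧ ∀ i, g.1 (x i) = y i := by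
  rw [MulAction.isMultiplyPretransitive_iff] at hn
  have hx1 : (none : GolayPt) ∉ Set.range (x.trans (Function.Embedding.subtype Pred22)) := by
    rintro ⟨i, hi⟩
    exact (x i).2.1 hi
  have hy1 : (none : GolayPt) ∉ Set.range (y.trans (Function.Embedding.subtype Pred22)) := by
    rintro ⟨i, hi⟩
    exact (y i).2.1 hi
  have hx2 : (some 22 : GolayPt) ∉ Set.range (Fin.Embedding.snoc _ hx1) := by
    rintro ⟨i, hi⟩
    induction i using Fin.lastCases with
    | last =>
      rw [Fin.Embedding.snoc_last] at hi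
      exact absurd hi (by simp)
    | cast j =>
      rw [Fin.Embedding.snoc_castSucc] at hi
      exact (x j).2.2 hi
  have hy2 : (some 22 : GolayPt) ∉ Set.range (Fin.Embedding.snoc _ hy1) := by
    rintro ⟨i, hi⟩
    induction i using Fin.lastCases with
    | last =>
      rw [Fin.Embedding.snoc_last] at hi
      exact absurd hi (by simp)
    | cast j =>
      rw [Fin.Embedding.snoc_castSucc] at hi
      exact (y j).2.2 hi
  obtain ⟨g, hg⟩ := hn (Fin.Embedding.snoc _ hx2) (Fin.Embedding.snoc _ hy2)
  have hq : g.1 (some 22) = some 22 := by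
    have h1 := DFunLike.congr_fun hg (Fin.last (n + 1))
    rw [Function.Embedding.smul_apply, Fin.Embedding.snoc_last, Fin.Embedding.snoc_last] at h1
    exact h1
  have hp : g.1 none = none := by
    have h1 := DFunLike.congr_fun hg (Fin.last n).castSucc
    rw [Function.Embedding.smul_apply, Fin.Embedding.snoc_castSucc, Fin.Embedding.snoc_castSucc,
      Fin.Embedding.snoc_last, Fin.Embedding.snoc_last] at h1
    exact h1
  have hE := ext22_subtypePerm g.1 hp hq
  have hE' : ext22 (g.1.subtypePerm (pred22_iff_of_fix g.1 hp hq)) ∈ M24 := by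
    rw [hE]
    exact g.2
  refine ⟨⟨g.1.subtypePerm (pred22_iff_of_fix g.1 hp hq), mem_aut_W22_of_M24 _ hE'⟩, hE', ?_⟩
  intro i
  have h1 := DFunLike.congr_fun hg i.castSucc.castSucc
  rw [Function.Embedding.smul_apply, Fin.Embedding.snoc_castSucc, Fin.Embedding.snoc_castSucc,
    Fin.Embedding.snoc_castSucc, Fin.Embedding.snoc_castSucc] at h1
  have h2 : g.1 (x i : GolayPt) = (y i : GolayPt) := h1
  apply Subtype.ext
  exact h2

theorem autPlus_trans_points (h5 : MulAction.IsMultiplyPretransitive M24 GolayPt 5)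
    (x y : Pt22) : ∃ g : setSystemAut W22, g ∈ autPlus ∧ g.1 x = y := by
  have h3 : MulAction.IsMultiplyPretransitive M24 GolayPt (1 + 2) :=
    MulAction.isMultiplyPretransitive_of_le (n := 5) (by norm_num)
      (by rw [Nat.card_eq_fintype_card, card_golayPt']; norm_num)
  obtain ⟨g, hg, h⟩ := autPlus_trans 1 h3
    ⟨fun _ => x, fun _ _ _ => Subsingleton.elim _ _⟩ ⟨fun _ => y, fun _ _ _ => Subsingleton.elim _ _⟩
  exact ⟨g, hg, h 0⟩

theorem autPlus_trans_blocks (h5 : MulAction.IsMultiplyPretransitive M24 GolayPt 5)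
    (b c : W22) : ∃ g : setSystemAut W22, g ∈ autPlus ∧ g.1 • (b : Finset Pt22) = c := by
  have hb6 : (b : Finset Pt22).card = 6 := isSteinerSystem_W22.1 _ b.2
  have hc6 : (c : Finset Pt22).card = 6 := isSteinerSystem_W22.1 _ c.2
  obtain ⟨s, hsb, hs3⟩ := Finset.exists_subset_card_eq (show 3 ≤ (b : Finset Pt22).card by omega)
  obtain ⟨t, htc, ht3⟩ := Finset.exists_subset_card_eq (show 3 ≤ (c : Finset Pt22).card by omega)
  let es : Fin 3 ↪ Pt22 :=
    (s.equivFinOfCardEq hs3).symm.toEmbedding.trans (Function.Embedding.subtype _)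
  let et : Fin 3 ↪ Pt22 :=
    (t.equivFinOfCardEq ht3).symm.toEmbedding.trans (Function.Embedding.subtype _)
  obtain ⟨g, hg, h⟩ := autPlus_trans 3 h5 es et
  refine ⟨g, hg, ?_⟩
  have hgb : g.1 • (b : Finset Pt22) ∈ W22 := smul_mem_of_mem_aut g.2 b.2
  have htsub : t ⊆ g.1 • (b : Finset Pt22) := by
    intro z hz
    obtain ⟨i, hi⟩ : ∃ i, et i = z := by
      refine ⟨t.equivFinOfCardEq ht3 ⟨z, hz⟩, ?_⟩
      show (((t.equivFinOfCardEq ht3).symm (t.equivFinOfCardEq ht3 ⟨z, hz⟩) : t) : Pt22) = z
      rw [Equiv.symm_apply_apply]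
    rw [← hi, ← h i]
    apply Finset.smul_mem_smul_finset
    apply hsb
    exact ((s.equivFinOfCardEq hs3).symm i).2
  obtain ⟨d, -, huniq⟩ := isSteinerSystem_W22.2 t ht3
  rw [huniq _ ⟨hgb, htsub⟩, huniq _ ⟨c.2, htc⟩]

/-! ### invariant sets of vertices -/

theorem graphAutHom_inl (g : setSystemAut W22) (x : Pt22) :
    graphAutHom g (some (Sum.inl x) : HSV) = some (Sum.inl (g.1 x)) := rfl

theorem graphAutHom_inr (g : setSystemAut W22) (b c : W22)
    (h : g.1 • (b : Finset Pt22) = c) :
    graphAutHom g (some (Sum.inr b) : HSV) = some (Sum.inr c) := by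
  show (some (Sum.inr (blockPerm g b)) : HSV) = some (Sum.inr c)
  congr 2
  exact Subtype.ext h

/-- a set of vertices containing the extra vertex and another one, invariant under the stabiliser
of two points, of size dividing 100, is everything -/
theorem closed_set_eq_univ (h5 : MulAction.IsMultiplyPretransitive M24 GolayPt 5)
    (O : Set HSV) (hnone : none ∈ O) (hclosed : ∀ m ∈ HSM, ∀ v ∈ O, m v ∈ O)
    (hdvd : O.ncard ∣ 100) (hne : ∃ v ∈ O, v ≠ none) : O = Set.univ := by
  have hP : (∃ x : Pt22, some (Sum.inl x) ∈ O) → ∀ y : Pt22, some (Sum.inl y) ∈ O := by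
    rintro ⟨x, hx⟩ y
    obtain ⟨g, hg, hgx⟩ := autPlus_trans_points h5 x y
    have := hclosed _ (Subgroup.mem_map_of_mem graphAutHom hg) _ hx
    rw [graphAutHom_inl, hgx] at this
    exact this
  have hB : (∃ b : W22, some (Sum.inr b) ∈ O) → ∀ c : W22, some (Sum.inr c) ∈ O := by
    rintro ⟨b, hb⟩ c
    obtain ⟨g, hg, hgb⟩ := autPlus_trans_blocks h5 b c
    have := hclosed _ (Subgroup.mem_map_of_mem graphAutHom hg) _ hb
    rw [graphAutHom_inr g b c hgb] at this
    exact this
  by_cases h1 : ∃ x : Pt22, some (Sum.inl x) ∈ O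
  · by_cases h2 : ∃ b : W22, some (Sum.inr b) ∈ O
    · apply Set.eq_univ_of_forall
      rintro (_ | x | b)
      · exact hnone
      · exact hP h1 x
      · exact hB h2 b
    · exfalso
      have hO : O = Set.range (Option.map Sum.inl : Option Pt22 → HSV) := by
        ext v
        constructor
        · intro hv
          rcases v with _ | x | b
          · exact ⟨none, rfl⟩
          · exact ⟨some x, rfl⟩
          · exact absurd ⟨b, hv⟩ h2
        · rintro ⟨w, rfl⟩
          rcases w with _ | x
          · exact hnone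
          · exact hP h1 x
      have hinj : Function.Injective (Option.map Sum.inl : Option Pt22 → HSV) :=
        Option.map_injective Sum.inl_injective
      rw [hO, ← Set.image_univ, Set.ncard_image_of_injective _ hinj, Set.ncard_univ,
        Nat.card_eq_fintype_card, Fintype.card_option, card_Pt22] at hdvd
      omega
  · by_cases h2 : ∃ b : W22, some (Sum.inr b) ∈ O
    · exfalso
      have hO : O = Set.range (Option.map Sum.inr : Option W22 → HSV) := by
        ext v
        constructor
        · intro hv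
          rcases v with _ | x | b
          · exact ⟨none, rfl⟩
          · exact absurd ⟨x, hv⟩ h1
          · exact ⟨some b, rfl⟩
        · rintro ⟨w, rfl⟩
          rcases w with _ | b
          · exact hnone
          · exact hB h2 b
      have hinj : Function.Injective (Option.map Sum.inr : Option W22 → HSV) :=
        Option.map_injective Sum.inr_injective
      rw [hO, ← Set.image_univ, Set.ncard_image_of_injective _ hinj, Set.ncard_univ,
        Nat.card_eq_fintype_card, Fintype.card_option, card_W22] at hdvd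
      omega
    · exfalso
      obtain ⟨v, hv, hvne⟩ := hne
      rcases v with _ | x | b
      · exact hvne rfl
      · exact h1 ⟨x, hv⟩
      · exact h2 ⟨b, hv⟩

/-! ### the order of the automorphism group -/

theorem iotaAut_iotaAut (v : HSV) : iotaAut (iotaAut v) = v := iotaFun_involutive v

theorem pretransitive_of_orbit {G : Type*} [Group G] [MulAction G HSV]
    (h : orbit G (none : HSV) = Set.univ) : IsPretransitive G HSV := by
  refine ⟨fun a b => ?_⟩
  obtain ⟨g1, hg1⟩ : a ∈ orbit G (none : HSV) := h ▸ Set.mem_univ a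
  obtain ⟨g2, hg2⟩ : b ∈ orbit G (none : HSV) := h ▸ Set.mem_univ b
  refine ⟨g2 * g1⁻¹, ?_⟩
  rw [← hg1, ← hg2, mul_smul, inv_smul_smul]

theorem HSA_orbit (h5 : MulAction.IsMultiplyPretransitive M24 GolayPt 5) :
    orbit HSA (none : HSV) = Set.univ := by
  obtain ⟨x0, hx0⟩ := iotaAut_none
  have hclosed : ∀ g : HSA, ∀ v ∈ orbit HSA (none : HSV), g v ∈ orbit HSA (none : HSV) := by
    rintro g v ⟨k, rfl⟩
    exact ⟨g * k, mul_smul g k none⟩
  have hpt : ∀ y : Pt22, (some (Sum.inl y) : HSV) ∈ orbit HSA (none : HSV) := by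
    intro y
    obtain ⟨g, -, hg⟩ := autPlus_trans_points h5 x0 y
    have h1 : (some (Sum.inl x0) : HSV) ∈ orbit HSA (none : HSV) := ⟨iotaAut, hx0⟩
    have h2 := hclosed (graphAutHom g) _ h1
    rw [graphAutHom_inl, hg] at h2
    exact h2
  have hnt : Nontrivial Pt22 := Fintype.one_lt_card_iff_nontrivial.1 (by rw [card_Pt22]; norm_num)
  obtain ⟨y, hy⟩ := exists_ne x0
  have hadj : (pointBlockGraph W22).Adj (iotaAut (some (Sum.inl y))) (iotaAut none) :=
    iotaAut.map_rel_iff.2 (pbg_inl_none y)
  rw [hx0] at hadj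
  have hblock : ∃ b : W22, (some (Sum.inr b) : HSV) ∈ orbit HSA (none : HSV) := by
    have hmem := hclosed iotaAut _ (hpt y)
    rcases hw : iotaAut (some (Sum.inl y)) with _ | z | b
    · exfalso
      have h1 : iotaAut (some (Sum.inl x0)) = none := by
        rw [← hx0, iotaAut_iotaAut]
      have h2 := iotaAut.injective (hw.trans h1.symm)
      exact hy (Sum.inl_injective (Option.some_injective _ h2))
    · rw [hw] at hadj
      exact absurd hadj (pbg_inl_inl z x0)
    · rw [hw] at hmem
      exact ⟨b, hmem⟩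
  obtain ⟨b, hb⟩ := hblock
  apply Set.eq_univ_of_forall
  rintro (_ | x | c)
  · exact mem_orbit_self _
  · exact hpt x
  · obtain ⟨g, -, hg⟩ := autPlus_trans_blocks h5 b c
    have h2 := hclosed (graphAutHom g) _ hb
    rw [graphAutHom_inr g b c hg] at h2
    exact h2

theorem card_HSA (h5 : MulAction.IsMultiplyPretransitive M24 GolayPt 5)
    (hcard : Nat.card stab2 = 443520) : Nat.card HSA = 88704000 := by
  have := pretransitive_of_orbit (HSA_orbit h5)
  have h1 := Subgroup.card_mul_index HSK
  rw [index_stabilizer_of_transitive, card_HSK hcard, Nat.card_eq_fintype_card, card_HSV] at h1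
  omega

theorem card_HSH (h5 : MulAction.IsMultiplyPretransitive M24 GolayPt 5)
    (hcard : Nat.card stab2 = 443520) : Nat.card HSH = 44352000 := by
  have h1 := Subgroup.card_mul_index HSH
  rw [index_HSH, card_HSA h5 hcard] at h1
  omega

/-! ### the even automorphisms -/

/-- the stabiliser of the extra vertex among the even automorphisms -/
noncomputable abbrev HSS : Subgroup HSH := stabilizer HSH (none : HSV)

theorem HSS_map : HSS.map HSH.subtype = HSH ⊓ HSK := by
  ext g
  rw [Subgroup.mem_map, Subgroup.mem_inf]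
  constructor
  · rintro ⟨s, hs, rfl⟩
    exact ⟨s.2, hs⟩
  · rintro ⟨h1, h2⟩
    exact ⟨⟨g, h1⟩, h2, rfl⟩

theorem card_HSS_eq : Nat.card HSS = Nat.card (HSH ⊓ HSK : Subgroup HSA) := by
  rw [← HSS_map]
  exact Nat.card_congr (HSS.equivMapOfInjective HSH.subtype HSH.subtype_injective).toEquiv

section

variable (h5 : MulAction.IsMultiplyPretransitive M24 GolayPt 5)
  (hcard : Nat.card stab2 = 443520) (hsimple : IsSimpleGroup stab2)
include h5 hcard hsimple

theorem HSM_le_inf : HSM ≤ HSH ⊓ HSK := le_inf (HSM_le_HSH hcard hsimple) HSM_le_HSK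

theorem HSH_orbit : orbit HSH (none : HSV) = Set.univ := by
  have h1 : 443520 ∣ Nat.card HSS := by
    rw [card_HSS_eq, ← card_HSM hcard]
    exact Subgroup.card_dvd_of_le (HSM_le_inf h5 hcard hsimple)
  have h2 : Nat.card HSS ∣ 887040 := by
    rw [card_HSS_eq, ← card_HSK hcard]
    exact Subgroup.card_dvd_of_le inf_le_right
  have h3 := Subgroup.card_mul_index HSS
  rw [index_stabilizer, card_HSH h5 hcard] at h3
  obtain ⟨k, hk⟩ := h1
  obtain ⟨j, hj⟩ := h2
  have hkj : k * j = 2 := by
    rw [hk] at hj
    have : 443520 * (k * j) = 443520 * 2 := by rw [← mul_assoc, ← hj]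
    exact Nat.eq_of_mul_eq_mul_left (by norm_num) this
  have hk12 : k = 1 ∨ k = 2 := by
    have hle : k ≤ 2 := Nat.le_of_dvd (by norm_num) ⟨j, hkj.symm⟩
    have hpos : k ≠ 0 := by
      rintro rfl
      simp at hkj
    omega
  have hn : (orbit HSH (none : HSV)).ncard = 100 ∨ (orbit HSH (none : HSV)).ncard = 50 := by
    rw [hk] at h3
    rcases hk12 with rfl | rfl
    · left; omega
    · right; omega
  apply closed_set_eq_univ h5 _ (mem_orbit_self _)
  · rintro m hm v ⟨g, rfl⟩
    exact ⟨⟨m, HSM_le_HSH hcard hsimple hm⟩ * g, mul_smul _ g none⟩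
  · rcases hn with hn | hn <;> rw [hn] <;> norm_num
  · apply Set.exists_ne_of_one_lt_ncard
    rcases hn with hn | hn <;> rw [hn] <;> norm_num

theorem HSH_pretransitive : IsPretransitive HSH HSV :=
  pretransitive_of_orbit (HSH_orbit h5 hcard hsimple)

theorem index_HSS : HSS.index = 100 := by
  have := HSH_pretransitive h5 hcard hsimple
  rw [index_stabilizer_of_transitive, Nat.card_eq_fintype_card, card_HSV]

theorem card_HSS : Nat.card HSS = 443520 := by
  have h3 := Subgroup.card_mul_index HSS
  rw [index_HSS h5 hcard hsimple, card_HSH h5 hcard] at h3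
  omega

theorem HSS_map_eq : HSS.map HSH.subtype = HSM := by
  symm
  rw [HSS_map]
  apply Subgroup.eq_of_le_of_card_ge (HSM_le_inf h5 hcard hsimple)
  rw [← card_HSS_eq, card_HSS h5 hcard hsimple, card_HSM hcard]

theorem isSimpleGroup_HSS : IsSimpleGroup HSS := by
  let e : HSS ≃* stab2 :=
    ((HSS.equivMapOfInjective HSH.subtype HSH.subtype_injective).trans
      (MulEquiv.subgroupCongr (HSS_map_eq h5 hcard hsimple))).trans HSMEquiv
  exact e.isSimpleGroup

theorem isCoatom_HSS : IsCoatom HSS := by
  refine ⟨?_, ?_⟩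
  · intro h
    have := index_HSS h5 hcard hsimple
    rw [h, Subgroup.index_top] at this
    norm_num at this
  · intro L hL
    have hstab : stabilizer L (none : HSV) = HSS.subgroupOf L := by
      ext l
      rw [mem_stabilizer_iff, Subgroup.mem_subgroupOf, mem_stabilizer_iff]
      rfl
    have hrel : HSS.relIndex L = (orbit L (none : HSV)).ncard := by
      rw [← index_stabilizer, hstab]
      rfl
    have hmul := Subgroup.relIndex_mul_index hL.le
    rw [index_HSS h5 hcard hsimple] at hmul
    have hdvd : (orbit L (none : HSV)).ncard ∣ 100 := by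
      rw [← hrel]
      exact Dvd.intro _ hmul
    have huniv : orbit L (none : HSV) = Set.univ := by
      apply closed_set_eq_univ h5 _ (mem_orbit_self _) _ hdvd
      · obtain ⟨l, hlL, hlS⟩ := SetLike.exists_of_lt hL
        refine ⟨l • (none : HSV), ⟨⟨l, hlL⟩, rfl⟩, ?_⟩
        intro hcon
        exact hlS (mem_stabilizer_iff.2 hcon)
      · rintro m hm v ⟨l, rfl⟩
        have hmS : (⟨m, HSM_le_HSH hcard hsimple hm⟩ : HSH) ∈ HSS := by
          rw [mem_stabilizer_iff]
          exact HSM_le_HSK hm
        exact ⟨⟨_, hL.le hmS⟩ * l, mul_smul _ l none⟩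
    have hrel100 : HSS.relIndex L = 100 := by
      rw [hrel, huniv, Set.ncard_univ, Nat.card_eq_fintype_card, card_HSV]
    rw [hrel100] at hmul
    have : L.index = 1 := by omega
    exact Subgroup.index_eq_one.1 this

theorem isSimpleGroup_HSH : IsSimpleGroup HSH := by
  have := HSH_pretransitive h5 hcard hsimple
  have hnt : Nontrivial HSV := Fintype.one_lt_card_iff_nontrivial.1 (by rw [card_HSV]; norm_num)
  have hprim : IsPreprimitive HSH HSV :=
    (isCoatom_stabilizer_iff_preprimitive HSH (none : HSV)).1 (isCoatom_HSS h5 hcard hsimple)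
  exact isSimpleGroup_of_primitive_100 card_HSV (none : HSV) (isSimpleGroup_HSS h5 hcard hsimple)

/-- the even automorphisms of the model graph form a simple group of order 44352000 -/
theorem isHS_HSH : IsHS HSH := ⟨isSimpleGroup_HSH h5 hcard hsimple, card_HSH h5 hcard⟩

end

end Cfsg.Agent.Lib.Helper7
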