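import Cfsg.Agent.Lib.Helper7.HSGraph
import Cfsg.Agent.Lib.Helper7.AutTransport

set_option autoImplicit false

namespace Cfsg.Agent.Lib.Helper7

open Cfsg
open scoped Pointwise

section

variable {α β : Type*} [DecidableEq α] [DecidableEq β]

/-- the blocks of isomorphic set systems correspond -/
def blockEquiv (e : α ≃ β) {B : Set (Finset α)} {B' : Set (Finset β)}
    (h : (fun b => b.image e) '' B = B') : B ≃ B' where
  toFun b := ⟨(b : Finset α).image e, by
    rw [← h]
    exact ⟨b.1, b.2, rfl⟩⟩
  invFun b' := ⟨(b' : Finset β).image e.symm, by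
    rw [← image_symm_eq e h]
    exact ⟨b'.1, b'.2, rfl⟩⟩
  left_inv b := by
    apply Subtype.ext
    show ((b : Finset α).image e).image e.symm = b
    rw [Finset.image_image]
    simp
  right_inv b' := by
    apply Subtype.ext
    show ((b' : Finset β).image e.symm).image e = b'
    rw [Finset.image_image]
    simp

theorem blockEquiv_coe (e : α ≃ β) {B : Set (Finset α)} {B' : Set (Finset β)}
    (h : (fun b => b.image e) '' B = B') (b : B) :
    ((blockEquiv e h b : B') : Finset β) = (b : Finset α).image e := rfl

/-- isomorphic set systems have isomorphic point-block graphs -/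
def pbgIso (e : α ≃ β) {B : Set (Finset α)} {B' : Set (Finset β)}
    (h : (fun b => b.image e) '' B = B') : pointBlockGraph B ≃g pointBlockGraph B' where
  toEquiv := Equiv.optionCongr (Equiv.sumCongr e (blockEquiv e h))
  map_rel_iff' := by
    intro v w
    rcases v with _ | a | b <;> rcases w with _ | a' | b'
    · simp
    · show (pointBlockGraph B').Adj none (some (Sum.inl (e a'))) ↔ _
      simp
    · show (pointBlockGraph B').Adj none (some (Sum.inr (blockEquiv e h b'))) ↔ _
      simp
    · show (pointBlockGraph B').Adj (some (Sum.inl (e a))) none ↔ _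
      simp
    · show (pointBlockGraph B').Adj (some (Sum.inl (e a))) (some (Sum.inl (e a'))) ↔ _
      simp
    · show (pointBlockGraph B').Adj (some (Sum.inl (e a))) (some (Sum.inr (blockEquiv e h b'))) ↔ _
      rw [pbg_inl_inr, pbg_inl_inr, blockEquiv_coe]
      exact e.injective.mem_finset_image
    · show (pointBlockGraph B').Adj (some (Sum.inr (blockEquiv e h b))) none ↔ _
      simp
    · show (pointBlockGraph B').Adj (some (Sum.inr (blockEquiv e h b))) (some (Sum.inl (e a'))) ↔ _
      rw [pbg_inr_inl, pbg_inr_inl, blockEquiv_coe]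
      exact e.injective.mem_finset_image
    · show (pointBlockGraph B').Adj (some (Sum.inr (blockEquiv e h b)))
        (some (Sum.inr (blockEquiv e h b'))) ↔ _
      rw [pbg_inr_inr, pbg_inr_inr, blockEquiv_coe, blockEquiv_coe,
        Finset.disjoint_image e.injective, (blockEquiv e h).injective.ne_iff]

end

section

variable {V W : Type*} {G : SimpleGraph V} {G' : SimpleGraph W}

/-- isomorphic graphs have isomorphic automorphism groups -/
def autCongr (ψ : G ≃g G') : (G ≃g G) ≃* (G' ≃g G') where
  toFun φ := (ψ.symm.trans φ).trans ψ
  invFun φ' := (ψ.trans φ').trans ψ.symm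
  left_inv φ := by
    apply RelIso.ext
    intro x
    simp [RelIso.trans_apply]
  right_inv φ' := by
    apply RelIso.ext
    intro x
    simp [RelIso.trans_apply]
  map_mul' φ₁ φ₂ := by
    apply RelIso.ext
    intro x
    simp [RelIso.trans_apply, RelIso.mul_apply]

end

end Cfsg.Agent.Lib.Helper7
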