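import Cfsg.Agent.Lib.Helper7.HSRecogA
import Cfsg.Agent.Lib.Helper7.HSGroup
import Cfsg.Agent.Lib.Helper7.HSTransport
import Cfsg.Agent.S0430
import Cfsg.Agent.S0428
import Cfsg.Agent.S0366
import Cfsg.Agent.S0378
import Cfsg.Agent.S0379

set_option autoImplicit false
set_option linter.unusedSectionVars false

/-! A group acting faithfully on 100 points as in `HSRecogA` is isomorphic to the even automorphisms
of the model Higman-Sims graph. -/

namespace Cfsg.Agent.Lib.Helper7.HSRecog

open Cfsg Cfsg.Agent.Lib.Helper7
open scoped Classical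

section Final

variable {G : Type*} [Group G] {Ω : Type*} [MulAction G Ω] [Fintype Ω] {a b : Ω}

/-- the action by automorphisms of the orbital graph -/
def toAut (h : Hyp G a b) : G →* (oGraph h ≃g oGraph h) where
  toFun g := { toEquiv := MulAction.toPerm g, map_rel_iff' := oadj_smul_iff g }
  map_one' := by
    apply RelIso.ext
    intro x
    exact one_smul G x
  map_mul' g g' := by
    apply RelIso.ext
    intro x
    exact mul_smul g g' x

theorem toAut_apply (h : Hyp G a b) (g : G) (x : Ω) : toAut h g x = g • x := rfl

theorem nonempty_equiv_HSH (h : Hyp G a b) (hf : ∀ g : G, (∀ x : Ω, g • x = x) → g = 1)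
    (hG : Nat.card G = 44352000) : Nonempty (G ≃* HSH) := by
  have hne : (none : GolayPt) ≠ some 22 := by simp
  have hcard : Nat.card stab2 = 443520 := Cfsg.Agent.S0378.result none (some 22) hne
  have hsimple : IsSimpleGroup stab2 := Cfsg.Agent.S0379.result none (some 22) hne
  have h5 := Cfsg.Agent.S0366.result
  have hStd : (pointBlockGraph W22).IsSRGWith 100 22 0 6 :=
    Cfsg.Agent.S0428.result card_Pt22 isSteinerSystem_W22
  obtain ⟨ι⟩ := Cfsg.Agent.S0430.result h.isSRG hStd
  let Φ : G →* HSA := (autCongr ι).toMonoidHom.comp (toAut h)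
  have hinj : Function.Injective Φ := by
    rw [injective_iff_map_eq_one]
    intro g hg
    have h1 : toAut h g = 1 := (autCongr ι).injective (by rw [map_one]; exact hg)
    apply hf
    intro x
    have h2 := DFunLike.congr_fun h1 x
    exact h2
  haveI : IsSimpleGroup HSH := isSimpleGroup_HSH h5 hcard hsimple
  have hA : Nat.card HSA = 88704000 := card_HSA h5 hcard
  have hH : Nat.card HSH = 44352000 := card_HSH h5 hcard
  have hR : Nat.card Φ.range = 44352000 := by
    rw [← Nat.card_congr (MonoidHom.ofInjective hinj).toEquiv]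
    exact hG
  have hidx : Φ.range.index = 2 := by
    have := Subgroup.card_mul_index Φ.range
    rw [hR, hA] at this
    omega
  haveI : Φ.range.Normal := Subgroup.normal_of_index_eq_two hidx
  have hnorm : (Φ.range.subgroupOf HSH).Normal := Subgroup.Normal.subgroupOf inferInstance HSH
  rcases hnorm.eq_bot_or_eq_top with h0 | h0
  · exfalso
    have h1 := Subgroup.relIndex_dvd_index_of_normal Φ.range HSH
    rw [hidx, Subgroup.relIndex, h0, Subgroup.index_bot, hH] at h1
    norm_num at h1
  · rw [Subgroup.subgroupOf_eq_top] at h0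
    have : HSH = Φ.range := Subgroup.eq_of_le_of_card_ge h0 (by rw [hR, hH])
    exact ⟨(MonoidHom.ofInjective hinj).trans (MulEquiv.subgroupCongr this.symm)⟩

end Final

section Both

variable {G : Type*} [Group G] {Ω : Type*} [MulAction G Ω] [Fintype Ω]

/-- the recognition theorem, with the model graph group as target -/
theorem recog (hΩ : Fintype.card Ω = 100) [MulAction.IsPretransitive G Ω]
    (hf : ∀ g : G, (∀ x : Ω, g • x = x) → g = 1) {a b c : Ω} {p q : GolayPt}
    (hpq : p ≠ q) (e : MulAction.stabilizer G a ≃* fixL [q, p])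
    (hb : (MulAction.orbit (MulAction.stabilizer G a) b).ncard = 22)
    (hc : (MulAction.orbit (MulAction.stabilizer G a) c).ncard = 77) : Nonempty (G ≃* HSH) := by
  apply nonempty_equiv_HSH (hyp hΩ hpq e hb hc) hf
  rw [← Subgroup.card_mul_index (MulAction.stabilizer G a),
    MulAction.index_stabilizer_of_transitive, card_H hpq e, Nat.card_eq_fintype_card, hΩ]

end Both

end Cfsg.Agent.Lib.Helper7.HSRecog
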