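import Cfsg.Agent.Lib.Helper7.HSAutA
import Cfsg.Agent.Lib.Helper7.HSRecogB
import Cfsg.Agent.Lib.Helper93.PermCount
import Cfsg.Prelude.Def_KGroupFacts

set_option autoImplicit false
set_option linter.unusedSectionVars false

/-! The outer automorphism group of a rank three permutation group on 100 points as in
`HSRecogA` has order two. -/

namespace Cfsg.Agent.Lib.Helper7.HSRecog

open Cfsg Cfsg.Agent.Lib.Helper7
open scoped Classical

section AutB

variable {Ω : Type*} [Fintype Ω] [DecidableEq Ω] (hΩ : Fintype.card Ω = 100)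
  (G : Subgroup (Equiv.Perm Ω)) [MulAction.IsPretransitive G Ω] {a b c : Ω} {p q : GolayPt}
  (hpq : p ≠ q) (e : MulAction.stabilizer G a ≃* fixL [q, p])
  (hb : (MulAction.orbit (MulAction.stabilizer G a) b).ncard = 22)
  (hc : (MulAction.orbit (MulAction.stabilizer G a) c).ncard = 77)

include hΩ hpq e hb hc in
/-- every automorphism is induced by a permutation -/
theorem exists_perm (α : MulAut G) :
    ∃ τ : Equiv.Perm Ω, ∀ g : G, ((α g : G) : Equiv.Perm Ω) = τ * g * τ⁻¹ := by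
  obtain ⟨τ, -, hτ⟩ := Cfsg.Agent.Lib.Helper93.PermCount.exists_perm_of_aut G (fun _ => True)
    (fun _ _ a ha => absurd trivial ha)
    (fun α a' _ => by
      obtain ⟨b', hb'⟩ := aut_stabilizer hΩ hpq e hb hc α a'
      exact ⟨b', trivial, fun h => hb' h⟩)
    (fun v v' _ _ h => pt_unique_of_stabilizer (G := G) (a := a) hΩ hb hc v v'
      (fun g => h g g.2)) α
  exact ⟨τ, hτ⟩

include hΩ hb hc in
/-- the centraliser of the group in the symmetric group is trivial -/
theorem centralizer_trivial (σ : Equiv.Perm Ω) (hσ : ∀ g ∈ G, σ * g = g * σ) : σ = 1 := by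
  ext v
  rw [Equiv.Perm.one_apply]
  symm
  apply pt_unique_of_stabilizer (G := G) (a := a) hΩ hb hc v (σ v)
  intro g
  have h1 := hσ g g.2
  have h2 : σ ((g : Equiv.Perm Ω) v) = (g : Equiv.Perm Ω) (σ v) := by
    have := congrArg (fun f : Equiv.Perm Ω => f v) h1
    simpa [Equiv.Perm.mul_apply] using this
  constructor
  · intro hg
    have hg' : (g : Equiv.Perm Ω) v = v := hg
    show (g : Equiv.Perm Ω) (σ v) = σ v
    rw [← h2, hg']
  · intro hg
    have hg' : (g : Equiv.Perm Ω) (σ v) = σ v := hg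
    show (g : Equiv.Perm Ω) v = v
    rw [← h2] at hg'
    exact σ.injective hg'

include hΩ hb hc in
/-- an automorphism induced by a permutation is inner exactly when the permutation lies in the
group -/
theorem mem_inn_iff (β : MulAut G) (τ : Equiv.Perm Ω)
    (hτ : ∀ g : G, ((β g : G) : Equiv.Perm Ω) = τ * g * τ⁻¹) : β ∈ Cfsg.Inn G ↔ τ ∈ G := by
  constructor
  · rintro ⟨g0, rfl⟩
    have hcen : (g0 : Equiv.Perm Ω)⁻¹ * τ = 1 := by
      apply centralizer_trivial (a := a) hΩ G hb hc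
      intro g hg
      have h1 := hτ ⟨g, hg⟩
      rw [MulAut.conj_apply] at h1
      have h2 : (g0 : Equiv.Perm Ω) * g * (g0 : Equiv.Perm Ω)⁻¹ = τ * g * τ⁻¹ := h1
      have h3 : g = (g0 : Equiv.Perm Ω)⁻¹ * (τ * g * τ⁻¹) * (g0 : Equiv.Perm Ω) := by
        rw [← h2]; group
      calc (g0 : Equiv.Perm Ω)⁻¹ * τ * g
          = ((g0 : Equiv.Perm Ω)⁻¹ * (τ * g * τ⁻¹) * (g0 : Equiv.Perm Ω)) *
              ((g0 : Equiv.Perm Ω)⁻¹ * τ) := by group
        _ = g * ((g0 : Equiv.Perm Ω)⁻¹ * τ) := by rw [← h3]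
    have : τ = (g0 : Equiv.Perm Ω) := by
      have := congrArg (fun z => (g0 : Equiv.Perm Ω) * z) hcen
      simpa using this
    rw [this]
    exact g0.2
  · intro hτG
    exact ⟨⟨τ, hτG⟩, Cfsg.Agent.Lib.Helper93.PermCount.conj_eq_of_perm G β τ hτG hτ⟩

/-- the permutations preserving the orbital graph -/
def autSub (a b : Ω) : Subgroup (Equiv.Perm Ω) where
  carrier := {τ | ∀ x y, OAdj G a b (τ x) (τ y) ↔ OAdj G a b x y}
  mul_mem' := by
    intro σ τ hσ hτ x y
    rw [Equiv.Perm.mul_apply, Equiv.Perm.mul_apply, hσ, hτ]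
  one_mem' := by
    intro x y
    rfl
  inv_mem' := by
    intro σ hσ x y
    rw [← hσ (σ⁻¹ x) (σ⁻¹ y)]
    have h1 : σ (σ⁻¹ x) = x := Equiv.apply_symm_apply σ x
    have h2 : σ (σ⁻¹ y) = y := Equiv.apply_symm_apply σ y
    rw [h1, h2]

theorem mem_autSub {τ : Equiv.Perm Ω} :
    τ ∈ autSub G a b ↔ ∀ x y, OAdj G a b (τ x) (τ y) ↔ OAdj G a b x y := Iff.rfl

theorem le_autSub : G ≤ autSub G a b := by
  intro g hg x y
  exact oadj_smul_iff (G := G) (⟨g, hg⟩ : G)

/-- the graph preserving permutations as graph automorphisms -/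
def autSubEquiv (h : Hyp G a b) : autSub G a b ≃* (oGraph h ≃g oGraph h) where
  toFun τ := { toEquiv := τ.1, map_rel_iff' := τ.2 _ _ }
  invFun φ := ⟨φ.toEquiv, fun _ _ => φ.map_rel_iff⟩
  left_inv _ := rfl
  right_inv _ := rfl
  map_mul' _ _ := rfl

include hΩ hpq e hb hc in
theorem card_autSub : Nat.card (autSub G a b) = 88704000 := by
  have h := hyp hΩ hpq e hb hc
  have hne : (none : GolayPt) ≠ some 22 := by simp
  have hcard : Nat.card stab2 = 443520 := Cfsg.Agent.S0378.result none (some 22) hne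
  have h5 := Cfsg.Agent.S0366.result
  have hStd : (pointBlockGraph W22).IsSRGWith 100 22 0 6 :=
    Cfsg.Agent.S0428.result card_Pt22 isSteinerSystem_W22
  obtain ⟨ι⟩ := Cfsg.Agent.S0430.result h.isSRG hStd
  rw [Nat.card_congr ((autSubEquiv G h).trans (autCongr ι)).toEquiv]
  exact card_HSA h5 hcard

include hΩ hpq e in
theorem card_G : Nat.card G = 44352000 := by
  rw [← Subgroup.card_mul_index (MulAction.stabilizer G a),
    MulAction.index_stabilizer_of_transitive, card_H hpq e, Nat.card_eq_fintype_card, hΩ]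

include hΩ hb hc in
theorem fix_adj (σ : Equiv.Perm Ω) (hσ : σ ∈ Subgroup.normalizer (G : Set (Equiv.Perm Ω)))
    (hσa : σ a = a) : OAdj G a b a (σ b) := by
  rw [oadj_iff_mem]
  have hσa' : σ⁻¹ a = a := by
    rw [Equiv.Perm.inv_eq_iff_eq, hσa]
  have himg : MulAction.orbit (MulAction.stabilizer G a) (σ b) =
      σ '' MulAction.orbit (MulAction.stabilizer G a) b := by
    ext z
    rw [mem_orbit_stab, Set.mem_image]
    constructor
    · rintro ⟨g, hga, rfl⟩
      have hga' : (g : Equiv.Perm Ω) a = a := hga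
      have hg' : σ⁻¹ * g * σ ∈ G := by
        have := (Subgroup.mem_normalizer_iff.1 (Subgroup.inv_mem _ hσ) g).1 g.2
        simpa using this
      refine ⟨(⟨σ⁻¹ * g * σ, hg'⟩ : G) • b, mem_orbit_stab.2 ⟨⟨σ⁻¹ * g * σ, hg'⟩, ?_, rfl⟩, ?_⟩
      · show (σ⁻¹ * (g : Equiv.Perm Ω) * σ) a = a
        rw [Equiv.Perm.mul_apply, Equiv.Perm.mul_apply, hσa, hga', hσa']
      · show σ ((σ⁻¹ * (g : Equiv.Perm Ω) * σ) b) = (g : Equiv.Perm Ω) (σ b)
        rw [Equiv.Perm.mul_apply, Equiv.Perm.mul_apply]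
        exact Equiv.apply_symm_apply σ _
    · rintro ⟨y, hy, rfl⟩
      obtain ⟨g, hga, rfl⟩ := mem_orbit_stab.1 hy
      have hga' : (g : Equiv.Perm Ω) a = a := hga
      have hg' : σ * g * σ⁻¹ ∈ G := (Subgroup.mem_normalizer_iff.1 hσ g).1 g.2
      refine ⟨⟨σ * g * σ⁻¹, hg'⟩, ?_, ?_⟩
      · show (σ * (g : Equiv.Perm Ω) * σ⁻¹) a = a
        rw [Equiv.Perm.mul_apply, Equiv.Perm.mul_apply, hσa', hga', hσa]
      · show (σ * (g : Equiv.Perm Ω) * σ⁻¹) (σ b) = σ ((g : Equiv.Perm Ω) b)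
        rw [Equiv.Perm.mul_apply, Equiv.Perm.mul_apply]
        congr 2
        exact Equiv.symm_apply_apply σ _
  have hcard : (MulAction.orbit (MulAction.stabilizer G a) (σ b)).ncard = 22 := by
    rw [himg, Set.ncard_image_of_injective _ σ.injective, hb]
  rcases cover hΩ hb hc (σ b) with h | h | h
  · exfalso
    have hba : b = a := σ.injective (h.trans hσa.symm)
    apply a_notMem_b (G := G) hb
    rw [← hba]
    exact MulAction.mem_orbit_self b
  · exact h
  · exfalso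
    rw [MulAction.orbit_eq_iff.2 h, hc] at hcard
    omega

include hΩ hb hc in
theorem normalizer_le_autSub :
    Subgroup.normalizer (G : Set (Equiv.Perm Ω)) ≤ autSub G a b := by
  have hpres : ∀ τ ∈ Subgroup.normalizer (G : Set (Equiv.Perm Ω)), ∀ x y,
      OAdj G a b x y → OAdj G a b (τ x) (τ y) := by
    intro τ hτ x y hxy
    obtain ⟨g0, hg0⟩ := MulAction.exists_smul_eq G a (τ a)
    have hg0' : (g0 : Equiv.Perm Ω) a = τ a := hg0
    have hσ : (g0 : Equiv.Perm Ω)⁻¹ * τ ∈ Subgroup.normalizer (G : Set (Equiv.Perm Ω)) :=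
      Subgroup.mul_mem _ (Subgroup.inv_mem _ (Subgroup.le_normalizer g0.2)) hτ
    have hσa : ((g0 : Equiv.Perm Ω)⁻¹ * τ) a = a := by
      rw [Equiv.Perm.mul_apply, ← hg0']
      exact Equiv.symm_apply_apply _ _
    have h1 := fix_adj hΩ G hb hc _ hσ hσa
    have h2 := h1.smul g0
    have h3 : g0 • ((g0 : Equiv.Perm Ω)⁻¹ * τ) b = τ b := by
      show (g0 : Equiv.Perm Ω) (((g0 : Equiv.Perm Ω)⁻¹ * τ) b) = τ b
      rw [Equiv.Perm.mul_apply]
      exact Equiv.apply_symm_apply _ _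
    rw [hg0, h3] at h2
    -- now a general adjacent pair
    obtain ⟨g, rfl, rfl⟩ := hxy
    have hg' : τ * g * τ⁻¹ ∈ G := (Subgroup.mem_normalizer_iff.1 hτ g).1 g.2
    have h4 := h2.smul (⟨τ * g * τ⁻¹, hg'⟩ : G)
    have h5 : ∀ z : Ω, (⟨τ * g * τ⁻¹, hg'⟩ : G) • τ z = τ (g • z) := by
      intro z
      show (τ * (g : Equiv.Perm Ω) * τ⁻¹) (τ z) = τ ((g : Equiv.Perm Ω) z)
      rw [Equiv.Perm.mul_apply, Equiv.Perm.mul_apply]
      congr 2
      exact Equiv.symm_apply_apply τ _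
    rwa [h5, h5] at h4
  intro τ hτ x y
  constructor
  · intro h
    have := hpres τ⁻¹ (Subgroup.inv_mem _ hτ) _ _ h
    have h1 : τ⁻¹ (τ x) = x := Equiv.symm_apply_apply τ x
    have h2 : τ⁻¹ (τ y) = y := Equiv.symm_apply_apply τ y
    rwa [h1, h2] at this
  · exact hpres τ hτ x y

/-- conjugation by an element of the normaliser -/
def conjAut (τ : Equiv.Perm Ω) (hτ : τ ∈ Subgroup.normalizer (G : Set (Equiv.Perm Ω))) :
    MulAut G where
  toFun g := ⟨τ * g * τ⁻¹, (Subgroup.mem_normalizer_iff.1 hτ g).1 g.2⟩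
  invFun g := ⟨τ⁻¹ * g * τ, by
    have := (Subgroup.mem_normalizer_iff.1 (Subgroup.inv_mem _ hτ) g).1 g.2
    simpa using this⟩
  left_inv g := Subtype.ext (by simp [mul_assoc])
  right_inv g := Subtype.ext (by simp [mul_assoc])
  map_mul' g g' := Subtype.ext (by simp [mul_assoc])

theorem conjAut_apply (τ : Equiv.Perm Ω) (hτ : τ ∈ Subgroup.normalizer (G : Set (Equiv.Perm Ω)))
    (g : G) : ((conjAut G τ hτ g : G) : Equiv.Perm Ω) = τ * g * τ⁻¹ := rfl

include hΩ hpq e hb hc in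
/-- the outer automorphism group has order two -/
theorem card_out : Nat.card (Cfsg.Out G) = 2 := by
  show (Cfsg.Inn G).index = 2
  rw [Subgroup.index_eq_two_iff]
  have hGA : G ≤ autSub G a b := le_autSub G
  have hidx : (G.subgroupOf (autSub G a b)).index = 2 := by
    have h1 := Subgroup.card_mul_index (G.subgroupOf (autSub G a b))
    rw [Nat.card_congr (Subgroup.subgroupOfEquivOfLe hGA).toEquiv, card_G hΩ G hpq e,
      card_autSub hΩ G hpq e hb hc] at h1
    omega
  have hnorm : (G.subgroupOf (autSub G a b)).Normal := Subgroup.normal_of_index_eq_two hidx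
  have hAN : autSub G a b ≤ Subgroup.normalizer (G : Set (Equiv.Perm Ω)) := by
    intro s hs
    rw [Subgroup.mem_normalizer_iff]
    intro g
    constructor
    · intro hg
      have := hnorm.conj_mem ⟨g, hGA hg⟩ (Subgroup.mem_subgroupOf.2 hg) ⟨s, hs⟩
      exact Subgroup.mem_subgroupOf.1 this
    · intro hg
      have := hnorm.conj_mem ⟨s * g * s⁻¹, hGA hg⟩ (Subgroup.mem_subgroupOf.2 hg)
        (⟨s, hs⟩ : autSub G a b)⁻¹
      have h2 := Subgroup.mem_subgroupOf.1 this
      simpa [mul_assoc] using h2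
  obtain ⟨s, hsA, hsG⟩ : ∃ s ∈ autSub G a b, s ∉ G := by
    by_contra hcon
    push Not at hcon
    have hle : autSub G a b ≤ G := fun s hs => hcon s hs
    have heq : autSub G a b = G := le_antisymm hle hGA
    have h1 := card_autSub hΩ G hpq e hb hc
    rw [heq, card_G hΩ G hpq e] at h1
    omega
  refine ⟨conjAut G s (hAN hsA), fun β => ?_⟩
  obtain ⟨τ, hτ⟩ := exists_perm hΩ G hpq e hb hc β
  have hτN : τ ∈ Subgroup.normalizer (G : Set (Equiv.Perm Ω)) := by
    rw [Subgroup.mem_normalizer_iff]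
    intro g
    constructor
    · intro hg
      rw [← hτ ⟨g, hg⟩]
      exact (β ⟨g, hg⟩).2
    · intro hg
      have h1 := hτ (β.symm ⟨τ * g * τ⁻¹, hg⟩)
      rw [MulEquiv.apply_symm_apply] at h1
      have h2 : g = ((β.symm ⟨τ * g * τ⁻¹, hg⟩ : G) : Equiv.Perm Ω) := by
        have := congrArg (fun z => τ⁻¹ * z * τ) h1
        simpa [mul_assoc] using this
      rw [h2]
      exact (β.symm _).2
  have hτA : τ ∈ autSub G a b := normalizer_le_autSub hΩ G hb hc hτN
  have h1 : β ∈ Cfsg.Inn G ↔ τ ∈ G := mem_inn_iff (a := a) hΩ G hb hc β τ hτ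
  have h2 : β * conjAut G s (hAN hsA) ∈ Cfsg.Inn G ↔ τ * s ∈ G := by
    apply mem_inn_iff (a := a) hΩ G hb hc
    intro g
    rw [MulAut.mul_apply, hτ, conjAut_apply]
    group
  have h3 := Subgroup.mul_mem_iff_of_index_two hidx (a := ⟨τ, hτA⟩) (b := ⟨s, hsA⟩)
  simp only [Subgroup.mem_subgroupOf, Subgroup.coe_mul] at h3
  rw [h1, h2]
  by_cases hτG : τ ∈ G
  · right
    exact ⟨hτG, fun h => hsG ((h3.1 h).1 hτG)⟩
  · left
    exact ⟨h3.2 ⟨fun h => absurd h hτG, fun h => absurd h hsG⟩, hτG⟩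

end AutB

end Cfsg.Agent.Lib.Helper7.HSRecog
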