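import Cfsg.Agent.Lib.Helper7.HSAutB

set_option autoImplicit false
set_option linter.unusedSectionVars false

/-! Transport of the outer automorphism group along isomorphisms, and the rank three criterion
for abstract groups acting faithfully. -/

namespace Cfsg.Agent.Lib.Helper7.HSRecog

open Cfsg Cfsg.Agent.Lib.Helper7
open scoped Classical

section Transport

variable {A B : Type*} [Group A] [Group B]

theorem inn_map_congr7 (e : A ≃* B) :
    (Inn A).map (MulAut.congr e).toMonoidHom = Inn B := by
  ext f
  rw [Subgroup.mem_map]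
  constructor
  · rintro ⟨_, ⟨a, rfl⟩, rfl⟩
    refine ⟨e a, ?_⟩
    ext b
    simp [MulAut.congr, MulAut.conj_apply]
  · rintro ⟨b, rfl⟩
    refine ⟨MulAut.conj (e.symm b), ⟨e.symm b, rfl⟩, ?_⟩
    ext c
    simp [MulAut.congr, MulAut.conj_apply]

/-- isomorphic groups have isomorphic outer automorphism groups -/
noncomputable def outCongr7 (e : A ≃* B) : Out A ≃* Out B :=
  QuotientGroup.congr (Inn A) (Inn B) (MulAut.congr e) (inn_map_congr7 e)

theorem card_out_congr (e : A ≃* B) : Nat.card (Out A) = Nat.card (Out B) :=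
  Nat.card_congr (outCongr7 e).toEquiv

end Transport

section Abstract

variable {G : Type*} [Group G] {Ω : Type*} [MulAction G Ω] [Fintype Ω]

/-- the rank three criterion for a group acting faithfully -/
theorem card_out_of_action (hΩ : Fintype.card Ω = 100) [MulAction.IsPretransitive G Ω]
    (hf : ∀ g : G, (∀ x : Ω, g • x = x) → g = 1) {a b c : Ω} {p q : GolayPt}
    (hpq : p ≠ q) (e : MulAction.stabilizer G a ≃* fixL [q, p])
    (hb : (MulAction.orbit (MulAction.stabilizer G a) b).ncard = 22)
    (hc : (MulAction.orbit (MulAction.stabilizer G a) c).ncard = 77) :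
    Nat.card (Cfsg.Out G) = 2 := by
  have hinj : Function.Injective (MulAction.toPermHom G Ω) := by
    rw [injective_iff_map_eq_one]
    intro g hg
    apply hf
    intro x
    have := congrArg (fun f : Equiv.Perm Ω => f x) hg
    exact this
  let φ : G ≃* (MulAction.toPermHom G Ω).range := MonoidHom.ofInjective hinj
  have hφ : ∀ (g : G) (x : Ω), φ g • x = g • x := fun g x => rfl
  have hφs : ∀ (g' : (MulAction.toPermHom G Ω).range) (x : Ω), φ.symm g' • x = g' • x := by
    intro g' x
    rw [← hφ, MulEquiv.apply_symm_apply]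
  haveI : MulAction.IsPretransitive (MulAction.toPermHom G Ω).range Ω := ⟨fun x y => by
    obtain ⟨g, hg⟩ := MulAction.exists_smul_eq G x y
    exact ⟨φ g, by rw [hφ, hg]⟩⟩
  -- the point stabilisers correspond
  let e' : MulAction.stabilizer (MulAction.toPermHom G Ω).range a ≃* MulAction.stabilizer G a :=
    { toFun := fun h => ⟨φ.symm h.1, by
        rw [MulAction.mem_stabilizer_iff, hφs]
        exact MulAction.mem_stabilizer_iff.1 h.2⟩
      invFun := fun g => ⟨φ g.1, by
        rw [MulAction.mem_stabilizer_iff, hφ]
        exact MulAction.mem_stabilizer_iff.1 g.2⟩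
      left_inv := fun h => Subtype.ext (φ.apply_symm_apply h.1)
      right_inv := fun g => Subtype.ext (φ.symm_apply_apply g.1)
      map_mul' := fun h h' => Subtype.ext (map_mul φ.symm h.1 h'.1) }
  have horb : ∀ y : Ω, MulAction.orbit (MulAction.stabilizer (MulAction.toPermHom G Ω).range a) y =
      MulAction.orbit (MulAction.stabilizer G a) y := by
    intro y
    ext z
    rw [mem_orbit_stab, mem_orbit_stab]
    constructor
    · rintro ⟨g', h1, h2⟩
      exact ⟨φ.symm g', by rw [hφs, h1], by rw [hφs, h2]⟩
    · rintro ⟨g, h1, h2⟩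
      exact ⟨φ g, by rw [hφ, h1], by rw [hφ, h2]⟩
  rw [card_out_congr φ]
  exact card_out hΩ (MulAction.toPermHom G Ω).range hpq (e'.trans e)
    (by rw [horb]; exact hb) (by rw [horb]; exact hc)

end Abstract

end Cfsg.Agent.Lib.Helper7.HSRecog
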