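import Mathlib
import Cfsg.Prelude.Def_Sporadic_a

set_option autoImplicit false

namespace Cfsg.Agent.Lib.Helper7

open Cfsg
open scoped Pointwise

section

variable {α : Type*} [DecidableEq α] {B : Set (Finset α)}

theorem pbg_adj_iff (v w : Option (α ⊕ B)) : (pointBlockGraph B).Adj v w ↔
    v ≠ w ∧ (pointBlockRel B v w ∨ pointBlockRel B w v) :=
  SimpleGraph.fromRel_adj _ _ _

@[simp] theorem pbg_none_inl (a : α) : (pointBlockGraph B).Adj none (some (Sum.inl a)) := by
  rw [pbg_adj_iff]
  exact ⟨by simp, Or.inl trivial⟩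

@[simp] theorem pbg_inl_none (a : α) : (pointBlockGraph B).Adj (some (Sum.inl a)) none :=
  (pbg_none_inl a).symm

@[simp] theorem pbg_none_inr (b : B) : ¬ (pointBlockGraph B).Adj none (some (Sum.inr b)) := by
  rw [pbg_adj_iff]
  rintro ⟨-, h | h⟩ <;> exact h

@[simp] theorem pbg_inr_none (b : B) : ¬ (pointBlockGraph B).Adj (some (Sum.inr b)) none :=
  fun h => pbg_none_inr b h.symm

@[simp] theorem pbg_inl_inl (a a' : α) :
    ¬ (pointBlockGraph B).Adj (some (Sum.inl a)) (some (Sum.inl a')) := by
  rw [pbg_adj_iff]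
  rintro ⟨-, h | h⟩ <;> exact h

@[simp] theorem pbg_inl_inr (a : α) (b : B) :
    (pointBlockGraph B).Adj (some (Sum.inl a)) (some (Sum.inr b)) ↔ a ∈ (b : Finset α) := by
  rw [pbg_adj_iff]
  constructor
  · rintro ⟨-, h | h⟩
    · exact h
    · exact absurd h (by simp [pointBlockRel])
  · intro h
    exact ⟨by simp, Or.inl h⟩

@[simp] theorem pbg_inr_inl (a : α) (b : B) :
    (pointBlockGraph B).Adj (some (Sum.inr b)) (some (Sum.inl a)) ↔ a ∈ (b : Finset α) := by
  rw [SimpleGraph.adj_comm, pbg_inl_inr]

@[simp] theorem pbg_inr_inr (b c : B) :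
    (pointBlockGraph B).Adj (some (Sum.inr b)) (some (Sum.inr c)) ↔
      b ≠ c ∧ Disjoint (b : Finset α) (c : Finset α) := by
  rw [pbg_adj_iff]
  constructor
  · rintro ⟨hne, h | h⟩
    · exact ⟨fun h' => hne (by rw [h']), h⟩
    · exact ⟨fun h' => hne (by rw [h']), h.symm⟩
  · rintro ⟨hne, h⟩
    exact ⟨fun h' => hne (Sum.inr_injective (Option.some_injective _ h')), Or.inl h⟩

theorem smul_mem_of_mem_aut {σ : Equiv.Perm α} (hσ : σ ∈ setSystemAut B) {b : Finset α}
    (hb : b ∈ B) : σ • b ∈ B := by
  have h1 := MulAction.mem_stabilizer_iff.1 hσ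
  have h2 : σ • b ∈ σ • B := Set.smul_mem_smul_set hb
  rwa [h1] at h2

/-- the permutation of the blocks induced by an automorphism -/
def blockPerm (h : setSystemAut B) : Equiv.Perm B where
  toFun b := ⟨h.1 • (b : Finset α), smul_mem_of_mem_aut h.2 b.2⟩
  invFun b := ⟨h.1⁻¹ • (b : Finset α), smul_mem_of_mem_aut (inv_mem h.2) b.2⟩
  left_inv b := by
    apply Subtype.ext
    show h.1⁻¹ • h.1 • (b : Finset α) = b
    rw [inv_smul_smul]
  right_inv b := by
    apply Subtype.ext
    show h.1 • h.1⁻¹ • (b : Finset α) = b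
    rw [smul_inv_smul]

theorem blockPerm_coe (h : setSystemAut B) (b : B) :
    ((blockPerm h b : B) : Finset α) = h.1 • (b : Finset α) := rfl

/-- the permutation of the vertices induced by an automorphism -/
def vertexPerm (h : setSystemAut B) : Equiv.Perm (Option (α ⊕ B)) :=
  Equiv.optionCongr (Equiv.sumCongr h.1 (blockPerm h))

@[simp] theorem vertexPerm_none (h : setSystemAut B) : vertexPerm h none = none := rfl

@[simp] theorem vertexPerm_inl (h : setSystemAut B) (a : α) :
    vertexPerm h (some (Sum.inl a)) = some (Sum.inl (h.1 a)) := rfl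

@[simp] theorem vertexPerm_inr (h : setSystemAut B) (b : B) :
    vertexPerm h (some (Sum.inr b)) = some (Sum.inr (blockPerm h b)) := rfl

theorem smul_finset_disjoint_iff (σ : Equiv.Perm α) (b c : Finset α) :
    Disjoint (σ • b) (σ • c) ↔ Disjoint b c := by
  rw [Finset.disjoint_left, Finset.disjoint_left]
  constructor
  · intro h x hx hx'
    exact h (Finset.smul_mem_smul_finset hx) (Finset.smul_mem_smul_finset hx')
  · intro h x hx hx'
    rw [← Finset.inv_smul_mem_iff] at hx hx'
    exact h hx hx'

/-- the graph automorphism induced by an automorphism of the set system -/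
def graphAut (h : setSystemAut B) : pointBlockGraph B ≃g pointBlockGraph B where
  toEquiv := vertexPerm h
  map_rel_iff' := by
    intro v w
    rcases v with _ | a | b <;> rcases w with _ | a' | b'
    · simp
    · simp
    · simp
    · simp
    · simp
    · show (pointBlockGraph B).Adj (some (Sum.inl (h.1 a))) (some (Sum.inr (blockPerm h b'))) ↔ _
      rw [pbg_inl_inr, pbg_inl_inr, blockPerm_coe]
      exact Finset.smul_mem_smul_finset_iff h.1
    · simp
    · show (pointBlockGraph B).Adj (some (Sum.inr (blockPerm h b))) (some (Sum.inl (h.1 a'))) ↔ _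
      rw [pbg_inr_inl, pbg_inr_inl, blockPerm_coe]
      exact Finset.smul_mem_smul_finset_iff h.1
    · show (pointBlockGraph B).Adj (some (Sum.inr (blockPerm h b)))
        (some (Sum.inr (blockPerm h b'))) ↔ _
      rw [pbg_inr_inr, pbg_inr_inr, blockPerm_coe, blockPerm_coe, smul_finset_disjoint_iff]
      rw [(blockPerm h).injective.ne_iff]

@[simp] theorem graphAut_apply (h : setSystemAut B) (v : Option (α ⊕ B)) :
    graphAut h v = vertexPerm h v := rfl

/-- the induced automorphisms, as a homomorphism -/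
def graphAutHom : setSystemAut B →* (pointBlockGraph B ≃g pointBlockGraph B) where
  toFun := graphAut
  map_one' := by
    apply RelIso.ext
    intro v
    rcases v with _ | a | b
    · rfl
    · rfl
    · show some (Sum.inr (blockPerm 1 b)) = some (Sum.inr b)
      congr 2
      apply Subtype.ext
      show (1 : Equiv.Perm α) • (b : Finset α) = b
      rw [one_smul]
  map_mul' h k := by
    apply RelIso.ext
    intro v
    rcases v with _ | a | b
    · rfl
    · rfl
    · show some (Sum.inr (blockPerm (h * k) b)) = some (Sum.inr (blockPerm h (blockPerm k b)))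
      congr 2
      apply Subtype.ext
      show (h.1 * k.1) • (b : Finset α) = h.1 • k.1 • (b : Finset α)
      rw [mul_smul]

theorem graphAutHom_injective : Function.Injective (graphAutHom (B := B)) := by
  intro h k hhk
  apply Subtype.ext
  apply Equiv.ext
  intro a
  have := DFunLike.congr_fun hhk (some (Sum.inl a))
  have h2 : (some (Sum.inl (h.1 a)) : Option (α ⊕ B)) = some (Sum.inl (k.1 a)) := this
  exact Sum.inl_injective (Option.some_injective _ h2)

theorem graphAutHom_none (h : setSystemAut B) : graphAutHom h none = none := rfl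

theorem mem_aut_of_forall_hs (σ : Equiv.Perm α) (h1 : ∀ b ∈ B, σ • b ∈ B)
    (h2 : ∀ b ∈ B, σ⁻¹ • b ∈ B) : σ ∈ setSystemAut B := by
  rw [MulAction.mem_stabilizer_iff]
  apply Set.Subset.antisymm
  · rintro c ⟨b, hb, rfl⟩
    exact h1 b hb
  · intro b hb
    refine ⟨σ⁻¹ • b, h2 b hb, ?_⟩
    show σ • σ⁻¹ • b = b
    rw [smul_inv_smul]

theorem exists_inl_of_fix_none (φ : pointBlockGraph B ≃g pointBlockGraph B)
    (hφ : φ none = none) (a : α) : ∃ a', φ (some (Sum.inl a)) = some (Sum.inl a') := by
  have h1 : (pointBlockGraph B).Adj (φ none) (φ (some (Sum.inl a))) :=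
    φ.map_rel_iff.2 (pbg_none_inl a)
  rw [hφ] at h1
  rcases h : φ (some (Sum.inl a)) with _ | a' | b
  · rw [h] at h1
    exact absurd h1 (SimpleGraph.irrefl _)
  · exact ⟨a', rfl⟩
  · rw [h] at h1
    exact absurd h1 (pbg_none_inr b)

theorem symm_fix_none (φ : pointBlockGraph B ≃g pointBlockGraph B) (hφ : φ none = none) :
    φ.symm none = none := by
  rw [← hφ, RelIso.symm_apply_apply, hφ]

/-- the permutation of the points induced by a graph automorphism fixing the extra vertex -/
noncomputable def pointPerm (φ : pointBlockGraph B ≃g pointBlockGraph B) (hφ : φ none = none) :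
    Equiv.Perm α where
  toFun a := Classical.choose (exists_inl_of_fix_none φ hφ a)
  invFun a := Classical.choose (exists_inl_of_fix_none φ.symm (symm_fix_none φ hφ) a)
  left_inv a := by
    have h1 := Classical.choose_spec (exists_inl_of_fix_none φ hφ a)
    have h2 := Classical.choose_spec (exists_inl_of_fix_none φ.symm (symm_fix_none φ hφ)
      (Classical.choose (exists_inl_of_fix_none φ hφ a)))
    have h3 : φ.symm (φ (some (Sum.inl a))) = some (Sum.inl a) := φ.symm_apply_apply _
    rw [h1] at h3
    exact Sum.inl_injective (Option.some_injective _ (h2.symm.trans h3))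
  right_inv a := by
    have h1 := Classical.choose_spec (exists_inl_of_fix_none φ.symm (symm_fix_none φ hφ) a)
    have h2 := Classical.choose_spec (exists_inl_of_fix_none φ hφ
      (Classical.choose (exists_inl_of_fix_none φ.symm (symm_fix_none φ hφ) a)))
    have h3 : φ (φ.symm (some (Sum.inl a))) = some (Sum.inl a) := φ.apply_symm_apply _
    rw [h1] at h3
    exact Sum.inl_injective (Option.some_injective _ (h2.symm.trans h3))

theorem apply_inl (φ : pointBlockGraph B ≃g pointBlockGraph B) (hφ : φ none = none) (a : α) :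
    φ (some (Sum.inl a)) = some (Sum.inl (pointPerm φ hφ a)) :=
  Classical.choose_spec (exists_inl_of_fix_none φ hφ a)

theorem exists_inr_of_fix_none (φ : pointBlockGraph B ≃g pointBlockGraph B)
    (hφ : φ none = none) (b : B) : ∃ b' : B, φ (some (Sum.inr b)) = some (Sum.inr b') ∧
      (b' : Finset α) = pointPerm φ hφ • (b : Finset α) := by
  rcases h : φ (some (Sum.inr b)) with _ | a' | b'
  · rw [← hφ] at h
    exact absurd (φ.injective h) (by simp)
  · have h1 := apply_inl φ hφ ((pointPerm φ hφ).symm a')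
    rw [Equiv.apply_symm_apply, ← h] at h1
    exact absurd (φ.injective h1) (by simp)
  · refine ⟨b', rfl, ?_⟩
    ext a'
    rw [← pbg_inl_inr (B := B), ← Finset.inv_smul_mem_iff]
    have h1 := apply_inl φ hφ ((pointPerm φ hφ)⁻¹ a')
    have h2 : (pointPerm φ hφ) ((pointPerm φ hφ)⁻¹ a') = a' := Equiv.apply_symm_apply _ _
    rw [h2] at h1
    rw [← h1, ← h, φ.map_rel_iff, pbg_inl_inr]
    rfl

theorem pointPerm_symm (φ : pointBlockGraph B ≃g pointBlockGraph B) (hφ : φ none = none) :
    pointPerm φ.symm (symm_fix_none φ hφ) = (pointPerm φ hφ)⁻¹ := by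
  apply Equiv.ext
  intro a
  rfl

theorem pointPerm_mem (φ : pointBlockGraph B ≃g pointBlockGraph B) (hφ : φ none = none) :
    pointPerm φ hφ ∈ setSystemAut B := by
  apply mem_aut_of_forall_hs
  · intro b hb
    obtain ⟨b', -, h2⟩ := exists_inr_of_fix_none φ hφ ⟨b, hb⟩
    rw [← h2]
    exact b'.2
  · intro b hb
    obtain ⟨b', -, h2⟩ := exists_inr_of_fix_none φ.symm (symm_fix_none φ hφ) ⟨b, hb⟩
    rw [pointPerm_symm φ hφ] at h2
    rw [← h2]
    exact b'.2

/-- every automorphism of the graph fixing the extra vertex is induced -/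
theorem exists_of_fix_none (φ : pointBlockGraph B ≃g pointBlockGraph B) (hφ : φ none = none) :
    ∃ h : setSystemAut B, graphAutHom h = φ := by
  refine ⟨⟨pointPerm φ hφ, pointPerm_mem φ hφ⟩, ?_⟩
  apply RelIso.ext
  intro v
  rcases v with _ | a | b
  · exact hφ.symm
  · exact (apply_inl φ hφ a).symm
  · obtain ⟨b', h1, h2⟩ := exists_inr_of_fix_none φ hφ b
    rw [h1]
    show some (Sum.inr (blockPerm ⟨pointPerm φ hφ, pointPerm_mem φ hφ⟩ b)) = some (Sum.inr b')
    congr 2
    apply Subtype.ext
    rw [h2]
    rfl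

theorem range_graphAutHom : (graphAutHom (B := B)).range =
    MulAction.stabilizer (pointBlockGraph B ≃g pointBlockGraph B) (none : Option (α ⊕ B)) := by
  ext φ
  rw [MonoidHom.mem_range, MulAction.mem_stabilizer_iff]
  constructor
  · rintro ⟨h, rfl⟩
    rfl
  · intro hφ
    exact exists_of_fix_none φ hφ

end

end Cfsg.Agent.Lib.Helper7
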