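import Cfsg.Agent.Lib.Helper7.W22Aut
import Cfsg.Agent.Lib.Helper7.HSGraph

set_option autoImplicit false
set_option maxRecDepth 100000

namespace Cfsg.Agent.Lib.Helper7

open Cfsg
open scoped Pointwise

/-- the vertices of the model of the 100-vertex graph -/
abbrev HSV : Type := Option (Pt22 ⊕ W22)

/-- the set of points attached to a vertex -/
def vset : HSV → Finset GolayPt
  | none => ∅
  | some (Sum.inl x) => {x.1}
  | some (Sum.inr b) => up b.1

/-- the code of a vertex -/
def vcode (v : HSV) : ℕ := maskOfSet (vset v)

theorem finOf_vcode (v : HSV) : finOf (vcode v) = vset v := finOf_maskOfSet _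

theorem popc_vcode (v : HSV) : popc (vcode v) = (vset v).card := by
  rw [← card_finOf, finOf_vcode]

theorem card_vset_inr (b : W22) : (vset (some (Sum.inr b))).card = 8 := b.2.2

theorem vset_injective : Function.Injective vset := by
  intro v w h
  rcases v with _ | x | b <;> rcases w with _ | y | c
  · rfl
  · exact absurd h.symm (Finset.singleton_ne_empty _)
  · have := congrArg Finset.card h
    rw [card_vset_inr] at this
    exact absurd this (by simp [vset])
  · exact absurd h (Finset.singleton_ne_empty _)
  · have h1 : x.1 = y.1 := Finset.singleton_injective h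
    rw [Subtype.ext h1]
  · have := congrArg Finset.card h
    rw [card_vset_inr] at this
    exact absurd this (by simp [vset])
  · have := congrArg Finset.card h
    rw [card_vset_inr] at this
    exact absurd this (by simp [vset])
  · have := congrArg Finset.card h
    rw [card_vset_inr] at this
    exact absurd this (by simp [vset])
  · have h1 : up b.1 = up c.1 := h
    have h2 : b.1 = c.1 := by rw [← down_up b.1, h1, down_up]
    rw [Subtype.ext h2]

theorem vcode_injective : Function.Injective vcode := by
  intro v w h
  apply vset_injective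
  rw [← finOf_vcode, ← finOf_vcode, h]

/-! ### the list of codes -/

def hsPts : List ℕ :=
  [1, 2, 4, 8, 16, 32, 64, 128, 256, 512, 1024, 2048, 4096, 8192, 16384, 32768, 65536, 131072, 262144, 524288, 1048576, 2097152]

/-- the codes of the 100 vertices -/
def hsV : List ℕ := 0 :: (hsPts ++ ext22L0)

theorem pt22_eq : pt 22 = (some 22 : GolayPt) := by decide

theorem pt23_eq : pt 23 = (none : GolayPt) := by decide

theorem idx_lt_22 (x : Pt22) : idx x.1 < 22 := by
  have h1 := idx_lt x.1
  have h2 : idx x.1 ≠ 23 := by
    intro h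
    apply x.2.1
    rw [← pt_idx x.1, h, pt23_eq]
  have h3 : idx x.1 ≠ 22 := by
    intro h
    apply x.2.2
    rw [← pt_idx x.1, h, pt22_eq]
  omega

theorem vcode_none : vcode none = 0 := maskOfSet_empty

theorem vcode_inl (x : Pt22) : vcode (some (Sum.inl x)) = 2 ^ idx x.1 := by
  show maskOfSet {x.1} = _
  have h1 : ({x.1} : Finset GolayPt) = insert (pt (idx x.1)) ∅ := by
    rw [pt_idx]
    rfl
  rw [h1, maskOfSet_insert _ _ (idx_lt x.1), maskOfSet_empty, Nat.zero_or]

theorem two_pow_mem_hsPts : ∀ j < 22, 2 ^ j ∈ hsPts := by decide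

/-- the octads through the two points are listed -/
def octCheck22 (l : List ℕ) : Bool :=
  (List.range 4096).all fun i =>
    !(Nat.beq (popc (encode i)) 8 && (encode i).testBit 23 && (encode i).testBit 22) ||
      l.contains (encode i)

theorem ext22L0_check22 : octCheck22 ext22L0 = true := by decide +kernel

theorem vcode_inr_mem (b : W22) : vcode (some (Sum.inr b)) ∈ ext22L0 := by
  have hoct : up b.1 ∈ octads := b.2
  have hlt : maskOfSet (up b.1) < 2 ^ 24 := maskOfSet_lt _
  have hfin : finOf (maskOfSet (up b.1)) = up b.1 := finOf_maskOfSet _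
  have henc := eq_encode_of_mem_supports hlt (by rw [hfin]; exact hoct.1)
  have hi : maskOfSet (up b.1) % 4096 < 4096 := Nat.mod_lt _ (by norm_num)
  have hall := ext22L0_check22
  rw [octCheck22, List.all_eq_true] at hall
  have h1 := hall _ (List.mem_range.2 hi)
  rw [← henc] at h1
  have hpop : Nat.beq (popc (maskOfSet (up b.1))) 8 = true := by
    rw [← card_finOf, hfin, hoct.2]
    rfl
  have h23 : (maskOfSet (up b.1)).testBit 23 = true := by
    have : (none : GolayPt) ∈ finOf (maskOfSet (up b.1)) := by
      rw [hfin]
      exact none_mem_up _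
    exact (mem_finOf _ _).1 this
  have h22 : (maskOfSet (up b.1)).testBit 22 = true := by
    have : (some 22 : GolayPt) ∈ finOf (maskOfSet (up b.1)) := by
      rw [hfin]
      exact q_mem_up _
    exact (mem_finOf _ _).1 this
  rw [hpop, h23, h22] at h1
  have h4 : maskOfSet (up b.1) ∈ ext22L0 := List.contains_iff_mem.1 (by simpa using h1)
  exact h4

theorem vcode_mem (v : HSV) : vcode v ∈ hsV := by
  rcases v with _ | x | b
  · rw [vcode_none]
    exact List.mem_cons_self
  · rw [vcode_inl]
    exact List.mem_cons_of_mem _ (List.mem_append_left _ (two_pow_mem_hsPts _ (idx_lt_22 x)))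
  · exact List.mem_cons_of_mem _ (List.mem_append_right _ (vcode_inr_mem b))

theorem ext22L0_lt : ∀ m ∈ ext22L0, m < 2 ^ 24 := by decide +kernel

theorem mem_hsPts_iff : ∀ m ∈ hsPts, ∃ j < 22, m = 2 ^ j := by decide

theorem exists_vcode_eq (m : ℕ) (hm : m ∈ hsV) : ∃ v : HSV, vcode v = m := by
  rcases List.mem_cons.1 hm with rfl | hm
  · exact ⟨none, vcode_none⟩
  · rcases List.mem_append.1 hm with hm | hm
    · obtain ⟨j, hj, rfl⟩ := mem_hsPts_iff m hm
      have hj24 : j < 24 := by omega
      have hpred : Pred22 (pt j) := by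
        refine ⟨?_, ?_⟩
        · intro h
          have := congrArg idx h
          rw [idx_pt j hj24] at this
          have h2 : idx (none : GolayPt) = 23 := rfl
          omega
        · intro h
          have := congrArg idx h
          rw [idx_pt j hj24, ← pt22_eq, idx_pt 22 (by norm_num)] at this
          omega
      refine ⟨some (Sum.inl ⟨pt j, hpred⟩), ?_⟩
      rw [vcode_inl]
      show 2 ^ idx (pt j) = 2 ^ j
      rw [idx_pt j hj24]
    · obtain ⟨h1, h2, h3⟩ := ext22L0_spec m hm
      have hW : down (finOf m) ∈ W22 := by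
        show up (down (finOf m)) ∈ octads
        rw [up_down h2 h3]
        exact h1
      refine ⟨some (Sum.inr ⟨down (finOf m), hW⟩), ?_⟩
      show maskOfSet (up (down (finOf m))) = m
      rw [up_down h2 h3, maskOfSet_finOf (ext22L0_lt m hm)]

/-! ### adjacency on codes -/

/-- the directed relation on codes -/
def adjD (m n : ℕ) : Bool :=
  (Nat.beq m 0 && Nat.beq (popc n) 1) ||
  (Nat.beq (popc m) 1 && Nat.beq (popc n) 8 && !(Nat.beq (m &&& n) 0)) ||
  (Nat.beq (popc m) 8 && Nat.beq (popc n) 8 && Nat.beq (popc (m &&& n)) 2)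

theorem popc_vcode_none : popc (vcode none) = 0 := by
  rw [popc_vcode]
  rfl

theorem popc_vcode_inl (x : Pt22) : popc (vcode (some (Sum.inl x))) = 1 := by
  rw [popc_vcode]
  exact Finset.card_singleton _

theorem popc_vcode_inr (b : W22) : popc (vcode (some (Sum.inr b))) = 8 := by
  rw [popc_vcode]
  exact card_vset_inr b

theorem vcode_inl_ne_zero (x : Pt22) : vcode (some (Sum.inl x)) ≠ 0 := by
  intro h
  have := popc_vcode_inl x
  rw [h] at this
  exact absurd this (by decide)

theorem vcode_inr_ne_zero (b : W22) : vcode (some (Sum.inr b)) ≠ 0 := by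
  intro h
  have := popc_vcode_inr b
  rw [h] at this
  exact absurd this (by decide)

theorem beq_false_of_ne {a b : ℕ} (h : a ≠ b) : Nat.beq a b = false := by
  cases hb : Nat.beq a b
  · rfl
  · exact absurd (Nat.eq_of_beq_eq_true hb) h

theorem beq_true_of_eq {a b : ℕ} (h : a = b) : Nat.beq a b = true := by
  rw [h]
  exact Nat.beq_refl b

theorem up_inter (b c : Finset Pt22) : up (b ∩ c) = up b ∩ up c := by
  ext x
  rw [Finset.mem_inter, mem_up, mem_up, mem_up]
  constructor
  · rintro (h | h | ⟨y, hy, h⟩)
    · exact ⟨Or.inl h, Or.inl h⟩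
    · exact ⟨Or.inr (Or.inl h), Or.inr (Or.inl h)⟩
    · rw [Finset.mem_inter] at hy
      exact ⟨Or.inr (Or.inr ⟨y, hy.1, h⟩), Or.inr (Or.inr ⟨y, hy.2, h⟩)⟩
  · rintro ⟨h1, h2⟩
    rcases h1 with h1 | h1 | ⟨y, hy, h1⟩
    · exact Or.inl h1
    · exact Or.inr (Or.inl h1)
    · rcases h2 with h2 | h2 | ⟨y', hy', h2⟩
      · exact Or.inl h2
      · exact Or.inr (Or.inl h2)
      · have : y = y' := Subtype.ext (h1.trans h2.symm)
        subst this
        exact Or.inr (Or.inr ⟨y, Finset.mem_inter.2 ⟨hy, hy'⟩, h1⟩)

theorem inl_inr_iff (x : Pt22) (b : W22) :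
    x ∈ (b : Finset Pt22) ↔ vcode (some (Sum.inl x)) &&& vcode (some (Sum.inr b)) ≠ 0 := by
  rw [← coe_mem_up, ← finOf_maskOfSet (up b.1), mem_finOf, vcode_inl]
  show _ ↔ 2 ^ idx x.1 &&& maskOfSet (up b.1) ≠ 0
  rw [Nat.two_pow_and]
  cases (maskOfSet (up b.1)).testBit (idx x.1)
  · simp
  · simp

theorem inr_inr_iff (b c : W22) :
    Disjoint (b : Finset Pt22) (c : Finset Pt22) ↔
      popc (vcode (some (Sum.inr b)) &&& vcode (some (Sum.inr c))) = 2 := by
  rw [← card_inter_finOf, finOf_vcode, finOf_vcode]
  show _ ↔ (up b.1 ∩ up c.1).card = 2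
  rw [← up_inter, card_up, Finset.disjoint_iff_inter_eq_empty, ← Finset.card_eq_zero]
  omega

theorem rel_iff_adjD (v w : HSV) :
    pointBlockRel W22 v w ↔ adjD (vcode v) (vcode w) = true := by
  have hp0 : popc 0 = 0 := by decide
  rcases v with _ | x | b <;> rcases w with _ | y | c
  · simp [pointBlockRel, adjD, vcode_none, hp0, beq_false_of_ne]
  · simp [pointBlockRel, adjD, vcode_none, popc_vcode_inl, beq_true_of_eq]
  · simp [pointBlockRel, adjD, vcode_none, hp0, popc_vcode_inr, beq_false_of_ne]
  · simp [pointBlockRel, adjD, vcode_none, popc_vcode_none, popc_vcode_inl, beq_false_of_ne,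
      vcode_inl_ne_zero]
  · simp [pointBlockRel, adjD, popc_vcode_inl, beq_false_of_ne, vcode_inl_ne_zero]
  · show x ∈ (c : Finset Pt22) ↔ _
    rw [inl_inr_iff]
    simp [adjD, popc_vcode_inl, popc_vcode_inr, beq_false_of_ne, beq_true_of_eq,
      vcode_inl_ne_zero]
    constructor
    · intro h
      exact beq_false_of_ne h
    · intro h hcon
      rw [beq_true_of_eq hcon] at h
      exact absurd h (by decide)
  · simp [pointBlockRel, adjD, vcode_none, hp0, popc_vcode_inr, beq_false_of_ne,
      vcode_inr_ne_zero]
  · simp [pointBlockRel, adjD, popc_vcode_inl, popc_vcode_inr, beq_false_of_ne,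
      vcode_inr_ne_zero]
  · show Disjoint (b : Finset Pt22) (c : Finset Pt22) ↔ _
    rw [inr_inr_iff]
    simp [adjD, popc_vcode_inr, beq_false_of_ne, beq_true_of_eq, vcode_inr_ne_zero]

theorem adj_iff_codes (v w : HSV) : (pointBlockGraph W22).Adj v w ↔
    v ≠ w ∧ (adjD (vcode v) (vcode w) || adjD (vcode w) (vcode v)) = true := by
  rw [pbg_adj_iff, Bool.or_eq_true, rel_iff_adjD, rel_iff_adjD]

/-! ### an odd involution moving the extra vertex -/

def hsIota : List (ℕ × ℕ) :=
  [(0, 32768), (1, 14254209), (2, 15515712), (4, 14919680), (8, 13276672), (16, 12638592), (32, 15762208), (64, 12944642), (128, 12880401), (256, 12685424), (512, 13009064), (1024, 13667400), (2048, 14714004), (4096, 13148440), (8192, 13938692), (16384, 13811730), (32768, 0), (65536, 12747077), (131072, 12698124), (262144, 12624578), (524288, 14716939), (1048576, 12641313), (2097152, 13142054), (12584506, 12656663), (12587685, 12604486), (12594948, 13124355), (12599513, 14688364), (12604486, 12587685), (12624578, 262144), (12638592, 16), (12641313, 1048576), (12650793, 12871690),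 (12656663, 12584506), (12661896, 14762146), (12685424, 256), (12698124, 131072), (12717187, 12726562), (12720156, 13893731), (12726562, 12717187), (12733024, 13121601), (12747077, 65536), (12780432, 16262146), (12849992, 15747077), (12861748, 13370381), (12871690, 12650793), (12880401, 128), (12912836, 14176296), (12944642, 64), (12985424, 15335473), (13009064, 512), (13062145, 14949408), (13108704, 13262980), (13121601, 12733024), (13124355, 12594948), (13142054, 2097152), (13148440, 4096), (13192208, 13443616), (13262980, 13108704), (13276672, 8), (13303882, 13641904), (13370381, 12861748), (13373586, 13829156), (13443616, 13192208), (13631886, 13631886), (13636881, 15073798), (13641904, 13303882), (13667400, 1024), (13703682, 13703682), (13721920, 15207048), (13771273, 14682450), (13811730, 16384), (13829156, 13373586), (13893731, 12720156), (13911680, 15274244), (13938692, 8192), (14156372, 14156372), (14176296, 12912836), (14254209, 1), (14551296, 14551296), (14682450, 13771273), (14688364, 12599513), (14709264, 14747201), (14714004, 2048), (14716939,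 524288), (14747201, 14709264), (14762146, 12661896), (14828808, 14950785), (14919680, 4), (14949408, 13062145), (14950785, 14828808), (15073798, 13636881), (15207048, 13721920), (15274244, 13911680), (15335473, 12985424), (15515712, 2), (15747077, 12849992), (15762208, 32), (15864000, 15864000), (16056344, 16056344), (16262146, 12780432)]

/-- the involution on codes -/
def iotaC (m : ℕ) : ℕ := (hsIota.lookup m).getD 0

theorem iotaC_mem : ∀ m ∈ hsV, iotaC m ∈ hsV := by
  have h : hsV.all (fun m => hsV.contains (iotaC m)) = true := by decide +kernel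
  intro m hm
  exact List.contains_iff_mem.1 (List.all_eq_true.1 h m hm)

theorem iotaC_iotaC : ∀ m ∈ hsV, iotaC (iotaC m) = m := by
  have h : hsV.all (fun m => Nat.beq (iotaC (iotaC m)) m) = true := by decide +kernel
  intro m hm
  exact Nat.eq_of_beq_eq_true (List.all_eq_true.1 h m hm)

theorem iotaC_adj : ∀ m ∈ hsV, ∀ n ∈ hsV,
    (adjD (iotaC m) (iotaC n) || adjD (iotaC n) (iotaC m)) = (adjD m n || adjD n m) := by
  have h : hsV.all (fun m => hsV.all (fun n =>
      (adjD (iotaC m) (iotaC n) || adjD (iotaC n) (iotaC m)) == (adjD m n || adjD n m))) = true := by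
    decide +kernel
  intro m hm n hn
  have := List.all_eq_true.1 (List.all_eq_true.1 h m hm) n hn
  exact eq_of_beq this

theorem iotaC_zero : iotaC 0 = 32768 := by decide +kernel

theorem hsV_nodup : hsV.Nodup := by decide +kernel

theorem hsV_length : hsV.length = 100 := by decide +kernel

theorem hsV_fixed : (hsV.filter (fun m => Nat.beq (iotaC m) m)).length = 6 := by decide +kernel

theorem exists_iota (v : HSV) : ∃ w : HSV, vcode w = iotaC (vcode v) :=
  exists_vcode_eq _ (iotaC_mem _ (vcode_mem v))

/-- the involution on vertices -/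
noncomputable def iotaFun (v : HSV) : HSV := Classical.choose (exists_iota v)

theorem vcode_iotaFun (v : HSV) : vcode (iotaFun v) = iotaC (vcode v) :=
  Classical.choose_spec (exists_iota v)

theorem iotaFun_involutive : Function.Involutive iotaFun := by
  intro v
  apply vcode_injective
  rw [vcode_iotaFun, vcode_iotaFun, iotaC_iotaC _ (vcode_mem v)]

/-- the involution as an automorphism of the graph -/
noncomputable def iotaAut : pointBlockGraph W22 ≃g pointBlockGraph W22 where
  toEquiv := iotaFun_involutive.toPerm
  map_rel_iff' := by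
    intro v w
    show (pointBlockGraph W22).Adj (iotaFun v) (iotaFun w) ↔ _
    rw [adj_iff_codes, adj_iff_codes, vcode_iotaFun, vcode_iotaFun,
      iotaC_adj _ (vcode_mem v) _ (vcode_mem w), iotaFun_involutive.injective.ne_iff]

theorem iotaAut_apply (v : HSV) : iotaAut v = iotaFun v := rfl

theorem iotaAut_none : ∃ a : Pt22, iotaAut none = some (Sum.inl a) := by
  have h := vcode_iotaFun none
  rw [vcode_none, iotaC_zero] at h
  rw [iotaAut_apply]
  rcases h' : iotaFun none with _ | a | b
  · rw [h', vcode_none] at h
    exact absurd h (by decide)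
  · exact ⟨a, rfl⟩
  · rw [h'] at h
    have := popc_vcode_inr b
    rw [h] at this
    exact absurd this (by decide)

end Cfsg.Agent.Lib.Helper7
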