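import Mathlib

set_option autoImplicit false

/-! The orbital graph of a rank three action of degree 100 with subdegrees 1, 22, 77 whose point
stabiliser is doubly transitive on the suborbit of size 22 is strongly regular with parameters
(100, 22, 0, 6). -/

namespace Cfsg.Agent.Lib.Helper7.HSRecog

open scoped Classical

section Orbital

variable {G : Type*} [Group G] {Ω : Type*} [MulAction G Ω]

/-- the orbital relation attached to a pair of points -/
def OAdj (G : Type*) [Group G] {Ω : Type*} [MulAction G Ω] (a b x y : Ω) : Prop :=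
  ∃ g : G, g • a = x ∧ g • b = y

theorem OAdj.smul {a b x y : Ω} (h : OAdj G a b x y) (k : G) : OAdj G a b (k • x) (k • y) := by
  obtain ⟨g, rfl, rfl⟩ := h
  exact ⟨k * g, mul_smul _ _ _, mul_smul _ _ _⟩

theorem oadj_smul_iff {a b x y : Ω} (k : G) : OAdj G a b (k • x) (k • y) ↔ OAdj G a b x y := by
  constructor
  · intro h
    have := h.smul k⁻¹
    rwa [inv_smul_smul, inv_smul_smul] at this
  · intro h
    exact h.smul k

theorem oadj_smul_left {a b x y : Ω} (k : G) : OAdj G a b (k • x) y ↔ OAdj G a b x (k⁻¹ • y) := by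
  rw [← oadj_smul_iff (G := G) k⁻¹, inv_smul_smul]

variable [Fintype Ω]

/-- the hypotheses on the orbital -/
structure Hyp (G : Type*) [Group G] {Ω : Type*} [MulAction G Ω] [Fintype Ω] (a b : Ω) : Prop where
  card : Fintype.card Ω = 100
  trans : ∀ x : Ω, ∃ g : G, g • a = x
  ne : a ≠ b
  swap : ∃ t : G, t • a = b ∧ t • b = a
  deg : (Finset.univ.filter (fun y => OAdj G a b a y)).card = 22
  two : ∀ z z' : Ω, OAdj G a b a z → OAdj G a b a z' → z ≠ b → z' ≠ b →
    ∃ h : G, h • a = a ∧ h • b = b ∧ h • z = z'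
  far : ∀ y y' : Ω, y ≠ a → y' ≠ a → ¬ OAdj G a b a y → ¬ OAdj G a b a y' →
    ∃ h : G, h • a = a ∧ h • y = y'

variable {a b : Ω}

theorem Hyp.symm (h : Hyp G a b) {x y : Ω} (hxy : OAdj G a b x y) : OAdj G a b y x := by
  obtain ⟨g, hx, hy⟩ := hxy
  obtain ⟨t, ht1, ht2⟩ := h.swap
  exact ⟨g * t, by rw [mul_smul, ht1, hy], by rw [mul_smul, ht2, hx]⟩

theorem Hyp.irrefl (h : Hyp G a b) (x : Ω) : ¬ OAdj G a b x x := by
  rintro ⟨g, hx, hy⟩
  exact h.ne (MulAction.injective g (hx.trans hy.symm))

/-- the orbital graph -/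
def oGraph (h : Hyp G a b) : SimpleGraph Ω where
  Adj := OAdj G a b
  symm := ⟨fun _ _ hxy => h.symm hxy⟩
  loopless := ⟨fun x => h.irrefl x⟩

theorem oGraph_adj (h : Hyp G a b) (x y : Ω) : (oGraph h).Adj x y ↔ OAdj G a b x y := Iff.rfl

/-- the neighbours of a point -/
noncomputable def nbr (G : Type*) [Group G] {Ω : Type*} [MulAction G Ω] [Fintype Ω] (a b x : Ω) :
    Finset Ω :=
  Finset.univ.filter (fun y => OAdj G a b x y)

theorem mem_nbr {x y : Ω} : y ∈ nbr G a b x ↔ OAdj G a b x y := by
  simp [nbr]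

theorem nbr_smul (k : G) (x : Ω) :
    nbr G a b (k • x) = (nbr G a b x).image (fun y => k • y) := by
  ext y
  rw [mem_nbr, Finset.mem_image]
  constructor
  · intro hy
    refine ⟨k⁻¹ • y, ?_, smul_inv_smul k y⟩
    rw [mem_nbr]
    exact (oadj_smul_left k).1 hy
  · rintro ⟨z, hz, rfl⟩
    exact (mem_nbr.1 hz).smul k

theorem Hyp.card_nbr (h : Hyp G a b) (x : Ω) : (nbr G a b x).card = 22 := by
  obtain ⟨g, rfl⟩ := h.trans x
  rw [nbr_smul, Finset.card_image_of_injective _ (MulAction.injective g)]
  exact h.deg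

theorem Hyp.b_mem (_h : Hyp G a b) : OAdj G a b a b := ⟨1, one_smul _ _, one_smul _ _⟩

/-- the closed neighbourhood -/
noncomputable def cl (G : Type*) [Group G] {Ω : Type*} [MulAction G Ω] [Fintype Ω] (a b x : Ω) :
    Finset Ω :=
  insert x (nbr G a b x)

theorem cl_smul (k : G) (x : Ω) :
    cl G a b (k • x) = (cl G a b x).image (fun y => k • y) := by
  unfold cl
  rw [Finset.image_insert, nbr_smul]

theorem Hyp.card_cl (h : Hyp G a b) (x : Ω) : (cl G a b x).card = 23 := by
  unfold cl
  rw [Finset.card_insert_of_notMem, h.card_nbr]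
  rw [mem_nbr]
  exact h.irrefl x

/-- there are no triangles -/
theorem Hyp.no_tri0 (h : Hyp G a b) (z : Ω) (hz : OAdj G a b a z) : ¬ OAdj G a b b z := by
  intro hbz
  have hzb : z ≠ b := fun e => h.irrefl b (e ▸ hbz)
  -- the closed neighbourhoods of `a` and `b` coincide
  have hsub : insert a ((nbr G a b a).erase b) ⊆ nbr G a b b := by
    intro y hy
    rw [Finset.mem_insert, Finset.mem_erase] at hy
    rw [mem_nbr]
    rcases hy with rfl | ⟨hyb, hy⟩
    · exact h.symm h.b_mem
    · obtain ⟨k, hk1, hk2, hk3⟩ := h.two z y hz (mem_nbr.1 hy) hzb hyb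
      have := hbz.smul k
      rwa [hk2, hk3] at this
  have hcard : (insert a ((nbr G a b a).erase b)).card = 22 := by
    rw [Finset.card_insert_of_notMem, Finset.card_erase_of_mem (mem_nbr.2 h.b_mem), h.card_nbr]
    intro ha
    exact h.irrefl a (mem_nbr.1 (Finset.mem_of_mem_erase ha))
  have heq : insert a ((nbr G a b a).erase b) = nbr G a b b :=
    Finset.eq_of_subset_of_card_le hsub (by rw [hcard, h.card_nbr])
  have hcl : cl G a b b = cl G a b a := by
    unfold cl
    rw [← heq]
    ext y
    simp only [Finset.mem_insert, Finset.mem_erase, mem_nbr]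
    constructor
    · rintro (rfl | rfl | ⟨-, hy⟩)
      · exact Or.inr h.b_mem
      · exact Or.inl rfl
      · exact Or.inr hy
    · rintro (rfl | hy)
      · exact Or.inr (Or.inl rfl)
      · by_cases hyb : y = b
        · exact Or.inl hyb
        · exact Or.inr (Or.inr ⟨hyb, hy⟩)
  -- hence adjacent points have the same closed neighbourhood
  have hadj : ∀ x y : Ω, OAdj G a b x y → cl G a b y = cl G a b x := by
    rintro x y ⟨g, rfl, rfl⟩
    rw [cl_smul, cl_smul, hcl]
  have hfib : ∀ x : Ω, Finset.univ.filter (fun y => cl G a b y = cl G a b x) = cl G a b x := by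
    intro x
    ext y
    simp only [Finset.mem_filter, Finset.mem_univ, true_and]
    constructor
    · intro hy
      rw [← hy]
      exact Finset.mem_insert_self _ _
    · intro hy
      unfold cl at hy
      rw [Finset.mem_insert, mem_nbr] at hy
      rcases hy with rfl | hy
      · rfl
      · exact hadj x y hy
  have hsum := Finset.card_eq_sum_card_image (cl G a b) (Finset.univ : Finset Ω)
  rw [Finset.card_univ, h.card] at hsum
  have hconst : ∀ B ∈ Finset.image (cl G a b) (Finset.univ : Finset Ω),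
      (Finset.univ.filter (fun y => cl G a b y = B)).card = 23 := by
    intro B hB
    obtain ⟨x, -, rfl⟩ := Finset.mem_image.1 hB
    rw [hfib, h.card_cl]
  rw [Finset.sum_congr rfl hconst, Finset.sum_const, smul_eq_mul] at hsum
  omega

theorem Hyp.no_tri (h : Hyp G a b) (x y z : Ω) (hxy : OAdj G a b x y) (hxz : OAdj G a b x z) :
    ¬ OAdj G a b y z := by
  obtain ⟨g, rfl, rfl⟩ := hxy
  intro hyz
  rw [oadj_smul_left] at hxz hyz
  exact h.no_tri0 _ hxz hyz

/-- the points at distance two from the base point -/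
noncomputable def farS (G : Type*) [Group G] {Ω : Type*} [MulAction G Ω] [Fintype Ω] (a b : Ω) :
    Finset Ω :=
  Finset.univ.filter (fun y => y ≠ a ∧ ¬ OAdj G a b a y)

theorem mem_farS {y : Ω} : y ∈ farS G a b ↔ y ≠ a ∧ ¬ OAdj G a b a y := by
  simp [farS]

theorem Hyp.card_farS (h : Hyp G a b) : (farS G a b).card = 77 := by
  have h1 : farS G a b = Finset.univ \ cl G a b a := by
    ext y
    simp only [mem_farS, cl, Finset.mem_sdiff, Finset.mem_univ, true_and, Finset.mem_insert,
      mem_nbr, not_or]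
  rw [h1, Finset.card_sdiff_of_subset (Finset.subset_univ _), Finset.card_univ, h.card, h.card_cl]

/-- the number of common neighbours of the base point and a point of the far set is constant -/
theorem Hyp.mu_const (h : Hyp G a b) (y y' : Ω) (hy : y ∈ farS G a b) (hy' : y' ∈ farS G a b) :
    (nbr G a b a ∩ nbr G a b y').card = (nbr G a b a ∩ nbr G a b y).card := by
  obtain ⟨hy1, hy2⟩ := mem_farS.1 hy
  obtain ⟨hy1', hy2'⟩ := mem_farS.1 hy'
  obtain ⟨k, hk1, rfl⟩ := h.far y y' hy1 hy1' hy2 hy2'
  have : nbr G a b a = (nbr G a b a).image (fun z => k • z) := by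
    have h0 := nbr_smul (a := a) (b := b) k a
    rwa [hk1] at h0
  rw [nbr_smul, this, ← Finset.image_inter _ _ (MulAction.injective k),
    Finset.card_image_of_injective _ (MulAction.injective k), ← this]

theorem Hyp.mu0 (h : Hyp G a b) (y : Ω) (hy : y ∈ farS G a b) :
    (nbr G a b a ∩ nbr G a b y).card = 6 := by
  have hdc := Finset.sum_card_bipartiteAbove_eq_sum_card_bipartiteBelow (OAdj G a b)
    (s := nbr G a b a) (t := farS G a b)
  have hL : ∀ z ∈ nbr G a b a, (Finset.bipartiteAbove (OAdj G a b) (farS G a b) z).card = 21 := by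
    intro z hz
    have hz' := mem_nbr.1 hz
    have : Finset.bipartiteAbove (OAdj G a b) (farS G a b) z = (nbr G a b z).erase a := by
      ext w
      simp only [Finset.bipartiteAbove, Finset.mem_filter, mem_farS, Finset.mem_erase, mem_nbr]
      constructor
      · rintro ⟨⟨hw1, -⟩, hw3⟩
        exact ⟨hw1, hw3⟩
      · rintro ⟨hw1, hw3⟩
        exact ⟨⟨hw1, fun hw2 => h.no_tri a z w hz' hw2 hw3⟩, hw3⟩
    rw [this, Finset.card_erase_of_mem (mem_nbr.2 (h.symm hz')), h.card_nbr]
  have hR : ∀ w ∈ farS G a b,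
      (Finset.bipartiteBelow (OAdj G a b) (nbr G a b a) w).card =
        (nbr G a b a ∩ nbr G a b y).card := by
    intro w hw
    rw [← h.mu_const y w hy hw]
    congr 1
    ext z
    simp only [Finset.bipartiteBelow, Finset.mem_filter, Finset.mem_inter, mem_nbr]
    exact ⟨fun ⟨h1, h2⟩ => ⟨h1, h.symm h2⟩, fun ⟨h1, h2⟩ => ⟨h1, h.symm h2⟩⟩
  rw [Finset.sum_congr rfl hL, Finset.sum_congr rfl hR, Finset.sum_const, Finset.sum_const,
    h.card_nbr a, h.card_farS, smul_eq_mul, smul_eq_mul] at hdc
  omega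

/-- the orbital graph is strongly regular with the parameters of the Higman-Sims graph -/
theorem Hyp.isSRG (h : Hyp G a b) : (oGraph h).IsSRGWith 100 22 0 6 := by
  have hcn : ∀ v w : Ω, Fintype.card ((oGraph h).commonNeighbors v w) =
      (nbr G a b v ∩ nbr G a b w).card := by
    intro v w
    rw [← Set.toFinset_card]
    congr 1
    ext u
    simp only [Set.mem_toFinset, SimpleGraph.mem_commonNeighbors, Finset.mem_inter, mem_nbr,
      oGraph_adj]
  refine ⟨h.card, ?_, ?_, ?_⟩
  · intro v
    rw [← SimpleGraph.card_neighborFinset_eq_degree, SimpleGraph.neighborFinset_eq_filter]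
    exact h.card_nbr v
  · intro v w hvw
    rw [hcn, Finset.card_eq_zero, Finset.eq_empty_iff_forall_notMem]
    intro u hu
    rw [Finset.mem_inter, mem_nbr, mem_nbr] at hu
    exact h.no_tri v w u hvw hu.1 hu.2
  · intro v w hvw hnadj
    rw [hcn]
    obtain ⟨g, rfl⟩ := h.trans v
    obtain ⟨w', rfl⟩ : ∃ w', w = g • w' := ⟨g⁻¹ • w, (smul_inv_smul g w).symm⟩
    rw [nbr_smul, nbr_smul, ← Finset.image_inter _ _ (MulAction.injective g),
      Finset.card_image_of_injective _ (MulAction.injective g)]
    apply h.mu0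
    rw [mem_farS]
    constructor
    · intro e
      apply hvw
      rw [e]
    · intro hadj
      exact hnadj (hadj.smul g)

end Orbital

end Cfsg.Agent.Lib.Helper7.HSRecog
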