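import Cfsg.Agent.Lib.Helper7.M23Shape

set_option autoImplicit false

namespace Cfsg.Agent.Lib.Helper7

open Cfsg
open scoped Pointwise

theorem card_fixL2 (l : List GolayPt) (hlen : l.length = 2) (hnd : l.Nodup) :
    Nat.card ↥(fixL l) = 443520 := by
  rw [card_fixL_of_trans Cfsg.Agent.Lib.Helper26.isTransOn2 l hlen hnd,
    ← card_fixL_of_trans Cfsg.Agent.Lib.Helper26.isTransOn2 ([1, 0].map pt) (by simp)
      (by decide), fixL_map_pt]
  exact card_fixK_2

theorem Fix2.inv_Om {p q : GolayPt} {K : Subgroup (Equiv.Perm GolayPt)} (h : Fix2 p q K) :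
    Inv K (Om p q) := fun σ hσ y hy => (h.smul_mem_Om_iff hσ y).2 hy

theorem Fix2.le_fixL2 {p q : GolayPt} {K : Subgroup (Equiv.Perm GolayPt)} (h : Fix2 p q K) :
    K ≤ fixL [q, p] := by
  intro σ hσ
  rw [mem_fixL]
  refine ⟨h.le hσ, ?_⟩
  intro x hx
  simp only [List.mem_cons, List.not_mem_nil, or_false] at hx
  rcases hx with rfl | rfl
  · exact h.fq σ hσ
  · exact h.fp σ hσ

theorem fix2_fixL2 {p q : GolayPt} (hpq : p ≠ q) : Fix2 p q (fixL [q, p]) := by
  refine ⟨hpq, fun _ hσ => ((mem_fixL _ _).1 hσ).1, fun σ hσ => ?_, fun σ hσ => ?_⟩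
  · exact ((mem_fixL _ σ).1 hσ).2 p (by simp)
  · exact ((mem_fixL _ σ).1 hσ).2 q (by simp)

/-- a subgroup of order 20160 of the stabiliser of two points is the stabiliser of a third point. -/
theorem Fix2.eq_fixL3_of_card {p q : GolayPt} {K : Subgroup (Equiv.Perm GolayPt)}
    (h : Fix2 p q K) (hcard : Nat.card ↥K = 20160) : ∃ r ∈ Om p q, K = fixL [r, q, p] := by
  have : Fact (Nat.Prime 7) := ⟨by norm_num⟩
  have : Fact (Nat.Prime 5) := ⟨by norm_num⟩
  have hpq := h.ne
  have hS := h.inv_Om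
  have hSc : (Om p q).card = 22 := card_Om hpq
  have hpS : p ∉ Om p q := fun hc => ((mem_Om p q p).1 hc).1 rfl
  have hqS : q ∉ Om p q := fun hc => ((mem_Om p q q).1 hc).2 rfl
  -- an element of order seven
  obtain ⟨f, hf, hford⟩ := exists_mem_orderOf_eq_prime K 7 (by rw [hcard]; norm_num)
  have hfM := h.le hf
  have hfle := card_inter_fixP_add_le (S := Om p q) (g := f) [p, q] (by simp [hpq]) (by
    intro y hy
    simp only [List.mem_cons, List.not_mem_nil, or_false] at hy
    rcases hy with rfl | rfl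
    · exact ⟨h.fp f hf, hpS⟩
    · exact ⟨h.fq f hf, hqS⟩)
  rw [card_fixP_seven hfM hford] at hfle
  simp only [List.length_cons, List.length_nil] at hfle
  have hfmod : (Om p q).card % 7 = (Om p q ∩ fixP f).card % 7 := hS.card_modEq hf hford
  rw [hSc] at hfmod
  have hf1 : (Om p q ∩ fixP f).card = 1 := by omega
  obtain ⟨r0, hr0⟩ := Finset.card_eq_one.1 hf1
  have hr0mem : r0 ∈ Om p q ∩ fixP f := by rw [hr0]; simp
  have hr0S := (Finset.mem_inter.1 hr0mem).1
  have hr0f := (Finset.mem_inter.1 hr0mem).2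
  -- an element of order five
  obtain ⟨g, hg, hgord⟩ := exists_mem_orderOf_eq_prime K 5 (by rw [hcard]; norm_num)
  have hgM := h.le hg
  have hgle := card_inter_fixP_add_le (S := Om p q) (g := g) [p, q] (by simp [hpq]) (by
    intro y hy
    simp only [List.mem_cons, List.not_mem_nil, or_false] at hy
    rcases hy with rfl | rfl
    · exact ⟨h.fp g hg, hpS⟩
    · exact ⟨h.fq g hg, hqS⟩)
  rw [card_fixP_five hgM hgord] at hgle
  simp only [List.length_cons, List.length_nil] at hgle
  -- the orbit of the fixed point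
  have hsub := hS.orbF_subset hr0S
  have hOf : (orbF K r0 ∩ fixP f).card = 1 := by
    apply le_antisymm
    · rw [← hf1]
      exact Finset.card_le_card (Finset.inter_subset_inter_right hsub)
    · exact Finset.card_pos.2 ⟨r0, Finset.mem_inter.2 ⟨self_mem_orbF K r0, hr0f⟩⟩
  have hmod7 : (orbF K r0).card % 7 = (orbF K r0 ∩ fixP f).card % 7 :=
    (inv_orbF K r0).card_modEq hf hford
  rw [hOf] at hmod7
  obtain ⟨k5, hk5, hmod5⟩ := orbit_mod_le hS hr0S hg hgord
  have hle := orbF_card_le hS hr0S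
  rw [hSc] at hle
  have hdvd : (orbF K r0).card ∣ 20160 := by
    rw [← hcard, ← card_orbF_mul K r0]
    exact dvd_mul_right _ _
  have hk5' : (orbF K r0).card % 5 ≤ 2 := by
    rw [hmod5]
    exact (Nat.mod_le _ _).trans (by omega)
  have keyar : ∀ s : ℕ, s ≤ 22 → s ∣ 20160 → s % 7 = 1 % 7 → s % 5 ≤ 2 → s = 1 ∨ s = 15 := by
    decide
  rcases keyar _ hle hdvd hmod7 hk5' with h1 | h15
  · -- the point is fixed
    refine ⟨r0, hr0S, ?_⟩
    have hr0' := (mem_Om p q r0).1 hr0S
    apply Subgroup.eq_of_le_of_card_ge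
    · intro σ hσ
      rw [mem_fixL]
      refine ⟨h.le hσ, ?_⟩
      intro x hx
      simp only [List.mem_cons, List.not_mem_nil, or_false] at hx
      rcases hx with rfl | rfl | rfl
      · exact fix_of_orbit_one h1 hσ
      · exact h.fq σ hσ
      · exact h.fp σ hσ
    · rw [hcard, card_fixL3 [r0, q, p] rfl (by simp [hr0'.1, hr0'.2, hpq.symm])]
  · -- an orbit of length seven remains: impossible
    exfalso
    have hR : Inv K (Om p q \ orbF K r0) := hS.sdiff_orbF r0
    have hRc : (Om p q \ orbF K r0).card = 7 := by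
      rw [Finset.card_sdiff_of_subset hsub, hSc, h15]
    have hRf : (Om p q \ orbF K r0) ∩ fixP f = ∅ := by
      rw [Finset.eq_empty_iff_forall_notMem]
      intro y hy
      rw [Finset.mem_inter, Finset.mem_sdiff] at hy
      have : y ∈ Om p q ∩ fixP f := Finset.mem_inter.2 ⟨hy.1.1, hy.2⟩
      rw [hr0, Finset.mem_singleton] at this
      exact hy.1.2 (this ▸ self_mem_orbF K r0)
    obtain ⟨c, hc⟩ : ∃ c, c ∈ Om p q \ orbF K r0 := Finset.card_pos.1 (by rw [hRc]; norm_num)
    have hcS := (Finset.mem_sdiff.1 hc).1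
    have hc' := (mem_Om p q c).1 hcS
    -- the orbit of `c` is all of the remaining seven points
    have hO7 : (orbF K c).card = 7 := by
      obtain ⟨k, hk, hmod⟩ := orbit_mod_le hR hc hf hford
      rw [hRf, Finset.card_empty] at hk
      have hle7 := orbF_card_le hR hc
      rw [hRc] at hle7
      have hpos := orbF_card_pos K c
      omega
    have hOeq : orbF K c = Om p q \ orbF K r0 :=
      Finset.eq_of_subset_of_card_le (hR.orbF_subset hc) (by rw [hRc, hO7])
    have hInv : Inv K (orbF K c) := inv_orbF K c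
    have hcO : c ∈ orbF K c := self_mem_orbF K c
    -- level 1
    have h1 : Nat.card ↥(stbL K [c]) = 2880 := by
      have := card_orbF_stbL K [] c
      rw [show stbL K [] = K from rfl, hO7, hcard] at this
      omega
    have hS1 := inv_stbL_eraseList hInv [c]
    have hS1c : (orbF K c \ [c].toFinset).card = 6 := by
      rw [card_sdiff_toFinset [c] (by simp) (by simpa using hcO), hO7]
      rfl
    obtain ⟨d, hd⟩ : ∃ d, d ∈ orbF K c \ [c].toFinset :=
      Finset.card_pos.1 (by rw [hS1c]; norm_num)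
    have hd' := Finset.mem_sdiff.1 hd
    have hdS : d ∈ Om p q := by
      have := hd'.1
      rw [hOeq] at this
      exact (Finset.mem_sdiff.1 this).1
    have hd'' := (mem_Om p q d).1 hdS
    have hdc : d ≠ c := fun hdc => hd'.2 (by simp [hdc])
    obtain ⟨g1, hg1, hg1ord⟩ := exists_mem_orderOf_eq_prime (stbL K [c]) 5 (by rw [h1]; norm_num)
    have hg1' := (mem_stbL K [c] g1).1 hg1
    have hg1M : g1 ∈ M24 := h.le hg1'.1
    have hxO : ∀ y, y ∈ orbF K c → y ≠ p ∧ y ≠ q := by
      intro y hy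
      rw [hOeq] at hy
      exact (mem_Om p q y).1 (Finset.mem_sdiff.1 hy).1
    have hle1 := card_inter_fixP_add_le (S := orbF K c \ [c].toFinset) (g := g1) [p, q, c]
      (by simp [hpq, hc'.1.symm, hc'.2.symm]) (by
        intro y hy
        simp only [List.mem_cons, List.not_mem_nil, or_false] at hy
        rcases hy with rfl | rfl | rfl
        · exact ⟨h.fp g1 hg1'.1, fun hcon => (hxO _ (Finset.mem_sdiff.1 hcon).1).1 rfl⟩
        · exact ⟨h.fq g1 hg1'.1, fun hcon => (hxO _ (Finset.mem_sdiff.1 hcon).1).2 rfl⟩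
        · exact ⟨hg1'.2 y (by simp), fun hcon => (Finset.mem_sdiff.1 hcon).2 (by simp)⟩)
    rw [card_fixP_five hg1M hg1ord] at hle1
    simp only [List.length_cons, List.length_nil] at hle1
    obtain ⟨k, hk, hmod⟩ := orbit_mod_le hS1 hd hg1 hg1ord
    have hsle := orbF_card_le hS1 hd
    rw [hS1c] at hsle
    have hpos := orbF_card_pos (stbL K [c]) d
    have hmul := card_orbF_stbL K [c] d
    rw [h1] at hmul
    have hle4 : stbL K [d, c] ≤ fixL [d, c, q, p] := by
      intro σ hσ
      rw [mem_stbL] at hσ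
      rw [mem_fixL]
      refine ⟨h.le hσ.1, ?_⟩
      intro x hx
      simp only [List.mem_cons, List.not_mem_nil, or_false] at hx
      rcases hx with rfl | rfl | rfl | rfl
      · exact hσ.2 x (by simp)
      · exact hσ.2 x (by simp)
      · exact h.fq σ hσ.1
      · exact h.fp σ hσ.1
    have hdvd4 := Subgroup.card_dvd_of_le hle4
    rw [card_fixL4 [d, c, q, p] rfl
      (by simp [hdc, hd''.1, hd''.2, hc'.1, hc'.2, hpq.symm])] at hdvd4
    obtain ⟨hn, hT⟩ := div_of_mul_eq hmul hpos
    rw [hn] at hdvd4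
    have hk1 : (orbF (stbL K [c]) d).card % 5 ≤ 1 := by omega
    have keyar2 : ∀ s : ℕ, s ≤ 6 → 0 < s → 2880 / s ∣ 960 → s % 5 ≤ 1 → s = 6 := by decide
    have h6 := keyar2 _ hsle hpos hdvd4 hk1
    have h2 : Nat.card ↥(stbL K [d, c]) = 480 := by
      rw [hn, h6]
    -- level 2
    have hS2 := inv_stbL_eraseList hInv [d, c]
    have hS2c : (orbF K c \ [d, c].toFinset).card = 5 := by
      rw [card_sdiff_toFinset [d, c] (by simp [hdc]) (by
        intro y hy
        simp only [List.mem_cons, List.not_mem_nil, or_false] at hy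
        rcases hy with rfl | rfl
        · exact hd'.1
        · exact hcO), hO7]
      rfl
    obtain ⟨e, he⟩ : ∃ e, e ∈ orbF K c \ [d, c].toFinset :=
      Finset.card_pos.1 (by rw [hS2c]; norm_num)
    have he' := Finset.mem_sdiff.1 he
    have he'' := hxO e he'.1
    have hed : e ≠ d := fun hed => he'.2 (by simp [hed])
    have hec : e ≠ c := fun hec => he'.2 (by simp [hec])
    have hsle2 := orbF_card_le hS2 he
    rw [hS2c] at hsle2
    have hpos2 := orbF_card_pos (stbL K [d, c]) e
    have hmul2 := card_orbF_stbL K [d, c] e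
    rw [h2] at hmul2
    have hle5 : stbL K [e, d, c] ≤ fixL [e, d, c, q, p] := by
      intro σ hσ
      rw [mem_stbL] at hσ
      rw [mem_fixL]
      refine ⟨h.le hσ.1, ?_⟩
      intro x hx
      simp only [List.mem_cons, List.not_mem_nil, or_false] at hx
      rcases hx with rfl | rfl | rfl | rfl | rfl
      · exact hσ.2 x (by simp)
      · exact hσ.2 x (by simp)
      · exact hσ.2 x (by simp)
      · exact h.fq σ hσ.1
      · exact h.fp σ hσ.1
    have hdvd5 := Subgroup.card_dvd_of_le hle5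
    rw [card_fixL5 [e, d, c, q, p] rfl
      (by simp [hed, hec, he''.1, he''.2, hdc, hd''.1, hd''.2, hc'.1, hc'.2, hpq.symm])] at hdvd5
    obtain ⟨hn2, hT2⟩ := div_of_mul_eq hmul2 hpos2
    rw [hn2] at hdvd5
    have keyar3 : ∀ s : ℕ, s ≤ 5 → 0 < s → ¬ (480 / s ∣ 48) := by decide
    exact keyar3 _ hsle2 hpos2 hdvd5

end Cfsg.Agent.Lib.Helper7
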