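import Cfsg.Agent.Lib.Helper7.HSOrbital
import Cfsg.Agent.Lib.Helper7.M22Index22
import Cfsg.Agent.Lib.Helper7.M24Four

set_option autoImplicit false
set_option linter.unusedSectionVars false

/-! From a transitive action on 100 points whose point stabiliser is the stabiliser of two points in
the group of the Golay code, with further orbits of sizes 22 and 77, to the hypotheses on the
orbital graph. -/

namespace Cfsg.Agent.Lib.Helper7.HSRecog

open Cfsg Cfsg.Agent.Lib.Helper7
open scoped Classical

section Recog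

variable {G : Type*} [Group G] {Ω : Type*} [MulAction G Ω]

theorem mem_orbit_stab {a y y' : Ω} :
    y' ∈ MulAction.orbit (MulAction.stabilizer G a) y ↔ ∃ g : G, g • a = a ∧ g • y = y' := by
  constructor
  · rintro ⟨⟨g, hg⟩, rfl⟩
    exact ⟨g, hg, rfl⟩
  · rintro ⟨g, hg, rfl⟩
    exact ⟨⟨g, hg⟩, rfl⟩

theorem orbit_stab_self (a : Ω) : MulAction.orbit (MulAction.stabilizer G a) a = {a} := by
  ext y
  rw [mem_orbit_stab, Set.mem_singleton_iff]
  constructor
  · rintro ⟨g, hg, rfl⟩
    exact hg
  · rintro rfl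
    exact ⟨1, one_smul _ _, one_smul _ _⟩

/-- the joint stabiliser of two points -/
def St (G : Type*) [Group G] {Ω : Type*} [MulAction G Ω] (a y : Ω) : Subgroup G :=
  MulAction.stabilizer G a ⊓ MulAction.stabilizer G y

theorem mem_St {a y : Ω} {g : G} : g ∈ St G a y ↔ g • a = a ∧ g • y = y := by
  simp only [St, Subgroup.mem_inf, MulAction.mem_stabilizer_iff]

theorem St_comm (a y : Ω) : St G a y = St G y a := inf_comm _ _

theorem card_stab_stab (a y : Ω) :
    Nat.card (MulAction.stabilizer (MulAction.stabilizer G a) y) = Nat.card (St G a y) := by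
  rw [← Subgroup.card_subtype (MulAction.stabilizer G a)
    (MulAction.stabilizer (MulAction.stabilizer G a) y)]
  congr 2
  ext g
  rw [Subgroup.mem_map, mem_St]
  constructor
  · rintro ⟨⟨h, hh⟩, hy, rfl⟩
    exact ⟨hh, congrArg _ rfl |>.trans (MulAction.mem_stabilizer_iff.1 hy)⟩
  · rintro ⟨h1, h2⟩
    exact ⟨⟨g, h1⟩, MulAction.mem_stabilizer_iff.2 h2, rfl⟩

theorem orbit_mul_card (a y : Ω) :
    (MulAction.orbit (MulAction.stabilizer G a) y).ncard * Nat.card (St G a y) =
      Nat.card (MulAction.stabilizer G a) := by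
  rw [← MulAction.index_stabilizer, ← card_stab_stab, mul_comm, Subgroup.card_mul_index]

theorem card_St_smul (t : G) (x y : Ω) : Nat.card (St G (t • x) (t • y)) = Nat.card (St G x y) := by
  unfold St
  rw [MulAction.stabilizer_smul_eq_stabilizer_map_conj, MulAction.stabilizer_smul_eq_stabilizer_map_conj,
    ← Subgroup.map_inf _ _ _ (MulAut.conj t).injective,
    Subgroup.card_map_of_injective (MulAut.conj t).injective]

end Recog

section Main

variable {G : Type*} [Group G] {Ω : Type*} [MulAction G Ω] [Fintype Ω]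
  (hΩ : Fintype.card Ω = 100) [MulAction.IsPretransitive G Ω] {a b c : Ω} {p q : GolayPt}
  (hpq : p ≠ q) (e : MulAction.stabilizer G a ≃* fixL [q, p])
  (hb : (MulAction.orbit (MulAction.stabilizer G a) b).ncard = 22)
  (hc : (MulAction.orbit (MulAction.stabilizer G a) c).ncard = 77)

include hpq e in
theorem card_H : Nat.card (MulAction.stabilizer G a) = 443520 := by
  rw [Nat.card_congr e.toEquiv]
  exact card_fixL2 [q, p] rfl (by simp [hpq.symm])

include hb in
theorem a_notMem_b : a ∉ MulAction.orbit (MulAction.stabilizer G a) b := by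
  intro ha
  have := MulAction.orbit_eq_iff.2 ha
  rw [orbit_stab_self] at this
  rw [← this, Set.ncard_singleton] at hb
  omega

include hc in
theorem a_notMem_c : a ∉ MulAction.orbit (MulAction.stabilizer G a) c := by
  intro ha
  have := MulAction.orbit_eq_iff.2 ha
  rw [orbit_stab_self] at this
  rw [← this, Set.ncard_singleton] at hc
  omega

include hb hc in
theorem disj_bc : Disjoint (MulAction.orbit (MulAction.stabilizer G a) b)
    (MulAction.orbit (MulAction.stabilizer G a) c) := by
  rw [Set.disjoint_left]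
  intro z hz hz'
  have e1 := MulAction.orbit_eq_iff.2 hz
  have e2 := MulAction.orbit_eq_iff.2 hz'
  rw [← e1, e2, hc] at hb
  omega

include hΩ hb hc in
theorem cover (y : Ω) : y = a ∨ y ∈ MulAction.orbit (MulAction.stabilizer G a) b ∨
    y ∈ MulAction.orbit (MulAction.stabilizer G a) c := by
  by_contra hcon
  push Not at hcon
  obtain ⟨h1, h2, h3⟩ := hcon
  have hU : (MulAction.orbit (MulAction.stabilizer G a) b ∪
      MulAction.orbit (MulAction.stabilizer G a) c).ncard = 99 := by
    rw [Set.ncard_union_eq (disj_bc hb hc) (Set.toFinite _) (Set.toFinite _), hb, hc]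
  have hU1 : (insert a (MulAction.orbit (MulAction.stabilizer G a) b ∪
      MulAction.orbit (MulAction.stabilizer G a) c)).ncard = 100 := by
    rw [Set.ncard_insert_of_notMem _ (Set.toFinite _), hU]
    rintro (h | h)
    · exact a_notMem_b hb h
    · exact a_notMem_c hc h
  have hU2 : (insert y (insert a (MulAction.orbit (MulAction.stabilizer G a) b ∪
      MulAction.orbit (MulAction.stabilizer G a) c))).ncard = 101 := by
    rw [Set.ncard_insert_of_notMem _ (Set.toFinite _), hU1]
    rintro (h | h | h)
    · exact h1 h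
    · exact h2 h
    · exact h3 h
  have := Set.ncard_le_card (insert y (insert a (MulAction.orbit (MulAction.stabilizer G a) b ∪
      MulAction.orbit (MulAction.stabilizer G a) c)))
  rw [hU2, Nat.card_eq_fintype_card, hΩ] at this
  omega

theorem oadj_iff_mem (y : Ω) :
    OAdj G a b a y ↔ y ∈ MulAction.orbit (MulAction.stabilizer G a) b := by
  rw [mem_orbit_stab]
  rfl

include hΩ hb hc in
theorem far_trans (y y' : Ω) (hy : y ≠ a) (hy' : y' ≠ a) (h1 : ¬ OAdj G a b a y)
    (h2 : ¬ OAdj G a b a y') : ∃ h : G, h • a = a ∧ h • y = y' := by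
  rw [oadj_iff_mem] at h1 h2
  have m1 : y ∈ MulAction.orbit (MulAction.stabilizer G a) c := by
    rcases cover hΩ hb hc y with h | h | h
    · exact absurd h hy
    · exact absurd h h1
    · exact h
  have m2 : y' ∈ MulAction.orbit (MulAction.stabilizer G a) c := by
    rcases cover hΩ hb hc y' with h | h | h
    · exact absurd h hy'
    · exact absurd h h2
    · exact h
  rw [← MulAction.orbit_eq_iff.2 m1] at m2
  exact mem_orbit_stab.1 m2

include hΩ hpq e hb hc in
theorem swap_exists : ∃ t : G, t • a = b ∧ t • b = a := by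
  obtain ⟨t0, ht0⟩ := MulAction.exists_smul_eq G a b
  have hH := card_H hpq e
  have h1 := orbit_mul_card (G := G) a (t0⁻¹ • a)
  have h2 := orbit_mul_card (G := G) a b
  have h3 : Nat.card (St G a (t0⁻¹ • a)) = Nat.card (St G a b) := by
    have := card_St_smul t0 (t0⁻¹ • a) a
    rw [smul_inv_smul, ht0] at this
    rw [St_comm a (t0⁻¹ • a)]
    exact this.symm
  rw [h3, hH] at h1
  rw [hb, hH] at h2
  have h4 : (MulAction.orbit (MulAction.stabilizer G a) (t0⁻¹ • a)).ncard = 22 := by
    have hpos : 0 < Nat.card (St G a b) := by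
      rcases Nat.eq_zero_or_pos (Nat.card (St G a b)) with h0 | h0
      · rw [h0] at h2
        omega
      · exact h0
    have : (MulAction.orbit (MulAction.stabilizer G a) (t0⁻¹ • a)).ncard * Nat.card (St G a b) =
        22 * Nat.card (St G a b) := by rw [h1, h2]
    exact Nat.eq_of_mul_eq_mul_right hpos this
  have h5 : t0⁻¹ • a ∈ MulAction.orbit (MulAction.stabilizer G a) b := by
    rcases cover hΩ hb hc (t0⁻¹ • a) with h | h | h
    · rw [h, orbit_stab_self, Set.ncard_singleton] at h4
      omega
    · exact h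
    · rw [MulAction.orbit_eq_iff.2 h, hc] at h4
      omega
  obtain ⟨g, hg1, hg2⟩ := mem_orbit_stab.1 h5
  exact ⟨t0 * g, by rw [mul_smul, hg1, ht0], by rw [mul_smul, hg2, smul_inv_smul]⟩

/-- the map of the point stabiliser to the permutations of the points of the code -/
def phi (e : MulAction.stabilizer G a ≃* fixL [q, p]) :
    MulAction.stabilizer G a →* Equiv.Perm GolayPt :=
  (fixL [q, p]).subtype.comp e.toMonoidHom

theorem phi_injective : Function.Injective (phi e) := by
  intro x y hxy
  exact e.injective (Subtype.ext hxy)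

theorem phi_mem (h : MulAction.stabilizer G a) : phi e h ∈ fixL [q, p] := (e h).2

theorem phi_surj (σ : Equiv.Perm GolayPt) (hσ : σ ∈ fixL [q, p]) : ∃ h, phi e h = σ :=
  ⟨e.symm ⟨σ, hσ⟩, by simp [phi]⟩

include hpq hb in
theorem exists_r : ∃ r ∈ Om p q, ∀ h : MulAction.stabilizer G a,
    (h : G) • b = b ↔ phi e h r = r := by
  set K' : Subgroup (Equiv.Perm GolayPt) :=
    (MulAction.stabilizer (MulAction.stabilizer G a) b).map (phi e) with hK'
  have hle : K' ≤ fixL [q, p] := by
    rintro _ ⟨h, -, rfl⟩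
    exact phi_mem e h
  have hfix : Fix2 p q K' := (fix2_fixL2 hpq).mono hle
  have hcard : Nat.card K' = 20160 := by
    rw [Subgroup.card_map_of_injective (phi_injective e), card_stab_stab]
    have := orbit_mul_card (G := G) a b
    rw [hb, card_H hpq e] at this
    omega
  obtain ⟨r, hr, hKr⟩ := hfix.eq_fixL3_of_card hcard
  refine ⟨r, hr, fun h => ?_⟩
  constructor
  · intro hh
    have : phi e h ∈ K' := ⟨h, MulAction.mem_stabilizer_iff.2 hh, rfl⟩
    rw [hKr, mem_fixL] at this
    exact this.2 r (by simp)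
  · intro hh
    have hm := phi_mem e h
    rw [mem_fixL] at hm
    have : phi e h ∈ K' := by
      rw [hKr, mem_fixL]
      refine ⟨hm.1, ?_⟩
      intro x hx
      simp only [List.mem_cons, List.not_mem_nil, or_false] at hx
      rcases hx with rfl | hx
      · exact hh
      · exact hm.2 x (by simpa using hx)
    obtain ⟨h', hh', heq⟩ := this
    have := phi_injective e heq
    subst this
    exact MulAction.mem_stabilizer_iff.1 hh'

include hpq e hb in
theorem two_trans (z z' : Ω) (hz : OAdj G a b a z) (hz' : OAdj G a b a z') (hzb : z ≠ b)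
    (hzb' : z' ≠ b) : ∃ h : G, h • a = a ∧ h • b = b ∧ h • z = z' := by
  obtain ⟨r, hr, hrr⟩ := exists_r hpq e hb
  obtain ⟨g1, hg1a, rfl⟩ := hz
  obtain ⟨g2, hg2a, rfl⟩ := hz'
  set h1 : MulAction.stabilizer G a := ⟨g1, hg1a⟩ with hh1
  set h2 : MulAction.stabilizer G a := ⟨g2, hg2a⟩ with hh2
  have hm1 := phi_mem e h1
  have hm2 := phi_mem e h2
  rw [mem_fixL] at hm1 hm2
  have hp1 : phi e h1 p = p := hm1.2 p (by simp)
  have hq1 : phi e h1 q = q := hm1.2 q (by simp)
  have hp2 : phi e h2 p = p := hm2.2 p (by simp)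
  have hq2 : phi e h2 q = q := hm2.2 q (by simp)
  obtain ⟨hrp, hrq⟩ := (mem_Om p q r).1 hr
  have hr1 : phi e h1 r ≠ r := fun h => hzb ((hrr h1).2 h)
  have hr2 : phi e h2 r ≠ r := fun h => hzb' ((hrr h2).2 h)
  have hr1p : phi e h1 r ≠ p := fun h => hrp ((phi e h1).injective (h.trans hp1.symm))
  have hr1q : phi e h1 r ≠ q := fun h => hrq ((phi e h1).injective (h.trans hq1.symm))
  have hr2p : phi e h2 r ≠ p := fun h => hrp ((phi e h2).injective (h.trans hp2.symm))
  have hr2q : phi e h2 r ≠ q := fun h => hrq ((phi e h2).injective (h.trans hq2.symm))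
  obtain ⟨σ, hσ, hσp, hσq, hσr, hσ1⟩ := m24_four_trans' p q r (phi e h1 r) p q r (phi e h2 r)
    ⟨hpq, hrp.symm, hr1p.symm, hrq.symm, hr1q.symm, hr1.symm⟩
    ⟨hpq, hrp.symm, hr2p.symm, hrq.symm, hr2q.symm, hr2.symm⟩
  have hσK : σ ∈ fixL [q, p] := by
    rw [mem_fixL]
    refine ⟨hσ, ?_⟩
    intro x hx
    simp only [List.mem_cons, List.not_mem_nil, or_false] at hx
    rcases hx with rfl | rfl
    · exact hσq
    · exact hσp
  obtain ⟨h, hh⟩ := phi_surj e σ hσK
  refine ⟨(h : G), MulAction.mem_stabilizer_iff.1 h.2, (hrr h).2 (by rw [hh]; exact hσr), ?_⟩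
  have key : ((h2⁻¹ * h * h1 : MulAction.stabilizer G a) : G) • b = b := by
    rw [hrr, map_mul, map_mul, map_inv, Equiv.Perm.mul_apply, Equiv.Perm.mul_apply, hh, hσ1]
    exact Equiv.symm_apply_apply _ _
  simp only [Subgroup.coe_mul, Subgroup.coe_inv, mul_smul] at key
  rw [inv_smul_eq_iff] at key
  exact key

include hΩ hpq e hb hc in
/-- the hypotheses on the orbital graph hold -/
theorem hyp : Hyp G a b where
  card := hΩ
  trans := fun x => MulAction.exists_smul_eq G a x
  ne := fun h => a_notMem_b hb (by rw [h]; exact MulAction.mem_orbit_self b)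
  swap := swap_exists hΩ hpq e hb hc
  deg := by
    rw [← hb, Set.ncard_eq_toFinset_card']
    congr 1
    ext y
    simp only [Finset.mem_filter, Finset.mem_univ, true_and, Set.mem_toFinset]
    exact oadj_iff_mem y
  two := two_trans hpq e hb
  far := far_trans hΩ hb hc

end Main

end Cfsg.Agent.Lib.Helper7.HSRecog
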