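import Cfsg.Agent.Lib.Helper7.HSRecogB
import Cfsg.Agent.Lib.Helper26.HSIso

set_option autoImplicit false

/-! The Higman-Sims group of the prelude is isomorphic to the even automorphisms of the model
Higman-Sims graph. -/

namespace Cfsg.Agent.Lib.Helper7Std

open Cfsg
open Cfsg.Agent.Lib.Helper7 (fixL mem_fixL HSH)
open Cfsg.Agent.Lib.Helper7.HSRecog (recog)
open Cfsg.Agent.Lib.Conway (pa pb pa_ne_pb Vec)
open Cfsg.Agent.Lib.Helper93.Leech Cfsg.Agent.Lib.Helper93.Golay
open Cfsg.Agent.Lib.Golay.LeechBasis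

namespace StdPair

open Cfsg.Agent.Lib.Conway.HS

/-- the two-point stabiliser of the standard model, as a subgroup of the permutations -/
def m22Equiv : Cfsg.Agent.Lib.Conway.HS.M22 ≃* fixL [pb, pa] where
  toFun g := ⟨(g : M24).1, by
    rw [mem_fixL]
    refine ⟨(g : M24).2, ?_⟩
    have hg := g.2
    rw [Subgroup.mem_inf, MulAction.mem_stabilizer_iff, MulAction.mem_stabilizer_iff] at hg
    intro x hx
    simp only [List.mem_cons, List.not_mem_nil, or_false] at hx
    rcases hx with rfl | rfl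
    · exact hg.2
    · exact hg.1⟩
  invFun σ := ⟨⟨σ.1, ((mem_fixL _ _).1 σ.2).1⟩, Subgroup.mem_inf.2
    ⟨MulAction.mem_stabilizer_iff.2 (((mem_fixL _ _).1 σ.2).2 pa (by simp)),
      MulAction.mem_stabilizer_iff.2 (((mem_fixL _ _).1 σ.2).2 pb (by simp))⟩⟩
  left_inv g := rfl
  right_inv σ := rfl
  map_mul' g g' := rfl

/-- the point stabiliser of the standard model -/
noncomputable def stabEquiv :
    MulAction.stabilizer (G2 VH WH) x0 ≃* fixL [pb, pa] :=
  stabEquivT3.trans (equivT3.symm.trans m22Equiv)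

theorem finite_Om : Finite (Om VH WH) :=
  (Set.finite_of_ncard_ne_zero (by rw [Cfsg.Agent.Lib.Helper26.HSD.h83.1]; norm_num)).to_subtype

noncomputable instance fintypeOm : Fintype (Om VH WH) :=
  haveI := finite_Om
  Fintype.ofFinite _

theorem card_Om : Fintype.card (Om VH WH) = 100 := by
  rw [← Nat.card_eq_fintype_card, Nat.card_coe_set_eq]
  exact Cfsg.Agent.Lib.Helper26.HSD.h83.1

theorem pretrans : MulAction.IsPretransitive (G2 VH WH) (Om VH WH) := ⟨fun x y => by
  obtain ⟨g, rfl⟩ := trans0 Cfsg.Agent.Lib.Helper26.HSD.h83 x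
  obtain ⟨g', rfl⟩ := trans0 Cfsg.Agent.Lib.Helper26.HSD.h83 y
  exact ⟨g' * g⁻¹, by rw [mul_smul, inv_smul_smul]⟩⟩

theorem dot_smul (g : G2 VH WH) (hg : g ∈ MulAction.stabilizer (G2 VH WH) x0) (y : Om VH WH) :
    dotInt (XH : Vec) (((g • y : Om VH WH) : leechLattice) : Vec) =
      dotInt (XH : Vec) ((y : leechLattice) : Vec) := by
  have h1 : (g : Co0) • XH = XH := congrArg Subtype.val (MulAction.mem_stabilizer_iff.1 hg)
  have h2 := Cfsg.Agent.Lib.Conway.co0_dot (g : Co0) XH (y : leechLattice)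
  rw [h1] at h2
  exact h2

theorem orbit_SA {y : Om VH WH} (hy : y ∈ SA) :
    MulAction.orbit (MulAction.stabilizer (G2 VH WH) x0) y = SA := by
  ext y'
  constructor
  · rintro ⟨⟨g, hg⟩, rfl⟩
    show dotInt (XH : Vec) (((g • y : Om VH WH) : leechLattice) : Vec) = 8
    rw [dot_smul g hg]
    exact hy
  · intro hy'
    obtain ⟨g, hg, rfl⟩ := stab_trans Cfsg.Agent.Lib.Helper26.HSD.h84 (Or.inl ⟨hy, hy'⟩)
    exact ⟨⟨g, hg⟩, rfl⟩

theorem orbit_SB {y : Om VH WH} (hy : y ∈ SB) :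
    MulAction.orbit (MulAction.stabilizer (G2 VH WH) x0) y = SB := by
  ext y'
  constructor
  · rintro ⟨⟨g, hg⟩, rfl⟩
    refine ⟨?_, ?_⟩
    · intro e
      apply hy.1
      have h1 : g • x0 = x0 := MulAction.mem_stabilizer_iff.1 hg
      have h2 : g • y = g • x0 := e.trans h1.symm
      exact MulAction.injective g h2
    · show dotInt (XH : Vec) (((g • y : Om VH WH) : leechLattice) : Vec) ≠ 8
      rw [dot_smul g hg]
      exact hy.2
  · intro hy'
    obtain ⟨g, hg, rfl⟩ := stab_trans Cfsg.Agent.Lib.Helper26.HSD.h84 (Or.inr ⟨hy, hy'⟩)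
    exact ⟨⟨g, hg⟩, rfl⟩

/-- the standard model is isomorphic to the even automorphisms of the model graph -/
theorem std_equiv : Nonempty (G2 VH WH ≃* HSH) := by
  haveI := pretrans
  have hA : SA.Nonempty := by
    rw [← Set.ncard_pos (Set.toFinite _), card_SA Cfsg.Agent.Lib.Helper26.HSD.h84]
    norm_num
  have hB : SB.Nonempty := by
    rw [← Set.ncard_pos (Set.toFinite _), card_SB Cfsg.Agent.Lib.Helper26.HSD.h84]
    norm_num
  obtain ⟨y, hy⟩ := hA
  obtain ⟨z, hz⟩ := hB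
  exact recog card_Om faithful pa_ne_pb stabEquiv
    (by rw [orbit_SA hy]; exact card_SA Cfsg.Agent.Lib.Helper26.HSD.h84)
    (by rw [orbit_SB hz]; exact card_SB Cfsg.Agent.Lib.Helper26.HSD.h84)

end StdPair

/-- the Higman-Sims group of the prelude and the model graph group -/
theorem sporHS_equiv : Nonempty (Cfsg.Spor.HS ≃* HSH) := by
  obtain ⟨e1⟩ := Cfsg.Agent.Lib.Helper26.HSD.nonempty_equiv_std
  obtain ⟨e2⟩ := StdPair.std_equiv
  exact ⟨e1.trans e2⟩

end Cfsg.Agent.Lib.Helper7Std
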