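import Cfsg.Agent.Lib.Helper7.HSCode

set_option autoImplicit false

namespace Cfsg.Agent.Lib.Helper7

open Cfsg
open scoped Pointwise

noncomputable instance instFintypeW22 : Fintype W22 := Fintype.ofFinite W22

theorem card_filter_vcode (P : ℕ → Bool) :
    (Finset.univ.filter (fun v : HSV => P (vcode v) = true)).card = (hsV.filter P).length := by
  classical
  rw [← List.toFinset_card_of_nodup (hsV_nodup.filter _),
    ← Finset.card_image_of_injective _ vcode_injective]
  congr 1
  ext m
  simp only [Finset.mem_image, Finset.mem_filter, Finset.mem_univ, true_and, List.mem_toFinset,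
    List.mem_filter]
  constructor
  · rintro ⟨v, hv, rfl⟩
    exact ⟨vcode_mem v, hv⟩
  · rintro ⟨hm, hP⟩
    obtain ⟨v, rfl⟩ := exists_vcode_eq m hm
    exact ⟨v, hP, rfl⟩

theorem card_HSV : Fintype.card HSV = 100 := by
  have h := card_filter_vcode (fun _ => true)
  rw [List.filter_true, hsV_length] at h
  rw [← h, ← Finset.card_univ]
  congr 1
  ext v
  simp

theorem card_W22 : Fintype.card W22 = 77 := by
  have h := card_HSV
  rw [Fintype.card_option, Fintype.card_sum, card_Pt22] at h
  omega

/-- the involution as a permutation -/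
noncomputable def iotaPerm : Equiv.Perm HSV := iotaFun_involutive.toPerm

theorem iotaPerm_apply (v : HSV) : iotaPerm v = iotaFun v := rfl

theorem iotaPerm_sq : iotaPerm ^ 2 = 1 := by
  apply Equiv.ext
  intro v
  rw [pow_two, Equiv.Perm.mul_apply, iotaPerm_apply, iotaPerm_apply, iotaFun_involutive v]
  rfl

theorem hsV_moved : (hsV.filter (fun m => !(Nat.beq (iotaC m) m))).length = 94 := by
  decide +kernel

theorem card_support_iota : iotaPerm.support.card = 94 := by
  rw [← hsV_moved, ← card_filter_vcode]
  congr 1
  ext v
  simp only [Equiv.Perm.mem_support, Finset.mem_filter, Finset.mem_univ, true_and,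
    Bool.not_eq_true', iotaPerm_apply]
  have h1 := vcode_iotaFun v
  constructor
  · intro h
    apply beq_false_of_ne
    intro hcon
    apply h
    apply vcode_injective
    rw [h1, hcon]
  · intro h hcon
    rw [hcon] at h1
    rw [← h1, Nat.beq_refl] at h
    exact absurd h (by decide)

theorem sign_iotaPerm : Equiv.Perm.sign iotaPerm = -1 := by
  have hct := Equiv.Perm.cycleType_of_pow_prime_eq_one (p := 2) iotaPerm_sq
  have hsum := Equiv.Perm.sum_cycleType iotaPerm
  rw [card_support_iota, hct, Multiset.sum_replicate, smul_eq_mul] at hsum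
  have hk : Multiset.card iotaPerm.cycleType = 47 := by omega
  rw [Equiv.Perm.sign_of_cycleType, hct, Multiset.sum_replicate, Multiset.card_replicate, hk]
  decide

end Cfsg.Agent.Lib.Helper7
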