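import Cfsg.Agent.Lib.Helper7.GolayChain2

set_option autoImplicit false

namespace Cfsg.Agent.Lib.Helper7

open Cfsg
open scoped Pointwise

def m12Prog : List (ℕ × ℕ) :=
  [(1, 0), (0, 1), (2, 1), (0, 2), (0, 3), (0, 4), (1, 4), (2, 4), (0, 5), (1, 6), (2, 7), (0, 8),
    (0, 9), (0, 10), (2, 11), (0, 12), (0, 13), (2, 13), (0, 14), (0, 15), (2, 17), (2, 18), (2, 19), (0, 20),
    (1, 21), (2, 22), (0, 23), (2, 24), (0, 25), (0, 26), (2, 27), (0, 28), (1, 29), (0, 30), (1, 31), (0, 32),
    (0, 33), (2, 35), (1, 39), (0, 40), (1, 16), (16, 100000), (44, 43), (2, 38), (36, 100000), (47, 46), (2, 37), (34, 100000),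
    (50, 49), (2, 41), (42, 100000), (53, 52), (51, 45), (48, 48), (54, 48), (45, 51), (51, 55), (45, 56), (48, 56), (45, 59),
    (54, 45), (63, 45), (64, 45), (65, 54), (66, 51), (60, 100000), (68, 67), (48, 51), (70, 54), (71, 51), (72, 48), (73, 48),
    (48, 100000), (75, 74), (48, 45), (77, 45), (78, 48), (79, 51), (80, 48), (81, 48), (82, 48), (51, 100000), (84, 83), (69, 69),
    (85, 69), (69, 76), (76, 76), (85, 76), (69, 86), (85, 87), (69, 88), (54, 45), (94, 54), (95, 48), (96, 48), (51, 100000),
    (98, 97), (91, 100000), (100, 99), (54, 51), (102, 48), (103, 51), (104, 48), (105, 54), (106, 45), (107, 51), (108, 51), (109, 51),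
    (51, 100000), (111, 110), (86, 100000), (113, 112), (51, 54), (115, 54), (116, 51), (117, 48), (118, 45), (119, 51), (120, 48), (121, 51),
    (62, 100000), (123, 122), (92, 100000), (125, 124), (101, 101), (114, 101), (101, 114), (126, 114), (101, 127), (101, 129), (45, 48), (133, 45),
    (134, 51), (135, 45), (136, 54), (59, 100000), (138, 137), (92, 100000), (140, 139), (101, 100000), (142, 141), (51, 48), (144, 45), (145, 54),
    (146, 48), (147, 51), (148, 54), (56, 100000), (150, 149), (87, 100000), (152, 151), (130, 100000), (154, 153), (54, 45), (156, 51), (157, 45),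
    (158, 45), (60, 100000), (160, 159), (87, 100000), (162, 161), (114, 100000), (164, 163), (143, 155), (155, 155), (143, 165), (143, 166), (155, 167),
    (165, 167), (48, 51), (172, 48), (173, 48), (174, 54), (175, 45), (56, 100000), (177, 176), (92, 100000), (179, 178), (101, 100000), (181, 180),
    (166, 100000), (183, 182), (45, 54), (185, 54), (186, 51), (187, 48), (188, 45), (189, 45), (56, 100000), (191, 190), (86, 100000), (193, 192),
    (131, 100000), (195, 194), (168, 100000), (197, 196), (184, 184), (198, 184), (184, 198), (184, 199), (198, 199), (69, 69), (85, 69), (69, 76),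
    (76, 76), (69, 85), (76, 206), (69, 209), (76, 210), (85, 85), (212, 69), (213, 85), (214, 85), (215, 69), (206, 100000), (217, 216),
    (76, 76), (219, 85), (220, 69), (221, 85), (222, 76), (223, 76), (205, 100000), (225, 224), (69, 85), (227, 76), (228, 85), (229, 85),
    (207, 100000), (231, 230), (218, 218), (232, 218), (218, 226), (232, 226), (218, 232), (226, 232), (232, 232), (69, 76), (240, 85), (241, 85),
    (242, 85), (243, 69), (244, 85), (85, 100000), (246, 245), (226, 100000), (248, 247), (85, 85), (250, 69), (251, 85), (252, 76), (253, 85),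
    (254, 69), (69, 100000), (256, 255), (234, 100000), (258, 257), (85, 76), (260, 85), (261, 69), (262, 76), (263, 85), (264, 85), (265, 69),
    (266, 85), (267, 85), (207, 100000), (269, 268), (236, 100000), (271, 270), (249, 249), (272, 249), (272, 272), (249, 273), (249, 275), (259, 275),
    (249, 277)]

/-- the store of the straight-line program, in reverse order -/
def m12PDs : List PD := slpRun2 m12Prog [dC, dB, dA] 3

def m12Tr0 : List (ℕ × ℕ) :=
  [(0, 1000000), (14, 234), (3, 231), (2, 228), (7, 224), (8, 223), (11, 222), (4, 221), (6, 220), (10, 219), (13, 218), (9, 217)]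

def m12Tr1 : List (ℕ × ℕ) :=
  [(2, 1000000), (11, 210), (8, 203), (9, 193), (14, 192), (13, 191), (7, 190), (6, 189), (10, 188), (3, 187), (4, 186)]

def m12Tr2 : List (ℕ × ℕ) :=
  [(3, 1000000), (8, 178), (14, 165), (4, 153), (7, 152), (11, 151), (6, 150), (10, 149), (13, 148), (9, 147)]

def m12Tr3 : List (ℕ × ℕ) :=
  [(4, 1000000), (9, 124), (7, 114), (6, 113), (13, 112), (14, 111), (8, 110), (11, 109), (10, 108)]

def m12Tr4 : List (ℕ × ℕ) :=
  [(6, 1000000), (9, 95), (14, 81), (13, 80), (10, 79), (7, 78), (8, 77), (11, 76)]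

def m11Tr0 : List (ℕ × ℕ) :=
  [(1, 1000000), (21, 210), (18, 203), (5, 194), (12, 75), (20, 74), (23, 73), (16, 72), (15, 71), (17, 70), (22, 69), (19, 68)]

def m11Tr1 : List (ℕ × ℕ) :=
  [(5, 1000000), (18, 61), (22, 53), (23, 47), (17, 46), (20, 45), (15, 44), (16, 43), (19, 42), (12, 41), (21, 40)]

def m11Tr2 : List (ℕ × ℕ) :=
  [(12, 1000000), (18, 30), (19, 7), (22, 6), (20, 5), (16, 4), (15, 3), (21, 2), (17, 1), (23, 0)]

end Cfsg.Agent.Lib.Helper7
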