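import Cfsg.Agent.Lib.Helper7.ChainTrans

set_option autoImplicit false

namespace Cfsg.Agent.Lib.Helper7

open Cfsg
open scoped Pointwise

theorem fixIn_congr (K : Subgroup (Equiv.Perm GolayPt)) (l l' : List ℕ)
    (h : ∀ b, b ∈ l ↔ b ∈ l') : fixIn K l = fixIn K l' := by
  ext σ
  rw [mem_fixIn, mem_fixIn]
  constructor
  · rintro ⟨h1, h2⟩
    exact ⟨h1, fun b hb => h2 b ((h b).2 hb)⟩
  · rintro ⟨h1, h2⟩
    exact ⟨h1, fun b hb => h2 b ((h b).1 hb)⟩

theorem fixIn_fixIn (K : Subgroup (Equiv.Perm GolayPt)) (l1 l2 : List ℕ) :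
    fixIn (fixIn K l1) l2 = fixIn K (l2 ++ l1) := by
  induction l2 with
  | nil => rfl
  | cons b l ih =>
    show fixIn (fixIn K l1) l ⊓ _ = fixIn K (l ++ l1) ⊓ _
    rw [ih]

theorem m12_lower_point (l : List ℕ) (j : ℕ) (tr : List (ℕ × ℕ)) (hmem : (l, j, tr) ∈ m12Levels)
    (hl : ∀ b ∈ l, b < 24) (hj : j < 24) (z : GolayPt) (hz : idx z ∈ tr.map Prod.fst) :
    ∃ τ ∈ fixIn (stabD baseDod) l, τ (pt j) = z := by
  obtain ⟨τ, hτ, h⟩ := m12_lower l j tr hmem hl hj _ hz
  rw [pt_idx] at h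
  exact ⟨τ, hτ, h⟩

theorem stabD_preserves (m : ℕ) : ∀ σ ∈ stabD m, ∀ p ∈ finOf m, σ p ∈ finOf m := by
  intro σ hσ p hp
  rw [mem_stabD] at hσ
  have : σ p ∈ σ • finOf m := Finset.smul_mem_smul_finset hp
  rwa [hσ.2] at this

theorem stabD_preserves_compl (m : ℕ) :
    ∀ σ ∈ stabD m, ∀ p ∈ finOf (m ^^^ 16777215), σ p ∈ finOf (m ^^^ 16777215) := by
  intro σ hσ p hp
  rw [mem_stabD] at hσ
  have hinv : InvMask σ (m ^^^ 16777215) := InvMask.compl hσ.2
  have : σ p ∈ σ • finOf (m ^^^ 16777215) := Finset.smul_mem_smul_finset hp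
  rwa [hinv] at this

theorem ne_pt_iff (z : GolayPt) (b : ℕ) (hb : b < 24) : z ≠ pt b ↔ idx z ≠ b := by
  constructor
  · intro h h2
    apply h
    rw [← h2, pt_idx]
  · intro h h2
    apply h
    rw [h2, idx_pt b hb]

/-- the stabiliser of the base dodecad is 5-transitive on it -/
theorem m12_five_trans (y : ℕ → GolayPt) (hy : ∀ i < 5, y i ∈ finOf baseDod)
    (hinj : ∀ i < 5, ∀ j < 5, y i = y j → i = j) :
    ∃ σ ∈ stabD baseDod, ∀ i < 5, σ (pt (([0, 2, 3, 4, 6] : List ℕ).getD i 0)) = y i := by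
  refine chain_multi_trans (stabD baseDod) (finOf baseDod) (stabD_preserves baseDod)
    [0, 2, 3, 4, 6] ?_ y hy hinj 5 (le_refl _)
  intro i hi z hz hne
  rw [mem_finOf] at hz
  have hi5 : i < 5 := hi
  interval_cases i
  · exact m12_lower_point [] 0 m12Tr0 (by decide +kernel) (by decide +kernel) (by decide +kernel) z
      ((by decide +kernel : ∀ s < 24, baseDod.testBit s = true → s ∈ m12Tr0.map Prod.fst)
        _ (idx_lt z) hz)
  · have h0 := (ne_pt_iff z 0 (by norm_num)).1 (hne 0 (by simp))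
    exact m12_lower_point [0] 2 m12Tr1 (by decide +kernel) (by decide +kernel) (by decide +kernel) z
      ((by decide +kernel : ∀ s < 24, baseDod.testBit s = true → s ≠ 0 →
        s ∈ m12Tr1.map Prod.fst) _ (idx_lt z) hz h0)
  · have h0 := (ne_pt_iff z 0 (by norm_num)).1 (hne 0 (by simp))
    have h2 := (ne_pt_iff z 2 (by norm_num)).1 (hne 2 (by simp))
    rw [fixIn_congr _ (List.take 2 [0, 2, 3, 4, 6]) [2, 0] (by simp; omega)]
    exact m12_lower_point [2, 0] 3 m12Tr2 (by decide +kernel) (by decide +kernel)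
      (by decide +kernel) z
      ((by decide +kernel : ∀ s < 24, (baseDod.testBit s = true ∧ s ≠ 0 ∧ s ≠ 2) →
        s ∈ m12Tr2.map Prod.fst) _ (idx_lt z) ⟨hz, h0, h2⟩)
  · have h0 := (ne_pt_iff z 0 (by norm_num)).1 (hne 0 (by simp))
    have h2 := (ne_pt_iff z 2 (by norm_num)).1 (hne 2 (by simp))
    have h3 := (ne_pt_iff z 3 (by norm_num)).1 (hne 3 (by simp))
    rw [fixIn_congr _ (List.take 3 [0, 2, 3, 4, 6]) [3, 2, 0] (by simp; omega)]
    exact m12_lower_point [3, 2, 0] 4 m12Tr3 (by decide +kernel) (by decide +kernel)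
      (by decide +kernel) z
      ((by decide +kernel : ∀ s < 24, (baseDod.testBit s = true ∧ s ≠ 0 ∧ s ≠ 2 ∧ s ≠ 3) →
        s ∈ m12Tr3.map Prod.fst) _ (idx_lt z) ⟨hz, h0, h2, h3⟩)
  · have h0 := (ne_pt_iff z 0 (by norm_num)).1 (hne 0 (by simp))
    have h2 := (ne_pt_iff z 2 (by norm_num)).1 (hne 2 (by simp))
    have h3 := (ne_pt_iff z 3 (by norm_num)).1 (hne 3 (by simp))
    have h4 := (ne_pt_iff z 4 (by norm_num)).1 (hne 4 (by simp))
    rw [fixIn_congr _ (List.take 4 [0, 2, 3, 4, 6]) [4, 3, 2, 0] (by simp; omega)]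
    exact m12_lower_point [4, 3, 2, 0] 6 m12Tr4 (by decide +kernel) (by decide +kernel)
      (by decide +kernel) z
      ((by decide +kernel : ∀ s < 24, (baseDod.testBit s = true ∧ s ≠ 0 ∧ s ≠ 2 ∧ s ≠ 3 ∧
        s ≠ 4) → s ∈ m12Tr4.map Prod.fst) _ (idx_lt z) ⟨hz, h0, h2, h3, h4⟩)

end Cfsg.Agent.Lib.Helper7

namespace Cfsg.Agent.Lib.Helper7

open Cfsg
open scoped Pointwise

theorem card_m12_1 : Nat.card (fixIn (stabD baseDod) [2, 0]) = 720 := by
  have h := card_fixIn_step (stabD baseDod) [0] 2 (m12Tr1.map Prod.fst) (by decide +kernel)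
    (by decide +kernel)
    (m12_lower _ _ _ (by decide +kernel) (by decide +kernel) (by decide +kernel))
    (upper_D baseDod _ 2 _ (by decide +kernel) (by decide +kernel) (by decide +kernel))
  rw [card_m12_0, (by decide +kernel : (m12Tr1.map Prod.fst).length = 11)] at h
  omega

theorem card_m12_2 : Nat.card (fixIn (stabD baseDod) [3, 2, 0]) = 72 := by
  have h := card_fixIn_step (stabD baseDod) [2, 0] 3 (m12Tr2.map Prod.fst) (by decide +kernel)
    (by decide +kernel)
    (m12_lower _ _ _ (by decide +kernel) (by decide +kernel) (by decide +kernel))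
    (upper_D baseDod _ 3 _ (by decide +kernel) (by decide +kernel) (by decide +kernel))
  rw [card_m12_1, (by decide +kernel : (m12Tr2.map Prod.fst).length = 10)] at h
  omega

theorem card_m12_3 : Nat.card (fixIn (stabD baseDod) [4, 3, 2, 0]) = 8 := by
  have h := card_fixIn_step (stabD baseDod) [3, 2, 0] 4 (m12Tr3.map Prod.fst) (by decide +kernel)
    (by decide +kernel)
    (m12_lower _ _ _ (by decide +kernel) (by decide +kernel) (by decide +kernel))
    (upper_D baseDod _ 4 _ (by decide +kernel) (by decide +kernel) (by decide +kernel))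
  rw [card_m12_2, (by decide +kernel : (m12Tr3.map Prod.fst).length = 9)] at h
  omega

theorem card_m12_4 : Nat.card (fixIn (stabD baseDod) [6, 4, 3, 2, 0]) = 1 := by
  have h := card_fixIn_step (stabD baseDod) [4, 3, 2, 0] 6 (m12Tr4.map Prod.fst)
    (by decide +kernel) (by decide +kernel)
    (m12_lower _ _ _ (by decide +kernel) (by decide +kernel) (by decide +kernel))
    (upper_D baseDod _ 6 _ (by decide +kernel) (by decide +kernel) (by decide +kernel))
  rw [card_m12_3, (by decide +kernel : (m12Tr4.map Prod.fst).length = 8)] at h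
  omega

theorem m12_fix5_eq_bot : fixIn (stabD baseDod) [6, 4, 3, 2, 0] = ⊥ :=
  Subgroup.eq_bot_of_card_eq _ card_m12_4

/-- move the base dodecad and base point to any dodecad and point on it -/
theorem exists_transport (d : Finset GolayPt) (hd : d ∈ dodecads) (p : GolayPt) (hp : p ∈ d) :
    ∃ g ∈ M24, g • finOf baseDod = d ∧ g (pt 0) = p := by
  obtain ⟨h, hh, h1⟩ := dodecad_trans (finOf baseDod) d baseDod_mem hd
  have hq : h⁻¹ p ∈ finOf baseDod := by
    have : h⁻¹ p ∈ h⁻¹ • d := Finset.smul_mem_smul_finset hp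
    rwa [← h1, inv_smul_smul] at this
  rw [mem_finOf] at hq
  have hmem : idx (h⁻¹ p) ∈ m12Tr0.map Prod.fst := by
    have : ∀ s < 24, baseDod.testBit s = true → s ∈ m12Tr0.map Prod.fst := by decide +kernel
    exact this _ (idx_lt _) hq
  obtain ⟨τ, hτ, h2⟩ := m12_lower_point [] 0 m12Tr0 (by decide +kernel) (by decide +kernel)
    (by decide +kernel) _ hmem
  have hτ' : τ ∈ stabD baseDod := hτ
  rw [mem_stabD] at hτ'
  refine ⟨h * τ, M24.mul_mem hh hτ'.1, ?_, ?_⟩
  · rw [mul_smul, hτ'.2, h1]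
  · rw [Equiv.Perm.mul_apply, h2]
    simp

/-- the stabiliser of the base dodecad and the point `0` is 3-transitive on the complement -/
theorem m11_three_trans (y : ℕ → GolayPt) (hy : ∀ i < 3, y i ∈ finOf (baseDod ^^^ 16777215))
    (hinj : ∀ i < 3, ∀ j < 3, y i = y j → i = j) :
    ∃ σ ∈ fixIn (stabD baseDod) [0], ∀ i < 3, σ (pt (([1, 5, 12] : List ℕ).getD i 0)) = y i := by
  refine chain_multi_trans (fixIn (stabD baseDod) [0]) (finOf (baseDod ^^^ 16777215))
    (fun σ hσ => stabD_preserves_compl baseDod σ (fixIn_le _ _ hσ))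
    [1, 5, 12] ?_ y hy hinj 3 (le_refl _)
  intro i hi z hz hne
  rw [mem_finOf] at hz
  have hi3 : i < 3 := hi
  rw [fixIn_fixIn]
  interval_cases i
  · exact m12_lower_point [0] 1 m11Tr0 (by decide +kernel) (by decide +kernel) (by decide +kernel) z
      ((by decide +kernel : ∀ s < 24, (baseDod ^^^ 16777215).testBit s = true →
        s ∈ m11Tr0.map Prod.fst) _ (idx_lt z) hz)
  · have h1 := (ne_pt_iff z 1 (by norm_num)).1 (hne 1 (by simp))
    exact m12_lower_point [1, 0] 5 m11Tr1 (by decide +kernel) (by decide +kernel)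
      (by decide +kernel) z
      ((by decide +kernel : ∀ s < 24, ((baseDod ^^^ 16777215).testBit s = true ∧ s ≠ 1) →
        s ∈ m11Tr1.map Prod.fst) _ (idx_lt z) ⟨hz, h1⟩)
  · have h1 := (ne_pt_iff z 1 (by norm_num)).1 (hne 1 (by simp))
    have h5 := (ne_pt_iff z 5 (by norm_num)).1 (hne 5 (by simp))
    rw [fixIn_congr _ (List.take 2 [1, 5, 12] ++ [0]) [5, 1, 0] (by simp; omega)]
    exact m12_lower_point [5, 1, 0] 12 m11Tr2 (by decide +kernel) (by decide +kernel)
      (by decide +kernel) z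
      ((by decide +kernel : ∀ s < 24, ((baseDod ^^^ 16777215).testBit s = true ∧ s ≠ 1 ∧ s ≠ 5) →
        s ∈ m11Tr2.map Prod.fst) _ (idx_lt z) ⟨hz, h1, h5⟩)

end Cfsg.Agent.Lib.Helper7
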