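import Cfsg.Agent.Lib.Helper7.M22Rank3

set_option autoImplicit false

namespace Cfsg.Agent.Lib.Helper7

open Cfsg

/-- the sign of an involution moving `2 m` points is `(-1) ^ m`. -/
theorem sign_of_orderOf_two {t : Equiv.Perm GolayPt} (ht : orderOf t = 2) :
    ∃ m : ℕ, t.support.card = 2 * m ∧ Equiv.Perm.sign t = (-1 : ℤˣ) ^ m := by
  have hall : ∀ n ∈ t.cycleType, n = 2 := by
    intro n hn
    have h1 := Equiv.Perm.dvd_of_mem_cycleType hn
    have h2 := Equiv.Perm.two_le_of_mem_cycleType hn
    rw [ht] at h1
    have := Nat.le_of_dvd (by norm_num) h1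
    omega
  have hrep := Multiset.eq_replicate_card.2 hall
  refine ⟨Multiset.card t.cycleType, ?_, ?_⟩
  · rw [← Equiv.Perm.sum_cycleType, hrep, Multiset.sum_replicate, Multiset.card_replicate]
    simp [mul_comm]
  · rw [Equiv.Perm.sign_of_cycleType, hrep, Multiset.sum_replicate, Multiset.card_replicate]
    simp only [smul_eq_mul]
    rw [show Multiset.card t.cycleType * 2 + Multiset.card t.cycleType =
      2 * Multiset.card t.cycleType + Multiset.card t.cycleType by ring, pow_add, pow_mul]
    simp

theorem card_fixP_add_card_support (t : Equiv.Perm GolayPt) :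
    (fixP t).card + t.support.card = 24 := by
  have h := Finset.card_filter_add_card_filter_not (s := (Finset.univ : Finset GolayPt))
    (fun x => t x = x)
  rw [Finset.card_univ, card_golayPt'] at h
  have h2 : t.support = Finset.univ.filter (fun x => ¬ t x = x) := by
    ext x
    simp
  rw [h2]
  exact h

/-- an element of order 11 of the group of the code fixing two points commutes with no involution
of sign one fixing these two points. -/
theorem no_commuting_involution {p q : GolayPt} (hpq : p ≠ q) {g t : Equiv.Perm GolayPt}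
    (hg : g ∈ M24) (hgp : g p = p) (hgq : g q = q) (htp : t p = p) (htq : t q = q)
    (hog : orderOf g = 11) (hot : orderOf t = 2) (hcomm : g * t = t * g)
    (hsign : Equiv.Perm.sign t = 1) : False := by
  have : Fact (Nat.Prime 11) := ⟨by norm_num⟩
  have hT := isPGroup_zpowers hog
  -- fixed points of `g`
  have hfg : fixP g = {p, q} := by
    have h4 : (fixP g).card ≤ 4 := card_fixP_le_four hg (by rw [hog]; norm_num)
    have hmod := card_modEq_card_inter_fixF (Subgroup.zpowers g) hT
      Finset.univ (fun _ _ _ _ => Finset.mem_univ _)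
    rw [Finset.univ_inter, fixF_zpowers, Finset.card_univ, card_golayPt'] at hmod
    have hmod' : 24 % 11 = (fixP g).card % 11 := hmod
    have h2 : (fixP g).card = 2 := by omega
    symm
    apply Finset.eq_of_subset_of_card_le
    · intro x hx
      simp only [Finset.mem_insert, Finset.mem_singleton] at hx
      rw [mem_fixP]
      rcases hx with rfl | rfl
      · exact hgp
      · exact hgq
    · rw [h2, Finset.card_pair hpq]
  -- fixed points of `t`
  have hinv : ∀ s ∈ Subgroup.zpowers g, ∀ x ∈ fixP t, s x ∈ fixP t := by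
    intro s hs x hx
    obtain ⟨n, rfl⟩ := Subgroup.mem_zpowers_iff.1 hs
    rw [mem_fixP] at hx ⊢
    have hc : Commute (g ^ n) t := (show Commute g t from hcomm).zpow_left n
    have : (t * g ^ n) x = (g ^ n * t) x := by rw [hc.eq]
    rw [Equiv.Perm.mul_apply, Equiv.Perm.mul_apply, hx] at this
    exact this
  have hmod := card_modEq_card_inter_fixF (Subgroup.zpowers g) hT (fixP t) hinv
  rw [fixF_zpowers, hfg] at hmod
  have hinter : fixP t ∩ {p, q} = {p, q} := by
    rw [Finset.inter_eq_right]
    intro x hx
    simp only [Finset.mem_insert, Finset.mem_singleton] at hx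
    rw [mem_fixP]
    rcases hx with rfl | rfl
    · exact htp
    · exact htq
  rw [hinter, Finset.card_pair hpq] at hmod
  have hmod' : (fixP t).card % 11 = 2 % 11 := hmod
  obtain ⟨m, hm, hs⟩ := sign_of_orderOf_two hot
  have hsum := card_fixP_add_card_support t
  have hcases : m = 0 ∨ m = 11 := by omega
  rcases hcases with rfl | rfl
  · have : t.support = ∅ := Finset.card_eq_zero.1 (by omega)
    rw [Equiv.Perm.support_eq_empty_iff] at this
    rw [this, orderOf_one] at hot
    omega
  · rw [hsign] at hs
    exact absurd hs (by decide)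

/-- in a group of order `2112 = 2^6 · 3 · 11` some involution commutes with an element of
order 11. -/
theorem exists_commuting_of_card_2112 {G : Type*} [Group G] [Finite G]
    (hcard : Nat.card G = 2112) :
    ∃ g t : G, orderOf g = 11 ∧ orderOf t = 2 ∧ g * t = t * g := by
  classical
  have : Fact (Nat.Prime 11) := ⟨by norm_num⟩
  have : Fact (Nat.Prime 2) := ⟨by norm_num⟩
  obtain ⟨P⟩ : Nonempty (Sylow 11 G) := Sylow.nonempty
  -- the order of `P`
  have hP11 : Nat.card (P : Subgroup G) = 11 := by
    obtain ⟨n, hn⟩ := IsPGroup.iff_card.mp P.isPGroup'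
    have h1 : 11 ∣ Nat.card (P : Subgroup G) := P.dvd_card_of_dvd_card (by rw [hcard]; norm_num)
    have h2 : Nat.card (P : Subgroup G) ∣ 2112 := hcard ▸ Subgroup.card_subgroup_dvd_card _
    rw [hn] at h1 h2 ⊢
    have hn2 : n < 2 := by
      by_contra hcon
      push Not at hcon
      have : 11 ^ 2 ∣ 2112 := (pow_dvd_pow 11 hcon).trans h2
      norm_num at this
    interval_cases n
    · norm_num at h1
    · norm_num
  -- the number of Sylow subgroups
  have hmod := card_sylow_modEq_one 11 G
  have hidx := P.card_eq_index_normalizer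
  have hdvd := P.card_dvd_index
  have hPidx : (P : Subgroup G).index = 192 := by
    have := Subgroup.card_mul_index (P : Subgroup G)
    rw [hP11, hcard] at this
    omega
  rw [hPidx] at hdvd
  have hn : Nat.card (Sylow 11 G) = 1 ∨ Nat.card (Sylow 11 G) = 12 := by
    have key : ∀ n ∈ Nat.divisors 192, n % 11 = 1 → n = 1 ∨ n = 12 := by decide
    exact key _ (Nat.mem_divisors.2 ⟨hdvd, by norm_num⟩) hmod
  set N := Subgroup.normalizer ((P : Subgroup G) : Set G) with hN
  have hidx' : Nat.card (Sylow 11 G) = N.index := hidx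
  have hNcard : 16 ∣ Nat.card N := by
    have := Subgroup.card_mul_index N
    rw [← hidx', hcard] at this
    rcases hn with h1 | h1 <;> rw [h1] at this
    · exact ⟨132, by omega⟩
    · exact ⟨11, by omega⟩
  -- the kernel of the action on `P`
  obtain ⟨φ, hφ⟩ : ∃ φ : N →* MulAut (P : Subgroup G), φ = (P : Subgroup G).normalizerMonoidHom :=
    ⟨_, rfl⟩
  have hcyc : IsCyclic (P : Subgroup G) := isCyclic_of_prime_card hP11
  have haut : Nat.card (MulAut (P : Subgroup G)) = 10 := by
    rw [IsCyclic.card_mulAut, hP11]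
    decide
  have hr : Nat.card φ.range ∣ 10 := by
    rw [← haut]
    exact Subgroup.card_subgroup_dvd_card _
  have hker : Nat.card φ.ker * Nat.card φ.range = Nat.card N := by
    rw [← Subgroup.index_ker, Subgroup.card_mul_index]
  have h2 : 2 ∣ Nat.card φ.ker := by
    have key : ∀ r ∈ Nat.divisors 10, r = 1 ∨ r = 2 ∨ r = 5 ∨ r = 10 := by decide
    have hr' := key _ (Nat.mem_divisors.2 ⟨hr, by norm_num⟩)
    obtain ⟨j, hj⟩ := hNcard
    rw [hj] at hker
    rcases hr' with h | h | h | h <;> rw [h] at hker <;> omega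
  obtain ⟨t, ht⟩ := exists_prime_orderOf_dvd_card' 2 h2
  -- a generator of `P`
  have hnt : Nontrivial (P : Subgroup G) := by
    rw [← Finite.one_lt_card_iff_nontrivial, hP11]
    norm_num
  obtain ⟨g, hg⟩ := exists_ne (1 : (P : Subgroup G))
  have hog : orderOf g = 11 := by
    have h1 : orderOf g ∣ Nat.card (P : Subgroup G) := orderOf_dvd_natCard g
    rw [hP11] at h1
    rcases (Nat.dvd_prime (by norm_num)).1 h1 with h | h
    · exact absurd (orderOf_eq_one_iff.1 h) hg
    · exact h
  subst hφ
  have hkey : ∀ x : N, x ∈ (P : Subgroup G).normalizerMonoidHom.ker →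
      ∀ h ∈ (P : Subgroup G), h * x.1 = x.1 * h := by
    intro x hx
    rw [Subgroup.normalizerMonoidHom_ker, Subgroup.mem_subgroupOf,
      Subgroup.mem_centralizer_iff] at hx
    exact hx
  have htker := hkey t.1 t.2
  refine ⟨g.1, (t.1 : N).1, ?_, ?_, ?_⟩
  · rw [Subgroup.orderOf_coe, hog]
  · rw [Subgroup.orderOf_coe, Subgroup.orderOf_coe, ht]
  · exact htker g.1 g.2


/-- there is no subgroup of order 2112 fixing two points. -/
theorem Fix2.card_ne_2112 {p q : GolayPt} {K : Subgroup (Equiv.Perm GolayPt)} (h : Fix2 p q K)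
    (hsign : ∀ σ ∈ K, Equiv.Perm.sign σ = 1) : Nat.card ↥K ≠ 2112 := by
  intro hcard
  obtain ⟨g, t, hog, hot, hcomm⟩ := exists_commuting_of_card_2112 (G := ↥K) hcard
  exact no_commuting_involution h.ne (h.le g.2) (h.fp g.1 g.2) (h.fq g.1 g.2) (h.fp t.1 t.2)
    (h.fq t.1 t.2) (by rw [Subgroup.orderOf_coe]; exact hog)
    (by rw [Subgroup.orderOf_coe]; exact hot) (congrArg Subtype.val hcomm) (hsign t.1 t.2)

end Cfsg.Agent.Lib.Helper7
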