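import Mathlib

set_option autoImplicit false

namespace Cfsg.Agent.Lib.Helper7

open Finset

section

variable {V : Type*} [Fintype V] [DecidableEq V] (R : V → V → Prop) [DecidableRel R]

/-- the adjacency matrix of a relation, over the integers. -/
def adjZ : Matrix V V ℤ := Matrix.of fun a b => if R a b then 1 else 0

theorem adjZ_apply (a b : V) : adjZ R a b = if R a b then 1 else 0 := rfl

theorem adjZ_mul_apply (hsymm : ∀ a b, R a b → R b a) (a b : V) :
    (adjZ R * adjZ R) a b = ((univ.filter fun x => R a x ∧ R b x).card : ℤ) := by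
  rw [Matrix.mul_apply, Finset.card_filter]
  push_cast
  apply Finset.sum_congr rfl
  intro x _
  rw [adjZ_apply, adjZ_apply]
  have hiff : R x b ↔ R b x := ⟨hsymm x b, hsymm b x⟩
  by_cases h1 : R a x <;> by_cases h2 : R b x <;> simp [h1, h2, hiff]

end

theorem no_srg22 {V : Type*} [Fintype V] [DecidableEq V] (hV : Fintype.card V = 22)
    (R : V → V → Prop) [DecidableRel R] (hsymm : ∀ a b, R a b → R b a) (hirr : ∀ a, ¬ R a a)
    (hdeg : ∀ a, (univ.filter (R a)).card = 6) (lam mu : ℕ)
    (hlam : ∀ a b, R a b → (univ.filter fun x => R a x ∧ R b x).card = lam)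
    (hmu : ∀ a b, a ≠ b → ¬ R a b → (univ.filter fun x => R a x ∧ R b x).card = mu) : False := by
  classical
  set A : Matrix V V ℤ := adjZ R with hA
  -- entries of the square
  have hAA : ∀ a b, (A * A) a b = if a = b then 6 else if R a b then (lam : ℤ) else mu := by
    intro a b
    rw [hA, adjZ_mul_apply R hsymm]
    by_cases hab : a = b
    · subst hab
      rw [if_pos rfl]
      have : (univ.filter fun x => R a x ∧ R a x) = univ.filter (R a) := by
        ext x
        simp
      rw [this, hdeg]
      rfl
    · rw [if_neg hab]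
      by_cases hR : R a b
      · rw [if_pos hR, hlam a b hR]
      · rw [if_neg hR, hmu a b hab hR]
  -- row sums
  have hrow : ∀ a, ∑ b, A a b = 6 := by
    intro a
    have : ∑ b, A a b = ((univ.filter (R a)).card : ℤ) := by
      rw [Finset.card_filter]
      push_cast
      rfl
    rw [this, hdeg]
    rfl
  obtain ⟨a0⟩ : Nonempty V := by
    rw [← Fintype.card_pos_iff, hV]
    norm_num
  have hsum1 : ∑ b, (A * A) a0 b = 36 := by
    have : ∑ b, (A * A) a0 b = ∑ x, A a0 x * ∑ b, A x b := by
      simp_rw [Matrix.mul_apply, Finset.mul_sum]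
      rw [Finset.sum_comm]
    rw [this]
    simp_rw [hrow]
    rw [← Finset.sum_mul, hrow]
    norm_num
  have hsum2 : ∑ b, (A * A) a0 b = 6 + 6 * (lam : ℤ) + 15 * mu := by
    have hpt : ∀ b, (A * A) a0 b =
        (mu : ℤ) + (if a0 = b then (6 - (mu : ℤ)) else 0) + (if R a0 b then ((lam : ℤ) - mu) else 0) := by
      intro b
      rw [hAA]
      by_cases hab : a0 = b
      · subst hab
        simp [hirr a0]
      · by_cases hR : R a0 b
        · simp [hab, hR]
        · simp [hab, hR]
    simp_rw [hpt]
    rw [Finset.sum_add_distrib, Finset.sum_add_distrib, Finset.sum_const, Finset.card_univ, hV,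
      Finset.sum_ite_eq, if_pos (Finset.mem_univ _), ← Finset.sum_filter, Finset.sum_const, hdeg]
    simp only [nsmul_eq_mul]
    push_cast
    ring
  have hrel : 6 * lam + 15 * mu = 30 := by
    have := hsum1.symm.trans hsum2
    omega
  have hcases : (lam = 5 ∧ mu = 0) ∨ (lam = 0 ∧ mu = 2) := by omega
  have hAdiag : ∀ a, A a a = 0 := by
    intro a
    rw [hA, adjZ_apply, if_neg (hirr a)]
  rcases hcases with ⟨h1, h2⟩ | ⟨h1, h2⟩
  · -- a disjoint union of complete graphs on seven vertices
    subst h1 h2
    have hBB : (A + 1) * (A + 1) = (7 : ℤ) • (A + 1) := by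
      ext a b
      rw [add_mul, mul_add, mul_add, mul_one, one_mul, one_mul]
      simp only [Matrix.add_apply, Matrix.smul_apply, hAA, Matrix.one_apply, smul_eq_mul]
      by_cases hab : a = b
      · subst hab
        simp [hAdiag]
      · by_cases hR : R a b
        · simp [hab, hR, hA, adjZ_apply]
        · simp [hab, hR, hA, adjZ_apply]
    have h70 : ((7 : ℤ) : ZMod 7) = 0 := by decide
    have h22 : (22 : ZMod 7) ≠ 0 := by decide
    have : Fact (Nat.Prime 7) := ⟨by norm_num⟩
    let φ := (Int.castRingHom (ZMod 7)).mapMatrix (m := V)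
    have hB0 : φ (A + 1) * φ (A + 1) = 0 := by
      rw [← map_mul, hBB]
      ext a b
      simp only [φ, RingHom.mapMatrix_apply, Matrix.map_apply, Matrix.smul_apply, smul_eq_mul,
        Int.coe_castRingHom, Int.cast_mul, Matrix.zero_apply]
      rw [h70, zero_mul]
    have hnil : IsNilpotent (φ (A + 1)) := ⟨2, by rw [pow_two, hB0]⟩
    have htr := (Matrix.isNilpotent_trace_of_isNilpotent hnil).eq_zero
    have htr2 : Matrix.trace (φ (A + 1)) = (22 : ZMod 7) := by
      rw [Matrix.trace]
      have : ∀ a, Matrix.diag (φ (A + 1)) a = 1 := by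
        intro a
        simp [φ, Matrix.diag, hAdiag]
      simp_rw [this]
      rw [Finset.sum_const, Finset.card_univ, hV]
      simp
    rw [htr2] at htr
    exact absurd htr h22
  · -- parameters (22, 6, 0, 2)
    subst h1 h2
    let φ := (Int.castRingHom (ZMod 3)).mapMatrix (m := V)
    let N : Matrix V V (ZMod 3) :=
      (2 : ZMod 3) • (1 + Matrix.replicateCol Unit (fun _ => (1 : ZMod 3)) *
        Matrix.replicateRow Unit (fun _ => (1 : ZMod 3)))
    have hBB : φ (A + 1) * φ (A + 1) = N := by
      rw [← map_mul]
      ext a b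
      rw [add_mul, mul_add, mul_add, mul_one, one_mul, one_mul]
      simp only [φ, N, RingHom.mapMatrix_apply, Matrix.map_apply, Matrix.add_apply, hAA,
        Matrix.one_apply, Matrix.smul_apply, Matrix.mul_apply, Matrix.replicateCol_apply,
        Matrix.replicateRow_apply, Finset.univ_unique, Finset.sum_singleton, smul_eq_mul,
        Int.coe_castRingHom]
      by_cases hab : a = b
      · subst hab
        simp [hAdiag]
        decide
      · by_cases hR : R a b
        · simp [hab, hR, hA, adjZ_apply]
        · simp [hab, hR, hA, adjZ_apply]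
    have hdet : Matrix.det N = 2 := by
      simp only [N]
      rw [Matrix.det_smul, Matrix.det_one_add_replicateCol_mul_replicateRow, hV]
      simp only [dotProduct, mul_one, Finset.sum_const, Finset.card_univ, hV]
      decide
    have hsq : Matrix.det (φ (A + 1)) * Matrix.det (φ (A + 1)) = 2 := by
      rw [← Matrix.det_mul, hBB, hdet]
    have : ∀ d : ZMod 3, d * d ≠ 2 := by decide
    exact this _ hsq

end Cfsg.Agent.Lib.Helper7
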