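import Cfsg.Agent.Lib.Helper7.M22Stab
import Cfsg.Agent.Lib.Helper7.GolaySteiner
import Cfsg.Agent.Lib.Helper7.NoSRG22

set_option autoImplicit false

namespace Cfsg.Agent.Lib.Helper7

open Cfsg

/-- a subgroup of the group of the code fixing two distinct points. -/
structure Fix2 (p q : GolayPt) (K : Subgroup (Equiv.Perm GolayPt)) : Prop where
  ne : p ≠ q
  le : K ≤ M24
  fp : ∀ σ ∈ K, σ p = p
  fq : ∀ σ ∈ K, σ q = q

/-- the remaining 22 points. -/
def Om (p q : GolayPt) : Finset GolayPt := Finset.univ.filter (fun x => x ≠ p ∧ x ≠ q)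

theorem mem_Om (p q x : GolayPt) : x ∈ Om p q ↔ x ≠ p ∧ x ≠ q := by simp [Om]

theorem card_Om {p q : GolayPt} (hpq : p ≠ q) : (Om p q).card = 22 := by
  have h : Om p q = Finset.univ \ {p, q} := by
    ext x
    simp [Om]
  rw [h, Finset.card_sdiff_of_subset (Finset.subset_univ _), Finset.card_univ, card_golayPt',
    Finset.card_pair hpq]

section

variable {p q : GolayPt} {K : Subgroup (Equiv.Perm GolayPt)}

theorem Fix2.mono (h : Fix2 p q K) {L : Subgroup (Equiv.Perm GolayPt)} (hL : L ≤ K) :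
    Fix2 p q L :=
  ⟨h.ne, hL.trans h.le, fun σ hσ => h.fp σ (hL hσ), fun σ hσ => h.fq σ (hL hσ)⟩

theorem stb_le (K : Subgroup (Equiv.Perm GolayPt)) (a : GolayPt) : stb K a ≤ K := inf_le_left

theorem Fix2.stb_le_fixL3 (h : Fix2 p q K) (a : GolayPt) : stb K a ≤ fixL [a, q, p] := by
  intro σ hσ
  rw [mem_stb] at hσ
  rw [mem_fixL]
  refine ⟨h.le hσ.1, ?_⟩
  intro x hx
  simp only [List.mem_cons, List.not_mem_nil, or_false] at hx
  rcases hx with rfl | rfl | rfl
  · exact hσ.2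
  · exact h.fq σ hσ.1
  · exact h.fp σ hσ.1

theorem Fix2.stb_le_fixL4 (h : Fix2 p q K) (a b : GolayPt) :
    stb (stb K a) b ≤ fixL [b, a, q, p] := by
  intro σ hσ
  rw [mem_stb, mem_stb] at hσ
  rw [mem_fixL]
  refine ⟨h.le hσ.1.1, ?_⟩
  intro x hx
  simp only [List.mem_cons, List.not_mem_nil, or_false] at hx
  rcases hx with rfl | rfl | rfl | rfl
  · exact hσ.2
  · exact hσ.1.2
  · exact h.fq σ hσ.1.1
  · exact h.fp σ hσ.1.1

theorem Fix2.card_stb_dvd3 (h : Fix2 p q K) {a : GolayPt} (ha : a ∈ Om p q) :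
    Nat.card ↥(stb K a) ∣ 20160 := by
  rw [mem_Om] at ha
  have hnd : [a, q, p].Nodup := by
    simp only [List.nodup_cons, List.mem_cons, List.not_mem_nil, or_false, not_or,
      not_false_eq_true, List.nodup_nil, and_true]
    exact ⟨⟨ha.2, ha.1⟩, h.ne.symm⟩
  rw [← card_fixL3 [a, q, p] rfl hnd]
  exact Subgroup.card_dvd_of_le (h.stb_le_fixL3 a)

theorem Fix2.card_stb_dvd4 (h : Fix2 p q K) {a b : GolayPt} (ha : a ∈ Om p q) (hb : b ∈ Om p q)
    (hab : a ≠ b) : Nat.card ↥(stb (stb K a) b) ∣ 960 := by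
  rw [mem_Om] at ha hb
  have hnd : [b, a, q, p].Nodup := by
    simp only [List.nodup_cons, List.mem_cons, List.not_mem_nil, or_false, not_or,
      not_false_eq_true, List.nodup_nil, and_true]
    exact ⟨⟨hab.symm, hb.2, hb.1⟩, ⟨ha.2, ha.1⟩, h.ne.symm⟩
  rw [← card_fixL4 [b, a, q, p] rfl hnd]
  exact Subgroup.card_dvd_of_le (h.stb_le_fixL4 a b)

/-! ### orbits -/

theorem self_mem_orbF (K : Subgroup (Equiv.Perm GolayPt)) (a : GolayPt) : a ∈ orbF K a :=
  (mem_orbF K a a).2 ⟨1, K.one_mem, rfl⟩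

theorem smul_mem_orbF {K : Subgroup (Equiv.Perm GolayPt)} {a x : GolayPt} {k : Equiv.Perm GolayPt}
    (hk : k ∈ K) (hx : x ∈ orbF K a) : k x ∈ orbF K a := by
  obtain ⟨k', hk', rfl⟩ := (mem_orbF K a x).1 hx
  exact (mem_orbF K a _).2 ⟨k * k', K.mul_mem hk hk', rfl⟩

theorem orbF_eq_of_mem {K : Subgroup (Equiv.Perm GolayPt)} {a x : GolayPt} (hx : x ∈ orbF K a) :
    orbF K x = orbF K a := by
  obtain ⟨k, hk, rfl⟩ := (mem_orbF K a x).1 hx
  ext y
  rw [mem_orbF, mem_orbF]
  constructor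
  · rintro ⟨k', hk', rfl⟩
    exact ⟨k' * k, K.mul_mem hk' hk, rfl⟩
  · rintro ⟨k', hk', rfl⟩
    refine ⟨k' * k⁻¹, K.mul_mem hk' (K.inv_mem hk), ?_⟩
    rw [Equiv.Perm.mul_apply]
    show k' (k.symm (k a)) = k' a
    rw [Equiv.symm_apply_apply]

theorem mem_orbF_symm {K : Subgroup (Equiv.Perm GolayPt)} {a x : GolayPt} (hx : x ∈ orbF K a) :
    a ∈ orbF K x := by
  rw [orbF_eq_of_mem hx]
  exact self_mem_orbF K a

theorem orbF_mono {K L : Subgroup (Equiv.Perm GolayPt)} (hL : L ≤ K) (a : GolayPt) :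
    orbF L a ⊆ orbF K a := by
  intro x hx
  obtain ⟨k, hk, rfl⟩ := (mem_orbF L a x).1 hx
  exact (mem_orbF K a _).2 ⟨k, hL hk, rfl⟩

theorem Fix2.orbF_subset_Om (h : Fix2 p q K) {a : GolayPt} (ha : a ∈ Om p q) :
    orbF K a ⊆ Om p q := by
  intro x hx
  obtain ⟨k, hk, rfl⟩ := (mem_orbF K a x).1 hx
  rw [mem_Om] at ha ⊢
  constructor
  · intro hkp
    apply ha.1
    have := h.fp k hk
    exact k.injective (hkp.trans this.symm)
  · intro hkq
    apply ha.2
    have := h.fq k hk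
    exact k.injective (hkq.trans this.symm)

theorem not_mem_orbF_stb {K : Subgroup (Equiv.Perm GolayPt)} {a b : GolayPt} (hab : a ≠ b) :
    a ∉ orbF (stb K a) b := by
  intro h
  obtain ⟨k, hk, hkb⟩ := (mem_orbF _ b a).1 h
  rw [mem_stb] at hk
  apply hab
  exact (k.injective (hkb.trans hk.2.symm)).symm

/-! ### the case of order 7920: orders of point stabilisers -/

theorem Fix2.card_stb_cases (h : Fix2 p q K) (hcard : Nat.card ↥K = 7920) {a : GolayPt}
    (ha : a ∈ Om p q) :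
    (Nat.card ↥(stb K a) = 360 ∧ (orbF K a).card = 22) ∨
      (Nat.card ↥(stb K a) = 720 ∧ (orbF K a).card = 11) := by
  have h1 := card_orbF_mul K a
  rw [hcard] at h1
  have h2 := h.card_stb_dvd3 ha
  have h3 : (orbF K a).card ≤ 22 := by
    rw [← card_Om h.ne]
    exact Finset.card_le_card (h.orbF_subset_Om ha)
  have h4 : Nat.card ↥(stb K a) ∣ 7920 := Dvd.intro_left _ h1
  have h5 : Nat.card ↥(stb K a) ∣ 720 := by
    have := Nat.dvd_gcd h4 h2
    exact this
  obtain ⟨m, hm⟩ := h5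
  generalize Nat.card ↥(stb K a) = s at *
  generalize (orbF K a).card = o at *
  have hs : 0 < s := by
    rcases Nat.eq_zero_or_pos s with h0 | h0
    · rw [h0] at hm
      omega
    · exact h0
  have ho : o = 11 * m := by
    have : o * s = (11 * m) * s := by
      rw [h1]
      calc 7920 = 11 * 720 := by norm_num
        _ = 11 * (s * m) := by rw [hm]
        _ = 11 * m * s := by ring
    exact Nat.eq_of_mul_eq_mul_right hs this
  have hm2 : m = 1 ∨ m = 2 := by
    have : m ≠ 0 := by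
      rintro rfl
      omega
    omega
  rcases hm2 with rfl | rfl
  · right
    constructor <;> omega
  · left
    constructor <;> omega

theorem orbF_disjoint {K : Subgroup (Equiv.Perm GolayPt)} {a c : GolayPt} (hc : c ∉ orbF K a) :
    Disjoint (orbF K c) (orbF K a) := by
  rw [Finset.disjoint_left]
  intro x hx1 hx2
  apply hc
  rw [← orbF_eq_of_mem hx2, orbF_eq_of_mem hx1]
  exact self_mem_orbF K c

/-- a `3`-subgroup of order 9 of a point stabiliser fixes no further point. -/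
theorem Fix2.no_fix_of_card_nine (h : Fix2 p q K) {a x : GolayPt} (ha : a ∈ Om p q)
    (hx : x ∈ Om p q) (hax : a ≠ x) {T : Subgroup (Equiv.Perm GolayPt)} (hT : T ≤ stb K a)
    (hT9 : Nat.card ↥T = 9) : x ∉ fixF T := by
  intro hfix
  rw [mem_fixF] at hfix
  have hle : T ≤ stb (stb K a) x := by
    intro t ht
    rw [mem_stb]
    exact ⟨hT ht, hfix t ht⟩
  have h1 := Subgroup.card_dvd_of_le hle
  rw [hT9] at h1
  have h2 := h.card_stb_dvd4 ha hx hax
  have := h1.trans h2
  omega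

theorem Fix2.card_stb_eq_360 (h : Fix2 p q K) (hcard : Nat.card ↥K = 7920) {a : GolayPt}
    (ha : a ∈ Om p q) : Nat.card ↥(stb K a) = 360 ∧ (orbF K a).card = 22 := by
  rcases h.card_stb_cases hcard ha with h1 | ⟨h1, h2⟩
  · exact h1
  exfalso
  have hlt : (orbF K a).card < (Om p q).card := by
    rw [h2, card_Om h.ne]
    norm_num
  obtain ⟨c, hc, hca⟩ := Finset.exists_mem_notMem_of_card_lt_card hlt
  have hdis := orbF_disjoint hca
  have hsub : orbF K c ∪ orbF K a ⊆ Om p q :=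
    Finset.union_subset (h.orbF_subset_Om hc) (h.orbF_subset_Om ha)
  have hle := Finset.card_le_card hsub
  rw [Finset.card_union_of_disjoint hdis, h2, card_Om h.ne] at hle
  have hS : (orbF K c).card = 11 := by
    rcases h.card_stb_cases hcard hc with ⟨_, h4⟩ | ⟨_, h4⟩
    · omega
    · exact h4
  have : Fact (Nat.Prime 3) := ⟨by norm_num⟩
  obtain ⟨T, hT, hT9, hTp⟩ := exists_pSubgroup_le (stb K a) 3 2 (by rw [h1]; norm_num)
  have hinv : ∀ t ∈ T, ∀ x ∈ orbF K c, t x ∈ orbF K c := fun t ht x hx =>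
    smul_mem_orbF (stb_le K a (hT ht)) hx
  have hmod := card_modEq_card_inter_fixF T hTp (orbF K c) hinv
  have hempty : orbF K c ∩ fixF T = ∅ := by
    rw [Finset.eq_empty_iff_forall_notMem]
    intro x hx
    rw [Finset.mem_inter] at hx
    have hxO : x ∈ Om p q := h.orbF_subset_Om hc hx.1
    have hax : a ≠ x := by
      rintro rfl
      exact (Finset.disjoint_left.1 hdis hx.1) (self_mem_orbF K a)
    exact h.no_fix_of_card_nine ha hxO hax hT (by rw [hT9]; norm_num) hx.2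
  rw [hempty, hS, Finset.card_empty] at hmod
  exact absurd hmod (by decide)

/-! ### elements of order five -/

theorem Fix2.exists_five (h : Fix2 p q K) {a : GolayPt} (ha : a ∈ Om p q)
    (h5 : 5 ∣ Nat.card ↥(stb K a)) :
    ∃ f ∈ stb K a, orderOf f = 5 ∧ ∃ a' ∈ Om p q, a' ≠ a ∧ f a' = a' ∧
      ∀ y ∈ Om p q, f y = y → y = a ∨ y = a' := by
  have : Fact (Nat.Prime 5) := ⟨by norm_num⟩
  obtain ⟨f, hf, hord⟩ := exists_mem_orderOf_eq_prime (stb K a) 5 h5
  have hfK : f ∈ K := stb_le K a hf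
  have hfM : f ∈ M24 := h.le hfK
  have hfa : f a = a := ((mem_stb K a f).1 hf).2
  have ha' := (mem_Om p q a).1 ha
  refine ⟨f, hf, hord, ?_⟩
  -- existence of a further fixed point
  have hex : ∃ a' ∈ Om p q, a' ≠ a ∧ f a' = a' := by
    by_contra hcon
    push Not at hcon
    have hfix : fixP f = {p, q, a} := by
      ext x
      rw [mem_fixP]
      simp only [Finset.mem_insert, Finset.mem_singleton]
      constructor
      · intro hx
        by_contra hne
        push Not at hne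
        exact hcon x ((mem_Om p q x).2 ⟨hne.1, hne.2.1⟩) hne.2.2 hx
      · rintro (rfl | rfl | rfl)
        · exact h.fp f hfK
        · exact h.fq f hfK
        · exact hfa
    have hc3 : (fixP f).card = 3 := by
      rw [hfix, Finset.card_insert_of_notMem, Finset.card_pair ha'.2.symm]
      simp only [Finset.mem_insert, Finset.mem_singleton, not_or]
      exact ⟨h.ne, ha'.1.symm⟩
    have hmod := card_modEq_card_inter_fixF (Subgroup.zpowers f) (isPGroup_zpowers hord)
      Finset.univ (fun _ _ _ _ => Finset.mem_univ _)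
    rw [Finset.univ_inter, fixF_zpowers, hc3, Finset.card_univ, card_golayPt'] at hmod
    exact absurd hmod (by decide)
  obtain ⟨a', ha'O, ha'a, hfa'⟩ := hex
  refine ⟨a', ha'O, ha'a, hfa', ?_⟩
  intro y hy hfy
  by_contra hne
  push Not at hne
  have ha'2 := (mem_Om p q a').1 ha'O
  have hy2 := (mem_Om p q y).1 hy
  have hnd : [p, q, a, a', y].Nodup := by
    simp only [List.nodup_cons, List.mem_cons, List.not_mem_nil, or_false, not_or,
      not_false_eq_true, List.nodup_nil, and_true]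
    exact ⟨⟨h.ne, ha'.1.symm, ha'2.1.symm, hy2.1.symm⟩, ⟨ha'.2.symm, ha'2.2.symm, hy2.2.symm⟩,
      ⟨ha'a.symm, hne.1.symm⟩, hne.2.symm⟩
  have hdvd := orderOf_dvd_of_fix5 hfM [p, q, a, a', y] rfl hnd (by
    intro x hx
    simp only [List.mem_cons, List.not_mem_nil, or_false] at hx
    rcases hx with rfl | rfl | rfl | rfl | rfl
    · exact h.fp f hfK
    · exact h.fq f hfK
    · exact hfa
    · exact hfa'
    · exact hfy)
  rw [hord] at hdvd
  omega

/-! ### orbits of a point stabiliser of order 360 -/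

theorem Fix2.orbit_sizes (h : Fix2 p q K) {a : GolayPt} (ha : a ∈ Om p q)
    (h360 : Nat.card ↥(stb K a) = 360) {f : Equiv.Perm GolayPt} (hf : f ∈ stb K a)
    (hord : orderOf f = 5) {a' : GolayPt} (hfa' : f a' = a')
    (huniq : ∀ y ∈ Om p q, f y = y → y = a ∨ y = a') {b : GolayPt} (hb : b ∈ Om p q)
    (hab : a ≠ b) :
    (a' ∈ orbF (stb K a) b ∧ (orbF (stb K a) b).card = 6 ∧
        Nat.card ↥(stb (stb K a) b) = 60) ∨
      (a' ∉ orbF (stb K a) b ∧ (orbF (stb K a) b).card = 15 ∧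
        Nat.card ↥(stb (stb K a) b) = 24) := by
  have : Fact (Nat.Prime 5) := ⟨by norm_num⟩
  have h1 := card_orbF_mul (stb K a) b
  rw [h360] at h1
  have h2 := h.card_stb_dvd4 ha hb hab
  have hsubO : orbF (stb K a) b ⊆ Om p q := (h.mono (stb_le K a)).orbF_subset_Om hb
  have hna : a ∉ orbF (stb K a) b := not_mem_orbF_stb hab
  have h3 : (orbF (stb K a) b).card ≤ 21 := by
    have hsub : orbF (stb K a) b ⊆ (Om p q).erase a := by
      intro x hx
      rw [Finset.mem_erase]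
      exact ⟨fun hxa => hna (hxa ▸ hx), hsubO hx⟩
    have := Finset.card_le_card hsub
    rw [Finset.card_erase_of_mem ha, card_Om h.ne] at this
    exact this
  have hpos : 0 < (orbF (stb K a) b).card := Finset.card_pos.2 ⟨b, self_mem_orbF _ b⟩
  -- fixed points of `f` in the orbit
  have hinv : ∀ t ∈ Subgroup.zpowers f, ∀ x ∈ orbF (stb K a) b, t x ∈ orbF (stb K a) b := by
    intro t ht x hx
    apply smul_mem_orbF _ hx
    exact (Subgroup.zpowers_le.2 hf) ht
  have hmod := card_modEq_card_inter_fixF (Subgroup.zpowers f) (isPGroup_zpowers hord)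
    (orbF (stb K a) b) hinv
  rw [fixF_zpowers] at hmod
  have hfixsub : orbF (stb K a) b ∩ fixP f ⊆ {a'} := by
    intro x hx
    rw [Finset.mem_inter, mem_fixP] at hx
    rw [Finset.mem_singleton]
    rcases huniq x (hsubO hx.1) hx.2 with rfl | rfl
    · exact absurd hx.1 hna
    · rfl
  have h4 : Nat.card ↥(stb (stb K a) b) ∣ 360 := Dvd.intro_left _ h1
  have h5 : Nat.card ↥(stb (stb K a) b) ∣ 120 := Nat.dvd_gcd h4 h2
  obtain ⟨j, hj⟩ := h5
  have hkpos : 0 < Nat.card ↥(stb (stb K a) b) := by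
    rcases Nat.eq_zero_or_pos (Nat.card ↥(stb (stb K a) b)) with h0 | h0
    · rw [h0] at hj
      omega
    · exact h0
  have hs3 : (orbF (stb K a) b).card = 3 * j := by
    have : (orbF (stb K a) b).card * Nat.card ↥(stb (stb K a) b) =
        (3 * j) * Nat.card ↥(stb (stb K a) b) := by
      rw [h1]
      calc 360 = 3 * 120 := by norm_num
        _ = 3 * (Nat.card ↥(stb (stb K a) b) * j) := by rw [hj]
        _ = 3 * j * Nat.card ↥(stb (stb K a) b) := by ring
    exact Nat.eq_of_mul_eq_mul_right hkpos this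
  by_cases hmem : a' ∈ orbF (stb K a) b
  · left
    have hfix1 : orbF (stb K a) b ∩ fixP f = {a'} := by
      apply Finset.Subset.antisymm hfixsub
      intro x hx
      rw [Finset.mem_singleton] at hx
      subst hx
      rw [Finset.mem_inter, mem_fixP]
      exact ⟨hmem, hfa'⟩
    rw [hfix1, Finset.card_singleton] at hmod
    have hmod' : (orbF (stb K a) b).card % 5 = 1 := hmod
    generalize Nat.card ↥(stb (stb K a) b) = k at *
    generalize (orbF (stb K a) b).card = s at *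
    have hj7 : j ≤ 7 := by omega
    have hj2 : j = 2 := by
      interval_cases j <;> omega
    subst hj2
    refine ⟨hmem, by omega, by omega⟩
  · right
    have hfix0 : orbF (stb K a) b ∩ fixP f = ∅ := by
      rw [Finset.eq_empty_iff_forall_notMem]
      intro x hx
      have := hfixsub hx
      rw [Finset.mem_singleton] at this
      subst this
      exact hmem (Finset.mem_inter.1 hx).1
    rw [hfix0, Finset.card_empty] at hmod
    have hmod' : (orbF (stb K a) b).card % 5 = 0 := hmod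
    generalize Nat.card ↥(stb (stb K a) b) = k at *
    generalize (orbF (stb K a) b).card = s at *
    have hj7 : j ≤ 7 := by omega
    have hj5 : j = 5 := by
      interval_cases j <;> omega
    subst hj5
    refine ⟨hmem, by omega, by omega⟩

/-- adjacency of two points: the joint stabiliser has order 60. -/
def Adj (K : Subgroup (Equiv.Perm GolayPt)) (a b : GolayPt) : Prop :=
  a ≠ b ∧ Nat.card ↥(stb (stb K a) b) = 60

theorem Fix2.rank3_data (h : Fix2 p q K) (hcard : Nat.card ↥K = 7920) {a : GolayPt}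
    (ha : a ∈ Om p q) :
    ∃ D : Finset GolayPt, D ⊆ Om p q ∧ a ∉ D ∧ D.card = 6 ∧
      (∀ b ∈ Om p q, (Adj K a b ↔ b ∈ D)) ∧
      (∀ b ∈ D, ∀ b' ∈ D, ∃ k ∈ stb K a, k b = b') ∧
      (∀ c ∈ Om p q, c ≠ a → c ∉ D → ∀ c' ∈ Om p q, c' ≠ a → c' ∉ D →
        ∃ k ∈ stb K a, k c = c') := by
  have h360 := (h.card_stb_eq_360 hcard ha).1
  obtain ⟨f, hf, hord, a', ha'O, ha'a, hfa', huniq⟩ :=
    h.exists_five ha (by rw [h360]; norm_num)
  have hsz := fun {b : GolayPt} (hb : b ∈ Om p q) (hab : a ≠ b) =>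
    h.orbit_sizes ha h360 hf hord hfa' huniq hb hab
  set L := stb K a with hL
  set D := orbF L a' with hD
  have hDO : D ⊆ Om p q := (h.mono (stb_le K a)).orbF_subset_Om ha'O
  have haD : a ∉ D := not_mem_orbF_stb ha'a.symm
  have hD6 : D.card = 6 := by
    rcases hsz ha'O ha'a.symm with ⟨_, h6, _⟩ | ⟨hn, _, _⟩
    · exact h6
    · exact absurd (self_mem_orbF L a') hn
  have hiff : ∀ b, a' ∈ orbF L b ↔ b ∈ D := by
    intro b
    constructor
    · intro hb
      exact mem_orbF_symm hb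
    · intro hb
      exact mem_orbF_symm hb
  refine ⟨D, hDO, haD, hD6, ?_, ?_, ?_⟩
  · intro b hb
    constructor
    · rintro ⟨hab, h60⟩
      rcases hsz hb hab with ⟨hm, _, _⟩ | ⟨_, _, h24⟩
      · exact (hiff b).1 hm
      · rw [h24] at h60
        omega
    · intro hbD
      have hab : a ≠ b := by
        rintro rfl
        exact haD hbD
      rcases hsz hb hab with ⟨_, _, h60⟩ | ⟨hn, _, _⟩
      · exact ⟨hab, h60⟩
      · exact absurd ((hiff b).2 hbD) hn
  · intro b hb b' hb'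
    have : b' ∈ orbF L b := by
      rw [orbF_eq_of_mem hb]
      exact hb'
    obtain ⟨k, hk, hkb⟩ := (mem_orbF L b b').1 this
    exact ⟨k, hk, hkb⟩
  · intro c hc hca hcD c' hc' hc'a hc'D
    have hS15 : (orbF L c).card = 15 := by
      rcases hsz hc hca.symm with ⟨hm, _, _⟩ | ⟨_, h15, _⟩
      · exact absurd ((hiff c).1 hm) hcD
      · exact h15
    have hsub : orbF L c ⊆ ((Om p q).erase a) \ D := by
      intro x hx
      rw [Finset.mem_sdiff, Finset.mem_erase]
      refine ⟨⟨?_, (h.mono (stb_le K a)).orbF_subset_Om hc hx⟩, ?_⟩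
      · rintro rfl
        exact not_mem_orbF_stb hca.symm hx
      · intro hxD
        apply hcD
        have h1 : orbF L x = orbF L c := orbF_eq_of_mem hx
        have h2 : orbF L x = D := orbF_eq_of_mem hxD
        rw [← h2, h1]
        exact self_mem_orbF L c
    have hcardG : (((Om p q).erase a) \ D).card = 15 := by
      rw [Finset.card_sdiff_of_subset, Finset.card_erase_of_mem ha, card_Om h.ne, hD6]
      intro x hx
      rw [Finset.mem_erase]
      exact ⟨fun hxa => haD (hxa ▸ hx), hDO hx⟩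
    have heq : orbF L c = ((Om p q).erase a) \ D :=
      Finset.eq_of_subset_of_card_le hsub (by rw [hcardG, hS15])
    have hc'mem : c' ∈ orbF L c := by
      rw [heq, Finset.mem_sdiff, Finset.mem_erase]
      exact ⟨⟨hc'a, hc'⟩, hc'D⟩
    obtain ⟨k, hk, hkc⟩ := (mem_orbF L c c').1 hc'mem
    exact ⟨k, hk, hkc⟩

theorem Adj.symm' {K : Subgroup (Equiv.Perm GolayPt)} {a b : GolayPt} (hab : Adj K a b) :
    Adj K b a := by
  refine ⟨hab.1.symm, ?_⟩
  have : stb (stb K b) a = stb (stb K a) b := by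
    show K ⊓ _ ⊓ _ = K ⊓ _ ⊓ _
    rw [inf_right_comm]
  rw [this]
  exact hab.2

theorem adj_smul_iff {K : Subgroup (Equiv.Perm GolayPt)} {k : Equiv.Perm GolayPt} (hk : k ∈ K)
    (a b : GolayPt) : Adj K (k a) (k b) ↔ Adj K a b := by
  have hc := card_inf_stabilizer_smul₂ K hk a b
  rw [Equiv.Perm.smul_def, Equiv.Perm.smul_def] at hc
  constructor
  · rintro ⟨h1, h2⟩
    refine ⟨fun hab => h1 (by rw [hab]), ?_⟩
    rw [← hc]
    exact h2
  · rintro ⟨h1, h2⟩
    refine ⟨fun hab => h1 (k.injective hab), ?_⟩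
    show Nat.card ↥(K ⊓ _ ⊓ _) = 60
    rw [hc]
    exact h2

theorem Fix2.smul_mem_Om_iff (h : Fix2 p q K) {k : Equiv.Perm GolayPt} (hk : k ∈ K)
    (x : GolayPt) : k x ∈ Om p q ↔ x ∈ Om p q := by
  rw [mem_Om, mem_Om]
  have hp := h.fp k hk
  have hq := h.fq k hk
  constructor
  · rintro ⟨h1, h2⟩
    exact ⟨fun hx => h1 (by rw [hx, hp]), fun hx => h2 (by rw [hx, hq])⟩
  · rintro ⟨h1, h2⟩
    exact ⟨fun hx => h1 (k.injective (hx.trans hp.symm)),
      fun hx => h2 (k.injective (hx.trans hq.symm))⟩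

/-- there is no subgroup of order 7920 fixing two points. -/
theorem Fix2.card_ne_7920 (h : Fix2 p q K) : Nat.card ↥K ≠ 7920 := by
  classical
  intro hcard
  have hV : Fintype.card {x // x ∈ Om p q} = 22 := by
    rw [Fintype.card_coe, card_Om h.ne]
  let R : {x // x ∈ Om p q} → {x // x ∈ Om p q} → Prop := fun a b => Adj K a.1 b.1
  have hsymm : ∀ a b, R a b → R b a := fun a b hab => Adj.symm' hab
  have hirr : ∀ a, ¬ R a a := fun a ha => ha.1 rfl
  have hdeg : ∀ a, (Finset.univ.filter (R a)).card = 6 := by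
    intro a
    obtain ⟨D, hDO, -, hD6, hAdj, -, -⟩ := h.rank3_data hcard a.2
    rw [← hD6]
    apply Finset.card_bij (fun x _ => x.1)
    · intro x hx
      rw [Finset.mem_filter] at hx
      exact (hAdj x.1 x.2).1 hx.2
    · intro x _ y _ hxy
      exact Subtype.ext hxy
    · intro b hb
      refine ⟨⟨b, hDO hb⟩, ?_, rfl⟩
      rw [Finset.mem_filter]
      exact ⟨Finset.mem_univ _, (hAdj b (hDO hb)).2 hb⟩
  -- the action on the 22 points
  let kV : ∀ k ∈ K, Equiv.Perm {x // x ∈ Om p q} := fun k hk =>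
    k.subtypePerm (h.smul_mem_Om_iff hk)
  have hkV : ∀ k (hk : k ∈ K) (x : {x // x ∈ Om p q}), (kV k hk x).1 = k x.1 := fun _ _ _ => rfl
  have hRinv : ∀ k (hk : k ∈ K) (a b : {x // x ∈ Om p q}),
      R (kV k hk a) (kV k hk b) ↔ R a b := fun k hk a b => adj_smul_iff hk a.1 b.1
  have hcn : ∀ k (hk : k ∈ K) (a b : {x // x ∈ Om p q}),
      (Finset.univ.filter fun x => R (kV k hk a) x ∧ R (kV k hk b) x).card =
        (Finset.univ.filter fun x => R a x ∧ R b x).card := by
    intro k hk a b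
    symm
    apply Finset.card_equiv (kV k hk)
    intro x
    simp only [Finset.mem_filter, Finset.mem_univ, true_and]
    rw [hRinv k hk a x, hRinv k hk b x]
  -- transitivity
  have hT1 : ∀ a a' : {x // x ∈ Om p q}, ∃ k ∈ K, k a.1 = a'.1 := by
    intro a a'
    have h22 := (h.card_stb_eq_360 hcard a.2).2
    have heq : orbF K a.1 = Om p q :=
      Finset.eq_of_subset_of_card_le (h.orbF_subset_Om a.2) (by rw [h22, card_Om h.ne])
    have : a'.1 ∈ orbF K a.1 := by
      rw [heq]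
      exact a'.2
    exact (mem_orbF K a.1 a'.1).1 this
  have hT2 : ∀ a b a' b' : {x // x ∈ Om p q}, R a b → R a' b' →
      ∃ k, ∃ hk : k ∈ K, kV k hk a = a' ∧ kV k hk b = b' := by
    intro a b a' b' hab hab'
    obtain ⟨k1, hk1, hka⟩ := hT1 a a'
    obtain ⟨D, hDO, -, -, hAdj, htr, -⟩ := h.rank3_data hcard a'.2
    have h1 : Adj K a'.1 (k1 b.1) := by
      rw [← hka]
      exact (adj_smul_iff hk1 a.1 b.1).2 hab
    have h1D : k1 b.1 ∈ D := (hAdj _ ((h.smul_mem_Om_iff hk1 b.1).2 b.2)).1 h1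
    have h2D : b'.1 ∈ D := (hAdj _ b'.2).1 hab'
    obtain ⟨k2, hk2, hkb⟩ := htr _ h1D _ h2D
    have hk2' := (mem_stb K a'.1 k2).1 hk2
    refine ⟨k2 * k1, K.mul_mem hk2'.1 hk1, ?_, ?_⟩
    · apply Subtype.ext
      show (k2 * k1) a.1 = a'.1
      rw [Equiv.Perm.mul_apply, hka, hk2'.2]
    · apply Subtype.ext
      show (k2 * k1) b.1 = b'.1
      rw [Equiv.Perm.mul_apply, hkb]
  have hT3 : ∀ a b a' b' : {x // x ∈ Om p q}, a ≠ b → ¬ R a b → a' ≠ b' → ¬ R a' b' →
      ∃ k, ∃ hk : k ∈ K, kV k hk a = a' ∧ kV k hk b = b' := by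
    intro a b a' b' hne hab hne' hab'
    obtain ⟨k1, hk1, hka⟩ := hT1 a a'
    obtain ⟨D, hDO, -, -, hAdj, -, htr⟩ := h.rank3_data hcard a'.2
    have hk1b : k1 b.1 ∈ Om p q := (h.smul_mem_Om_iff hk1 b.1).2 b.2
    have h1 : ¬ Adj K a'.1 (k1 b.1) := by
      rw [← hka]
      exact fun hc => hab ((adj_smul_iff hk1 a.1 b.1).1 hc)
    have h1D : k1 b.1 ∉ D := fun hc => h1 ((hAdj _ hk1b).2 hc)
    have h2D : b'.1 ∉ D := fun hc => hab' ((hAdj _ b'.2).2 hc)
    have h1ne : k1 b.1 ≠ a'.1 := by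
      rw [← hka]
      exact fun hc => hne (Subtype.ext (k1.injective hc)).symm
    have h2ne : b'.1 ≠ a'.1 := fun hc => hne' (Subtype.ext hc).symm
    obtain ⟨k2, hk2, hkb⟩ := htr _ hk1b h1ne h1D _ b'.2 h2ne h2D
    have hk2' := (mem_stb K a'.1 k2).1 hk2
    refine ⟨k2 * k1, K.mul_mem hk2'.1 hk1, ?_, ?_⟩
    · apply Subtype.ext
      show (k2 * k1) a.1 = a'.1
      rw [Equiv.Perm.mul_apply, hka, hk2'.2]
    · apply Subtype.ext
      show (k2 * k1) b.1 = b'.1
      rw [Equiv.Perm.mul_apply, hkb]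
  -- a base point, a neighbour and a non-neighbour
  obtain ⟨a0⟩ : Nonempty {x // x ∈ Om p q} := by
    rw [← Fintype.card_pos_iff, hV]
    norm_num
  obtain ⟨D, hDO, haD, hD6, hAdj, -, -⟩ := h.rank3_data hcard a0.2
  obtain ⟨b0, hb0⟩ : D.Nonempty := Finset.card_pos.1 (by rw [hD6]; norm_num)
  have hcardG : (((Om p q).erase a0.1) \ D).card = 15 := by
    rw [Finset.card_sdiff_of_subset, Finset.card_erase_of_mem a0.2, card_Om h.ne, hD6]
    intro x hx
    rw [Finset.mem_erase]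
    exact ⟨fun hxa => haD (hxa ▸ hx), hDO hx⟩
  obtain ⟨c0, hc0⟩ : (((Om p q).erase a0.1) \ D).Nonempty :=
    Finset.card_pos.1 (by rw [hcardG]; norm_num)
  rw [Finset.mem_sdiff, Finset.mem_erase] at hc0
  have hR0 : R a0 ⟨b0, hDO hb0⟩ := (hAdj b0 (hDO hb0)).2 hb0
  have hN0 : ¬ R a0 ⟨c0, hc0.1.2⟩ := fun hc => hc0.2 ((hAdj c0 hc0.1.2).1 hc)
  have hne0 : a0 ≠ ⟨c0, hc0.1.2⟩ := fun hc => hc0.1.1 (congrArg Subtype.val hc).symm
  refine no_srg22 hV R hsymm hirr hdeg
    (Finset.univ.filter fun x => R a0 x ∧ R ⟨b0, hDO hb0⟩ x).card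
    (Finset.univ.filter fun x => R a0 x ∧ R ⟨c0, hc0.1.2⟩ x).card ?_ ?_
  · intro a b hab
    obtain ⟨k, hk, h1, h2⟩ := hT2 a0 ⟨b0, hDO hb0⟩ a b hR0 hab
    rw [← h1, ← h2, hcn k hk]
  · intro a b hne hab
    obtain ⟨k, hk, h1, h2⟩ := hT3 a0 ⟨c0, hc0.1.2⟩ a b hne0 hN0 hne hab
    rw [← h1, ← h2, hcn k hk]

end

end Cfsg.Agent.Lib.Helper7
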