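import Cfsg.Agent.Lib.Helper7.M24Trans
import Cfsg.Agent.Lib.Helper26.Trans5

set_option autoImplicit false

namespace Cfsg.Agent.Lib.Helper7

open Cfsg
open scoped Pointwise

/-! ### pointwise stabilisers of lists of points in the group of the code -/

/-- the pointwise stabiliser in `M24` of a list of points. -/
def fixL : List GolayPt → Subgroup (Equiv.Perm GolayPt)
  | [] => M24
  | x :: l => fixL l ⊓ MulAction.stabilizer (Equiv.Perm GolayPt) x

theorem mem_fixL (l : List GolayPt) (σ : Equiv.Perm GolayPt) :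
    σ ∈ fixL l ↔ σ ∈ M24 ∧ ∀ x ∈ l, σ x = x := by
  induction l with
  | nil => simp [fixL]
  | cons b l ih =>
    simp only [fixL, Subgroup.mem_inf, ih, MulAction.mem_stabilizer_iff, Equiv.Perm.smul_def,
      List.mem_cons, forall_eq_or_imp]
    tauto

theorem fixL_map_pt (l : List ℕ) : fixL (l.map pt) = fixK l := by
  ext σ
  rw [mem_fixL, mem_fixK]
  simp only [List.mem_map, forall_exists_index, and_imp, forall_apply_eq_imp_iff₂]

theorem card_fixL_map {σ : Equiv.Perm GolayPt} (hσ : σ ∈ M24) (l : List GolayPt) :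
    Nat.card ↥(fixL (l.map σ)) = Nat.card ↥(fixL l) := by
  apply Nat.card_congr
  refine Equiv.subtypeEquiv (MulAut.conj σ⁻¹).toEquiv ?_
  intro h
  simp only [mem_fixL, MulEquiv.toEquiv_eq_coe, MulEquiv.coe_toEquiv, MulAut.conj_apply, inv_inv,
    conj_mem_iff M24 hσ, List.mem_map, forall_exists_index, and_imp, forall_apply_eq_imp_iff₂,
    Equiv.Perm.mul_apply]
  constructor
  · rintro ⟨h1, h2⟩
    refine ⟨h1, fun x hx => ?_⟩
    rw [h2 x hx]
    show σ.symm (σ x) = x
    rw [Equiv.symm_apply_apply]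
  · rintro ⟨h1, h2⟩
    refine ⟨h1, fun x hx => ?_⟩
    have := h2 x hx
    have h3 : σ (σ⁻¹ (h (σ x))) = σ x := by rw [this]
    rwa [show σ (σ⁻¹ (h (σ x))) = h (σ x) from Equiv.apply_symm_apply σ _] at h3

theorem card_fixL_of_trans {bs : List ℕ} (hT : Cfsg.Agent.Lib.Helper26.IsTransOn bs)
    (l : List GolayPt) (hlen : l.length = bs.length) (hnd : l.Nodup) :
    Nat.card ↥(fixL l) = Nat.card ↥(fixL (bs.map Cfsg.Agent.Lib.Helper26.pt)) := by
  obtain ⟨g, hg, h⟩ := hT l hlen hnd
  have h' : l = (bs.map Cfsg.Agent.Lib.Helper26.pt).map g := by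
    rw [h, List.map_map]
    rfl
  rw [h', card_fixL_map hg]

theorem card_fixL5 (l : List GolayPt) (hlen : l.length = 5) (hnd : l.Nodup) :
    Nat.card ↥(fixL l) = 48 := by
  rw [card_fixL_of_trans Cfsg.Agent.Lib.Helper26.isTransOn5 l hlen hnd,
    ← card_fixL_of_trans Cfsg.Agent.Lib.Helper26.isTransOn5 ([4, 3, 2, 1, 0].map pt) (by simp)
      (by decide), fixL_map_pt]
  exact card_fixK_5

theorem card_fixL4 (l : List GolayPt) (hlen : l.length = 4) (hnd : l.Nodup) :
    Nat.card ↥(fixL l) = 960 := by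
  rw [card_fixL_of_trans Cfsg.Agent.Lib.Helper26.isTransOn4 l hlen hnd,
    ← card_fixL_of_trans Cfsg.Agent.Lib.Helper26.isTransOn4 ([3, 2, 1, 0].map pt) (by simp)
      (by decide), fixL_map_pt]
  exact card_fixK_4

theorem card_fixL3 (l : List GolayPt) (hlen : l.length = 3) (hnd : l.Nodup) :
    Nat.card ↥(fixL l) = 20160 := by
  rw [card_fixL_of_trans Cfsg.Agent.Lib.Helper26.isTransOn3 l hlen hnd,
    ← card_fixL_of_trans Cfsg.Agent.Lib.Helper26.isTransOn3 ([2, 1, 0].map pt) (by simp)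
      (by decide), fixL_map_pt]
  exact card_fixK_3


/-! ### fixed points of elements whose order does not divide 48 -/

theorem orderOf_dvd_of_fix5 {g : Equiv.Perm GolayPt} (hg : g ∈ M24) (l : List GolayPt)
    (hlen : l.length = 5) (hnd : l.Nodup) (hfix : ∀ x ∈ l, g x = x) : orderOf g ∣ 48 := by
  have hmem : g ∈ fixL l := (mem_fixL l g).2 ⟨hg, hfix⟩
  have := Subgroup.orderOf_dvd_natCard (fixL l) hmem
  rwa [card_fixL5 l hlen hnd] at this

/-- the fixed points of a permutation. -/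
def fixP (g : Equiv.Perm GolayPt) : Finset GolayPt := Finset.univ.filter (fun x => g x = x)

theorem mem_fixP (g : Equiv.Perm GolayPt) (x : GolayPt) : x ∈ fixP g ↔ g x = x := by
  simp [fixP]

theorem card_fixP_le_four {g : Equiv.Perm GolayPt} (hg : g ∈ M24) (ho : ¬ orderOf g ∣ 48) :
    (fixP g).card ≤ 4 := by
  by_contra hcon
  push Not at hcon
  obtain ⟨t, ht, ht5⟩ := Finset.exists_subset_card_eq (show 5 ≤ (fixP g).card by omega)
  apply ho
  apply orderOf_dvd_of_fix5 hg t.toList (by rw [Finset.length_toList, ht5]) t.nodup_toList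
  intro x hx
  rw [Finset.mem_toList] at hx
  exact (mem_fixP g x).1 (ht hx)

/-! ### orbits and stabilisers for subgroups of permutations -/

open Classical in
/-- the orbit of a point under a subgroup of permutations, as a finset. -/
noncomputable def orbF (K : Subgroup (Equiv.Perm GolayPt)) (a : GolayPt) : Finset GolayPt :=
  Finset.univ.filter (fun x => ∃ k ∈ K, k a = x)

theorem mem_orbF (K : Subgroup (Equiv.Perm GolayPt)) (a x : GolayPt) :
    x ∈ orbF K a ↔ ∃ k ∈ K, k a = x := by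
  classical
  simp [orbF]

/-- the stabiliser of a point inside a subgroup of permutations. -/
abbrev stb (K : Subgroup (Equiv.Perm GolayPt)) (a : GolayPt) : Subgroup (Equiv.Perm GolayPt) :=
  K ⊓ MulAction.stabilizer (Equiv.Perm GolayPt) a

theorem mem_stb (K : Subgroup (Equiv.Perm GolayPt)) (a : GolayPt) (σ : Equiv.Perm GolayPt) :
    σ ∈ stb K a ↔ σ ∈ K ∧ σ a = a := by
  simp [stb, Subgroup.mem_inf, MulAction.mem_stabilizer_iff]

theorem card_stabilizer_subgroup₁ (K : Subgroup (Equiv.Perm GolayPt)) (a : GolayPt) :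
    Nat.card ↥(MulAction.stabilizer K a) = Nat.card ↥(stb K a) := by
  apply Nat.card_congr
  refine ⟨fun g => ⟨g.1.1, ⟨g.1.2, ?_⟩⟩, fun g => ⟨⟨g.1, g.2.1⟩, ?_⟩, fun g => rfl, fun g => rfl⟩
  · have h : g.1 ∈ MulAction.stabilizer K a := g.2
    rw [MulAction.mem_stabilizer_iff] at h
    show g.1.1 ∈ MulAction.stabilizer (Equiv.Perm GolayPt) a
    rw [MulAction.mem_stabilizer_iff]
    exact h
  · have h : g.1 ∈ MulAction.stabilizer (Equiv.Perm GolayPt) a := g.2.2
    rw [MulAction.mem_stabilizer_iff] at h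
    show (⟨g.1, g.2.1⟩ : K) ∈ MulAction.stabilizer K a
    rw [MulAction.mem_stabilizer_iff]
    exact h

theorem card_orbF_mul (K : Subgroup (Equiv.Perm GolayPt)) (a : GolayPt) :
    (orbF K a).card * Nat.card ↥(stb K a) = Nat.card ↥K := by
  have h1 : (MulAction.stabilizer ↥K a).index = (MulAction.orbit ↥K a).ncard :=
    MulAction.index_stabilizer ↥K a
  have h2 := Subgroup.card_mul_index (MulAction.stabilizer ↥K a)
  have h4 : (MulAction.orbit ↥K a) = ↑(orbF K a) := by
    ext x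
    rw [MulAction.mem_orbit_iff, Finset.mem_coe, mem_orbF]
    constructor
    · rintro ⟨k, hk⟩
      exact ⟨k.1, k.2, hk⟩
    · rintro ⟨k, hk, h⟩
      exact ⟨⟨k, hk⟩, h⟩
  rw [← h2, h1, h4, Set.ncard_coe_finset, card_stabilizer_subgroup₁, mul_comm]

/-! ### fixed points of `p`-groups on invariant sets -/

open Classical in
/-- the points fixed by all elements of a subgroup. -/
noncomputable def fixF (T : Subgroup (Equiv.Perm GolayPt)) : Finset GolayPt :=
  Finset.univ.filter (fun x => ∀ t ∈ T, t x = x)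

theorem mem_fixF (T : Subgroup (Equiv.Perm GolayPt)) (x : GolayPt) :
    x ∈ fixF T ↔ ∀ t ∈ T, t x = x := by
  classical
  simp [fixF]

theorem card_modEq_card_inter_fixF {p : ℕ} [Fact p.Prime] (T : Subgroup (Equiv.Perm GolayPt))
    (hT : IsPGroup p T) (S : Finset GolayPt) (hS : ∀ t ∈ T, ∀ x ∈ S, t x ∈ S) :
    S.card ≡ (S ∩ fixF T).card [MOD p] := by
  classical
  let A : SubMulAction T GolayPt :=
    { carrier := ↑S
      smul_mem' := fun t x hx => hS t.1 t.2 x hx }
  have h := hT.card_modEq_card_fixedPoints A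
  have e1 : Nat.card A = S.card := by
    rw [← Fintype.card_coe S, ← Nat.card_eq_fintype_card]
    exact Nat.card_congr (Equiv.refl _)
  have e2 : Nat.card (MulAction.fixedPoints T A) = (S ∩ fixF T).card := by
    rw [← Fintype.card_coe (S ∩ fixF T), ← Nat.card_eq_fintype_card]
    apply Nat.card_congr
    refine ⟨fun x => ⟨x.1.1, ?_⟩, fun x => ⟨⟨x.1, ?_⟩, ?_⟩, fun x => rfl, fun x => rfl⟩
    · rw [Finset.mem_inter, mem_fixF]
      refine ⟨x.1.2, fun t ht => ?_⟩
      have := x.2 ⟨t, ht⟩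
      exact congrArg Subtype.val this
    · exact (Finset.mem_inter.1 x.2).1
    · intro t
      apply Subtype.ext
      exact (mem_fixF T x.1).1 (Finset.mem_inter.1 x.2).2 t.1 t.2
  rwa [e1, e2] at h

theorem fixF_zpowers (g : Equiv.Perm GolayPt) : fixF (Subgroup.zpowers g) = fixP g := by
  ext x
  rw [mem_fixF, mem_fixP]
  constructor
  · intro h
    exact h g (Subgroup.mem_zpowers g)
  · intro h t ht
    obtain ⟨n, rfl⟩ := Subgroup.mem_zpowers_iff.1 ht
    exact Equiv.Perm.zpow_apply_eq_self_of_apply_eq_self h n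


/-! ### Sylow-type helpers for subgroups of permutations -/

theorem exists_pSubgroup_le (L : Subgroup (Equiv.Perm GolayPt)) (p n : ℕ) [Fact p.Prime]
    (h : p ^ n ∣ Nat.card ↥L) :
    ∃ T : Subgroup (Equiv.Perm GolayPt), T ≤ L ∧ Nat.card ↥T = p ^ n ∧ IsPGroup p ↥T := by
  obtain ⟨T', hT'⟩ := Sylow.exists_subgroup_card_pow_prime p h
  refine ⟨T'.map L.subtype, Subgroup.map_subtype_le T', ?_, ?_⟩
  · rw [Subgroup.card_subtype, hT']
  · apply IsPGroup.of_card (n := n)
    rw [Subgroup.card_subtype, hT']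

theorem exists_mem_orderOf_eq_prime (L : Subgroup (Equiv.Perm GolayPt)) (p : ℕ) [Fact p.Prime]
    (h : p ∣ Nat.card ↥L) : ∃ f ∈ L, orderOf f = p := by
  obtain ⟨f, hf⟩ := exists_prime_orderOf_dvd_card' p h
  exact ⟨f.1, f.2, by rw [← hf, Subgroup.orderOf_coe]⟩

theorem isPGroup_zpowers {g : Equiv.Perm GolayPt} {p : ℕ} [Fact p.Prime] (hg : orderOf g = p) :
    IsPGroup p ↥(Subgroup.zpowers g) := by
  apply IsPGroup.of_card (n := 1)
  rw [Nat.card_zpowers, hg, pow_one]

end Cfsg.Agent.Lib.Helper7
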