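import Cfsg.Agent.Lib.Helper7.M23Tools

set_option autoImplicit false

namespace Cfsg.Agent.Lib.Helper7

open Cfsg
open scoped Pointwise

/-! ### general steps -/

theorem card_inter_fixP_add_le {S : Finset GolayPt} {g : Equiv.Perm GolayPt} (l : List GolayPt)
    (hnd : l.Nodup) (hl : ∀ y ∈ l, g y = y ∧ y ∉ S) :
    (S ∩ fixP g).card + l.length ≤ (fixP g).card := by
  rw [← List.toFinset_card_of_nodup hnd, ← Finset.card_union_of_disjoint]
  · apply Finset.card_le_card
    intro y hy
    rw [Finset.mem_union] at hy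
    rcases hy with hy | hy
    · exact (Finset.mem_inter.1 hy).2
    · exact (mem_fixP g y).2 (hl y (List.mem_toFinset.1 hy)).1
  · rw [Finset.disjoint_left]
    intro y hy1 hy2
    exact (hl y (List.mem_toFinset.1 hy2)).2 (Finset.mem_inter.1 hy1).1

theorem orbit_mod_of_fix_le_one {L : Subgroup (Equiv.Perm GolayPt)} {S : Finset GolayPt}
    (hS : Inv L S) {a : GolayPt} (ha : a ∈ S) {g : Equiv.Perm GolayPt} (hg : g ∈ L) {p : ℕ}
    [Fact p.Prime] (hord : orderOf g = p) (hfix : (S ∩ fixP g).card ≤ 1) :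
    (orbF L a).card % p = 0 ∨ (orbF L a).card % p = 1 % p := by
  have hsub := hS.orbF_subset ha
  have hmod : (orbF L a).card % p = (orbF L a ∩ fixP g).card % p :=
    (inv_orbF L a).card_modEq hg hord
  have hle : (orbF L a ∩ fixP g).card ≤ 1 :=
    (Finset.card_le_card (Finset.inter_subset_inter_right hsub)).trans hfix
  rw [hmod]
  have : (orbF L a ∩ fixP g).card = 0 ∨ (orbF L a ∩ fixP g).card = 1 := by omega
  rcases this with h0 | h1
  · left
    rw [h0]
    simp
  · right
    rw [h1]

theorem orbF_card_le {L : Subgroup (Equiv.Perm GolayPt)} {S : Finset GolayPt} (hS : Inv L S)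
    {a : GolayPt} (ha : a ∈ S) : (orbF L a).card ≤ S.card :=
  Finset.card_le_card (hS.orbF_subset ha)

theorem orbF_card_pos (L : Subgroup (Equiv.Perm GolayPt)) (a : GolayPt) :
    0 < (orbF L a).card := Finset.card_pos.2 ⟨a, self_mem_orbF L a⟩


/-- a sharper form: the residue is the number of fixed points in the orbit. -/
theorem orbit_mod_le {L : Subgroup (Equiv.Perm GolayPt)} {S : Finset GolayPt}
    (hS : Inv L S) {a : GolayPt} (ha : a ∈ S) {g : Equiv.Perm GolayPt} (hg : g ∈ L) {p : ℕ}
    [Fact p.Prime] (hord : orderOf g = p) :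
    ∃ k ≤ (S ∩ fixP g).card, (orbF L a).card % p = k % p :=
  ⟨(orbF L a ∩ fixP g).card,
    Finset.card_le_card (Finset.inter_subset_inter_right (hS.orbF_subset ha)),
    (inv_orbF L a).card_modEq hg hord⟩

/-- from `s * n = T` recover `n = T / s`. -/
theorem div_of_mul_eq {s n T : ℕ} (h : s * n = T) (hs : 0 < s) : n = T / s ∧ T % s = 0 := by
  subst h
  exact ⟨(Nat.mul_div_cancel_left n hs).symm, Nat.mul_mod_right s n⟩

theorem Fix1.not_mem_orbF (x : GolayPt) {K : Subgroup (Equiv.Perm GolayPt)} (h : Fix1 x K)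
    {b : GolayPt} (hbx : b ≠ x) : x ∉ orbF K b := by
  intro hx
  obtain ⟨σ, hσ, hσb⟩ := (mem_orbF K b x).1 hx
  exact hbx (σ.injective (hσb.trans (h.fx σ hσ).symm))

theorem card_sdiff_toFinset {S : Finset GolayPt} (l : List GolayPt) (hnd : l.Nodup)
    (hl : ∀ y ∈ l, y ∈ S) : (S \ l.toFinset).card = S.card - l.length := by
  rw [Finset.card_sdiff_of_subset, List.toFinset_card_of_nodup hnd]
  intro y hy
  exact hl y (List.mem_toFinset.1 hy)

/-- there is no orbit of length 8. -/
theorem Fix1.no_orbit_eight {x : GolayPt} {K : Subgroup (Equiv.Perm GolayPt)} (h : Fix1 x K)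
    (hcard : Nat.card ↥K = 40320) {b : GolayPt} (hbx : b ≠ x) (hO : (orbF K b).card = 8) :
    False := by
  have : Fact (Nat.Prime 7) := ⟨by norm_num⟩
  have : Fact (Nat.Prime 5) := ⟨by norm_num⟩
  have hxO : x ∉ orbF K b := h.not_mem_orbF x hbx
  have hInv : Inv K (orbF K b) := inv_orbF K b
  have hbO : b ∈ orbF K b := self_mem_orbF K b
  -- level 1
  have h1 : Nat.card ↥(stbL K [b]) = 5040 := by
    have := card_orbF_stbL K [] b
    rw [show stbL K [] = K from rfl, hO, hcard] at this
    omega
  have hS1 := inv_stbL_eraseList hInv [b]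
  have hS1c : (orbF K b \ [b].toFinset).card = 7 := by
    rw [card_sdiff_toFinset [b] (by simp) (by simpa using hbO), hO]
    rfl
  obtain ⟨f, hf, hford⟩ := exists_mem_orderOf_eq_prime (stbL K [b]) 7 (by rw [h1]; norm_num)
  have hf' := (mem_stbL K [b] f).1 hf
  have hfM : f ∈ M24 := h.le hf'.1
  have hfix1 : (orbF K b \ [b].toFinset ∩ fixP f).card = 0 := by
    have hmod : (orbF K b \ [b].toFinset).card % 7 = (orbF K b \ [b].toFinset ∩ fixP f).card % 7 :=
      hS1.card_modEq hf hford
    have hle := card_inter_fixP_add_le (S := orbF K b \ [b].toFinset) (g := f) [x, b]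
      (by simp [hbx.symm]) (by
        intro y hy
        simp only [List.mem_cons, List.not_mem_nil, or_false] at hy
        rcases hy with rfl | rfl
        · exact ⟨h.fx f hf'.1, fun hc => hxO (Finset.mem_sdiff.1 hc).1⟩
        · exact ⟨hf'.2 y (by simp), fun hc => (Finset.mem_sdiff.1 hc).2 (by simp)⟩)
    rw [card_fixP_seven hfM hford] at hle
    rw [hS1c] at hmod
    simp only [List.length_cons, List.length_nil] at hle
    omega
  have key1 : ∀ c ∈ orbF K b \ [b].toFinset, Nat.card ↥(stbL K [c, b]) = 720 := by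
    intro c hc
    obtain ⟨k, hk, hmod⟩ := orbit_mod_le hS1 hc hf hford
    rw [hfix1] at hk
    have hle := orbF_card_le hS1 hc
    rw [hS1c] at hle
    have hpos := orbF_card_pos (stbL K [b]) c
    have hmul := card_orbF_stbL K [b] c
    rw [h1] at hmul
    have h7 : (orbF (stbL K [b]) c).card = 7 := by omega
    rw [h7] at hmul
    omega
  -- level 2
  have key2 : ∀ c ∈ orbF K b \ [b].toFinset, ∀ d ∈ orbF K b \ [c, b].toFinset,
      Nat.card ↥(stbL K [d, c, b]) = 120 := by
    intro c hc d hd
    have hc' := Finset.mem_sdiff.1 hc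
    have hcb : c ≠ b := fun hcb => hc'.2 (by simp [hcb])
    have hcx : c ≠ x := fun hcx => hxO (hcx ▸ hc'.1)
    have hd' := Finset.mem_sdiff.1 hd
    have hdx : d ≠ x := fun hdx => hxO (hdx ▸ hd'.1)
    have hdc : d ≠ c := fun hdc => hd'.2 (by simp [hdc])
    have hdb : d ≠ b := fun hdb => hd'.2 (by simp [hdb])
    have h2 := key1 c hc
    have hS2 := inv_stbL_eraseList hInv [c, b]
    have hS2c : (orbF K b \ [c, b].toFinset).card = 6 := by
      rw [card_sdiff_toFinset [c, b] (by simp [hcb]) (by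
        intro y hy
        simp only [List.mem_cons, List.not_mem_nil, or_false] at hy
        rcases hy with rfl | rfl
        · exact hc'.1
        · exact hbO), hO]
      rfl
    obtain ⟨g, hg, hgord⟩ := exists_mem_orderOf_eq_prime (stbL K [c, b]) 5 (by rw [h2]; norm_num)
    have hg' := (mem_stbL K [c, b] g).1 hg
    have hgM : g ∈ M24 := h.le hg'.1
    have hle := card_inter_fixP_add_le (S := orbF K b \ [c, b].toFinset) (g := g) [x, c, b]
      (by simp [hcb, hcx.symm, hbx.symm]) (by
        intro y hy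
        simp only [List.mem_cons, List.not_mem_nil, or_false] at hy
        rcases hy with rfl | rfl | rfl
        · exact ⟨h.fx g hg'.1, fun hc => hxO (Finset.mem_sdiff.1 hc).1⟩
        · exact ⟨hg'.2 y (by simp), fun hc => (Finset.mem_sdiff.1 hc).2 (by simp)⟩
        · exact ⟨hg'.2 y (by simp), fun hc => (Finset.mem_sdiff.1 hc).2 (by simp)⟩)
    rw [card_fixP_five hgM hgord] at hle
    simp only [List.length_cons, List.length_nil] at hle
    obtain ⟨k, hk, hmod⟩ := orbit_mod_le hS2 hd hg hgord
    have hsle := orbF_card_le hS2 hd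
    rw [hS2c] at hsle
    have hpos := orbF_card_pos (stbL K [c, b]) d
    have hmul := card_orbF_stbL K [c, b] d
    rw [h2] at hmul
    have hdvd := h.card_stbL_dvd [d, c, b]
    rw [card_fixL4 ([d, c, b] ++ [x]) rfl (by simp [hdc, hdb, hdx, hcb, hcx, hbx])] at hdvd
    obtain ⟨hn, hT⟩ := div_of_mul_eq hmul hpos
    rw [hn] at hdvd ⊢
    have hk1 : k ≤ 1 := by omega
    have hs5 : (orbF (stbL K [c, b]) d).card % 5 = 0 ∨ (orbF (stbL K [c, b]) d).card % 5 = 1 := by
      omega
    have keyar : ∀ s : ℕ, s ≤ 6 → 0 < s → 720 / s ∣ 960 → (s % 5 = 0 ∨ s % 5 = 1) →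
        720 / s = 120 := by decide
    exact keyar _ hsle hpos hdvd hs5
  -- level 3
  have key3 : ∀ c ∈ orbF K b \ [b].toFinset, ∀ d ∈ orbF K b \ [c, b].toFinset,
      ∀ e ∈ orbF K b \ [d, c, b].toFinset, Nat.card ↥(stbL K [e, d, c, b]) = 24 := by
    intro c hc d hd e he
    have hc' := Finset.mem_sdiff.1 hc
    have hcb : c ≠ b := fun hcb => hc'.2 (by simp [hcb])
    have hcx : c ≠ x := fun hcx => hxO (hcx ▸ hc'.1)
    have hd' := Finset.mem_sdiff.1 hd
    have hdx : d ≠ x := fun hdx => hxO (hdx ▸ hd'.1)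
    have hdc : d ≠ c := fun hdc => hd'.2 (by simp [hdc])
    have hdb : d ≠ b := fun hdb => hd'.2 (by simp [hdb])
    have he' := Finset.mem_sdiff.1 he
    have hex : e ≠ x := fun hex => hxO (hex ▸ he'.1)
    have hed : e ≠ d := fun hed => he'.2 (by simp [hed])
    have hec : e ≠ c := fun hec => he'.2 (by simp [hec])
    have heb : e ≠ b := fun heb => he'.2 (by simp [heb])
    have h3 := key2 c hc d hd
    have hS3 := inv_stbL_eraseList hInv [d, c, b]
    have hS3c : (orbF K b \ [d, c, b].toFinset).card = 5 := by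
      rw [card_sdiff_toFinset [d, c, b] (by simp [hcb, hdc, hdb]) (by
        intro y hy
        simp only [List.mem_cons, List.not_mem_nil, or_false] at hy
        rcases hy with rfl | rfl | rfl
        · exact hd'.1
        · exact hc'.1
        · exact hbO), hO]
      rfl
    have hsle := orbF_card_le hS3 he
    rw [hS3c] at hsle
    have hpos := orbF_card_pos (stbL K [d, c, b]) e
    have hmul := card_orbF_stbL K [d, c, b] e
    rw [h3] at hmul
    have hdvd := h.card_stbL_dvd [e, d, c, b]
    rw [card_fixL5 ([e, d, c, b] ++ [x]) rfl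
      (by simp [hed, hec, heb, hex, hdc, hdb, hdx, hcb, hcx, hbx])] at hdvd
    obtain ⟨hn, hT⟩ := div_of_mul_eq hmul hpos
    rw [hn] at hdvd ⊢
    have keyar : ∀ s : ℕ, s ≤ 5 → 0 < s → 120 / s ∣ 48 → 120 / s = 24 := by decide
    exact keyar _ hsle hpos hdvd
  -- level 4
  have hex1 : ∃ c, c ∈ orbF K b \ [b].toFinset := Finset.card_pos.1 (by rw [hS1c]; norm_num)
  obtain ⟨c, hc⟩ := hex1
  have hc' := Finset.mem_sdiff.1 hc
  have hcb : c ≠ b := fun hcb => hc'.2 (by simp [hcb])
  have hcx : c ≠ x := fun hcx => hxO (hcx ▸ hc'.1)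
  have hS2c : (orbF K b \ [c, b].toFinset).card = 6 := by
    rw [card_sdiff_toFinset [c, b] (by simp [hcb]) (by
      intro y hy
      simp only [List.mem_cons, List.not_mem_nil, or_false] at hy
      rcases hy with rfl | rfl
      · exact hc'.1
      · exact hbO), hO]
    rfl
  obtain ⟨d, hd⟩ : ∃ d, d ∈ orbF K b \ [c, b].toFinset :=
    Finset.card_pos.1 (by rw [hS2c]; norm_num)
  have hd' := Finset.mem_sdiff.1 hd
  have hdx : d ≠ x := fun hdx => hxO (hdx ▸ hd'.1)
  have hdc : d ≠ c := fun hdc => hd'.2 (by simp [hdc])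
  have hdb : d ≠ b := fun hdb => hd'.2 (by simp [hdb])
  have hS3c : (orbF K b \ [d, c, b].toFinset).card = 5 := by
    rw [card_sdiff_toFinset [d, c, b] (by simp [hcb, hdc, hdb]) (by
      intro y hy
      simp only [List.mem_cons, List.not_mem_nil, or_false] at hy
      rcases hy with rfl | rfl | rfl
      · exact hd'.1
      · exact hc'.1
      · exact hbO), hO]
    rfl
  obtain ⟨e, he⟩ : ∃ e, e ∈ orbF K b \ [d, c, b].toFinset :=
    Finset.card_pos.1 (by rw [hS3c]; norm_num)
  have he' := Finset.mem_sdiff.1 he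
  have hex : e ≠ x := fun hex => hxO (hex ▸ he'.1)
  have hed : e ≠ d := fun hed => he'.2 (by simp [hed])
  have hec : e ≠ c := fun hec => he'.2 (by simp [hec])
  have heb : e ≠ b := fun heb => he'.2 (by simp [heb])
  have h4 := key3 c hc d hd e he
  have hS4 := inv_stbL_eraseList hInv [e, d, c, b]
  have hS4c : (orbF K b \ [e, d, c, b].toFinset).card = 4 := by
    rw [card_sdiff_toFinset [e, d, c, b] (by simp [hcb, hdc, hdb, hed, hec, heb]) (by
      intro y hy
      simp only [List.mem_cons, List.not_mem_nil, or_false] at hy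
      rcases hy with rfl | rfl | rfl | rfl
      · exact he'.1
      · exact hd'.1
      · exact hc'.1
      · exact hbO), hO]
    rfl
  have key4 : ∀ u ∈ orbF K b \ [e, d, c, b].toFinset,
      (orbF (stbL K [e, d, c, b]) u).card = 3 := by
    intro u hu
    have hu' := Finset.mem_sdiff.1 hu
    have hux : u ≠ x := fun hux => hxO (hux ▸ hu'.1)
    have hue : u ≠ e := fun hue => hu'.2 (by simp [hue])
    have hud : u ≠ d := fun hud => hu'.2 (by simp [hud])
    have huc : u ≠ c := fun huc => hu'.2 (by simp [huc])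
    have hub : u ≠ b := fun hub => hu'.2 (by simp [hub])
    have hsle := orbF_card_le hS4 hu
    rw [hS4c] at hsle
    have hpos := orbF_card_pos (stbL K [e, d, c, b]) u
    have hmul := card_orbF_stbL K [e, d, c, b] u
    rw [h4] at hmul
    have hdvd := h.card_stbL_dvd [u, e, d, c, b]
    have h6 := card_fixL6_cases [e, d, c, b, x] rfl
      (by simp [hed, hec, heb, hex, hdc, hdb, hdx, hcb, hcx, hbx]) u
      (by simp [hue, hud, huc, hub, hux])
    obtain ⟨hn, hT⟩ := div_of_mul_eq hmul hpos
    have hdvd' : Nat.card ↥(stbL K [u, e, d, c, b]) ∣ 16 ∨ Nat.card ↥(stbL K [u, e, d, c, b]) ∣ 3 := by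
      rcases h6 with h6 | h6
      · exact Or.inl (hdvd.trans h6)
      · right
        rw [← h6]
        exact hdvd
    rw [hn] at hdvd'
    have keyar : ∀ s : ℕ, s ≤ 4 → 0 < s → (24 / s ∣ 16 ∨ 24 / s ∣ 3) → s = 3 := by decide
    exact keyar _ hsle hpos hdvd'
  obtain ⟨u, hu⟩ : ∃ u, u ∈ orbF K b \ [e, d, c, b].toFinset :=
    Finset.card_pos.1 (by rw [hS4c]; norm_num)
  have hu3 := key4 u hu
  have hsubu := hS4.orbF_subset hu
  have hlt : (orbF (stbL K [e, d, c, b]) u).card < (orbF K b \ [e, d, c, b].toFinset).card := by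
    rw [hu3, hS4c]
    norm_num
  obtain ⟨v, hv, hvu⟩ := Finset.exists_mem_notMem_of_card_lt_card hlt
  have hv3 := key4 v hv
  have hdis := orbF_disjoint hvu
  have hsubv := hS4.orbF_subset hv
  have hle := Finset.card_le_card (Finset.union_subset hsubv hsubu)
  rw [Finset.card_union_of_disjoint hdis, hu3, hv3, hS4c] at hle
  omega


/-- an orbit of length 7 together with the fixed point is an octad. -/
theorem Fix1.octad_of_orbit_seven {x : GolayPt} {K : Subgroup (Equiv.Perm GolayPt)}
    (h : Fix1 x K) (hcard : Nat.card ↥K = 40320) {c : GolayPt} (hcx : c ≠ x)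
    (hO : (orbF K c).card = 7) : insert x (orbF K c) ∈ octads := by
  have : Fact (Nat.Prime 5) := ⟨by norm_num⟩
  have hxO : x ∉ orbF K c := h.not_mem_orbF x hcx
  have hInv : Inv K (orbF K c) := inv_orbF K c
  have hcO : c ∈ orbF K c := self_mem_orbF K c
  -- level 1
  have h1 : Nat.card ↥(stbL K [c]) = 5760 := by
    have := card_orbF_stbL K [] c
    rw [show stbL K [] = K from rfl, hO, hcard] at this
    omega
  have hS1 := inv_stbL_eraseList hInv [c]
  have hS1c : (orbF K c \ [c].toFinset).card = 6 := by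
    rw [card_sdiff_toFinset [c] (by simp) (by simpa using hcO), hO]
    rfl
  have key1 : ∀ d ∈ orbF K c \ [c].toFinset, Nat.card ↥(stbL K [d, c]) = 960 := by
    intro d hd
    have hd' := Finset.mem_sdiff.1 hd
    have hdx : d ≠ x := fun hdx => hxO (hdx ▸ hd'.1)
    have hdc : d ≠ c := fun hdc => hd'.2 (by simp [hdc])
    obtain ⟨g, hg, hgord⟩ := exists_mem_orderOf_eq_prime (stbL K [c]) 5 (by rw [h1]; norm_num)
    have hg' := (mem_stbL K [c] g).1 hg
    have hgM : g ∈ M24 := h.le hg'.1
    have hle := card_inter_fixP_add_le (S := orbF K c \ [c].toFinset) (g := g) [x, c]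
      (by simp [hcx.symm]) (by
        intro y hy
        simp only [List.mem_cons, List.not_mem_nil, or_false] at hy
        rcases hy with rfl | rfl
        · exact ⟨h.fx g hg'.1, fun hc => hxO (Finset.mem_sdiff.1 hc).1⟩
        · exact ⟨hg'.2 y (by simp), fun hc => (Finset.mem_sdiff.1 hc).2 (by simp)⟩)
    rw [card_fixP_five hgM hgord] at hle
    simp only [List.length_cons, List.length_nil] at hle
    have hmodS : (orbF K c \ [c].toFinset).card % 5 = (orbF K c \ [c].toFinset ∩ fixP g).card % 5 :=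
      hS1.card_modEq hg hgord
    rw [hS1c] at hmodS
    obtain ⟨k, hk, hmod⟩ := orbit_mod_le hS1 hd hg hgord
    have hsle := orbF_card_le hS1 hd
    rw [hS1c] at hsle
    have hpos := orbF_card_pos (stbL K [c]) d
    have hmul := card_orbF_stbL K [c] d
    rw [h1] at hmul
    have hdvd := h.card_stbL_dvd [d, c]
    rw [card_fixL3 ([d, c] ++ [x]) rfl (by simp [hdc, hdx, hcx])] at hdvd
    obtain ⟨hn, hT⟩ := div_of_mul_eq hmul hpos
    rw [hn] at hdvd ⊢
    have hs5 : (orbF (stbL K [c]) d).card % 5 = 0 ∨ (orbF (stbL K [c]) d).card % 5 = 1 := by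
      omega
    have keyar : ∀ s : ℕ, s ≤ 6 → 0 < s → 5760 / s ∣ 20160 → (s % 5 = 0 ∨ s % 5 = 1) →
        5760 / s = 960 := by decide
    exact keyar _ hsle hpos hdvd hs5
  -- level 2
  have key2 : ∀ d ∈ orbF K c \ [c].toFinset, ∀ e ∈ orbF K c \ [d, c].toFinset,
      Nat.card ↥(stbL K [e, d, c]) = 192 := by
    intro d hd e he
    have hd' := Finset.mem_sdiff.1 hd
    have hdx : d ≠ x := fun hdx => hxO (hdx ▸ hd'.1)
    have hdc : d ≠ c := fun hdc => hd'.2 (by simp [hdc])
    have he' := Finset.mem_sdiff.1 he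
    have h2 := key1 d hd
    have hS2 := inv_stbL_eraseList hInv [d, c]
    have hS2c : (orbF K c \ [d, c].toFinset).card = 5 := by
      rw [card_sdiff_toFinset [d, c] (by simp [hdc]) (by
        intro y hy
        simp only [List.mem_cons, List.not_mem_nil, or_false] at hy
        rcases hy with rfl | rfl
        · exact hd'.1
        · exact hcO), hO]
      rfl
    obtain ⟨g, hg, hgord⟩ := exists_mem_orderOf_eq_prime (stbL K [d, c]) 5 (by rw [h2]; norm_num)
    have hg' := (mem_stbL K [d, c] g).1 hg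
    have hgM : g ∈ M24 := h.le hg'.1
    have hle := card_inter_fixP_add_le (S := orbF K c \ [d, c].toFinset) (g := g) [x, d, c]
      (by simp [hdc, hdx.symm, hcx.symm]) (by
        intro y hy
        simp only [List.mem_cons, List.not_mem_nil, or_false] at hy
        rcases hy with rfl | rfl | rfl
        · exact ⟨h.fx g hg'.1, fun hc => hxO (Finset.mem_sdiff.1 hc).1⟩
        · exact ⟨hg'.2 y (by simp), fun hc => (Finset.mem_sdiff.1 hc).2 (by simp)⟩
        · exact ⟨hg'.2 y (by simp), fun hc => (Finset.mem_sdiff.1 hc).2 (by simp)⟩)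
    rw [card_fixP_five hgM hgord] at hle
    simp only [List.length_cons, List.length_nil] at hle
    have hmodS : (orbF K c \ [d, c].toFinset).card % 5 =
        (orbF K c \ [d, c].toFinset ∩ fixP g).card % 5 := hS2.card_modEq hg hgord
    rw [hS2c] at hmodS
    obtain ⟨k, hk, hmod⟩ := orbit_mod_le hS2 he hg hgord
    have hsle := orbF_card_le hS2 he
    rw [hS2c] at hsle
    have hpos := orbF_card_pos (stbL K [d, c]) e
    have hmul := card_orbF_stbL K [d, c] e
    rw [h2] at hmul
    have h5 : (orbF (stbL K [d, c]) e).card = 5 := by omega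
    rw [h5] at hmul
    omega
  -- level 3
  have key3 : ∀ d ∈ orbF K c \ [c].toFinset, ∀ e ∈ orbF K c \ [d, c].toFinset,
      ∀ u ∈ orbF K c \ [e, d, c].toFinset, Nat.card ↥(stbL K [u, e, d, c]) = 48 := by
    intro d hd e he u hu
    have hd' := Finset.mem_sdiff.1 hd
    have hdx : d ≠ x := fun hdx => hxO (hdx ▸ hd'.1)
    have hdc : d ≠ c := fun hdc => hd'.2 (by simp [hdc])
    have he' := Finset.mem_sdiff.1 he
    have hex : e ≠ x := fun hex => hxO (hex ▸ he'.1)
    have hed : e ≠ d := fun hed => he'.2 (by simp [hed])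
    have hec : e ≠ c := fun hec => he'.2 (by simp [hec])
    have hu' := Finset.mem_sdiff.1 hu
    have hux : u ≠ x := fun hux => hxO (hux ▸ hu'.1)
    have hue : u ≠ e := fun hue => hu'.2 (by simp [hue])
    have hud : u ≠ d := fun hud => hu'.2 (by simp [hud])
    have huc : u ≠ c := fun huc => hu'.2 (by simp [huc])
    have h3 := key2 d hd e he
    have hS3 := inv_stbL_eraseList hInv [e, d, c]
    have hS3c : (orbF K c \ [e, d, c].toFinset).card = 4 := by
      rw [card_sdiff_toFinset [e, d, c] (by simp [hdc, hed, hec]) (by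
        intro y hy
        simp only [List.mem_cons, List.not_mem_nil, or_false] at hy
        rcases hy with rfl | rfl | rfl
        · exact he'.1
        · exact hd'.1
        · exact hcO), hO]
      rfl
    have hsle := orbF_card_le hS3 hu
    rw [hS3c] at hsle
    have hpos := orbF_card_pos (stbL K [e, d, c]) u
    have hmul := card_orbF_stbL K [e, d, c] u
    rw [h3] at hmul
    have hdvd := h.card_stbL_dvd [u, e, d, c]
    rw [card_fixL5 ([u, e, d, c] ++ [x]) rfl
      (by simp [hue, hud, huc, hux, hed, hec, hex, hdc, hdx, hcx])] at hdvd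
    obtain ⟨hn, hT⟩ := div_of_mul_eq hmul hpos
    rw [hn] at hdvd ⊢
    have keyar : ∀ s : ℕ, s ≤ 4 → 0 < s → 192 / s ∣ 48 → 192 / s = 48 := by decide
    exact keyar _ hsle hpos hdvd
  -- choose the points
  obtain ⟨d, hd⟩ : ∃ d, d ∈ orbF K c \ [c].toFinset :=
    Finset.card_pos.1 (by rw [hS1c]; norm_num)
  have hd' := Finset.mem_sdiff.1 hd
  have hdx : d ≠ x := fun hdx => hxO (hdx ▸ hd'.1)
  have hdc : d ≠ c := fun hdc => hd'.2 (by simp [hdc])
  have hS2c : (orbF K c \ [d, c].toFinset).card = 5 := by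
    rw [card_sdiff_toFinset [d, c] (by simp [hdc]) (by
      intro y hy
      simp only [List.mem_cons, List.not_mem_nil, or_false] at hy
      rcases hy with rfl | rfl
      · exact hd'.1
      · exact hcO), hO]
    rfl
  obtain ⟨e, he⟩ : ∃ e, e ∈ orbF K c \ [d, c].toFinset :=
    Finset.card_pos.1 (by rw [hS2c]; norm_num)
  have he' := Finset.mem_sdiff.1 he
  have hex : e ≠ x := fun hex => hxO (hex ▸ he'.1)
  have hed : e ≠ d := fun hed => he'.2 (by simp [hed])
  have hec : e ≠ c := fun hec => he'.2 (by simp [hec])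
  have hS3c : (orbF K c \ [e, d, c].toFinset).card = 4 := by
    rw [card_sdiff_toFinset [e, d, c] (by simp [hdc, hed, hec]) (by
      intro y hy
      simp only [List.mem_cons, List.not_mem_nil, or_false] at hy
      rcases hy with rfl | rfl | rfl
      · exact he'.1
      · exact hd'.1
      · exact hcO), hO]
    rfl
  obtain ⟨u, hu⟩ : ∃ u, u ∈ orbF K c \ [e, d, c].toFinset :=
    Finset.card_pos.1 (by rw [hS3c]; norm_num)
  have hu' := Finset.mem_sdiff.1 hu
  have hux : u ≠ x := fun hux => hxO (hux ▸ hu'.1)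
  have hue : u ≠ e := fun hue => hu'.2 (by simp [hue])
  have hud : u ≠ d := fun hud => hu'.2 (by simp [hud])
  have huc : u ≠ c := fun huc => hu'.2 (by simp [huc])
  have h4 := key3 d hd e he u hu
  have hnd5 : ([u, e, d, c] ++ [x]).Nodup := by
    simp [hue, hud, huc, hux, hed, hec, hex, hdc, hdx, hcx]
  -- the stabiliser of the five points lies in `K`
  have heq : stbL K [u, e, d, c] = fixL ([u, e, d, c] ++ [x]) := by
    apply Subgroup.eq_of_le_of_card_ge (h.stbL_le_fixL _)
    rw [h4, card_fixL5 _ rfl hnd5]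
  have hS4 := inv_stbL_eraseList hInv [u, e, d, c]
  rw [heq] at hS4
  have hS4c : (orbF K c \ [u, e, d, c].toFinset).card = 3 := by
    rw [card_sdiff_toFinset [u, e, d, c] (by simp [hdc, hed, hec, hue, hud, huc]) (by
      intro y hy
      simp only [List.mem_cons, List.not_mem_nil, or_false] at hy
      rcases hy with rfl | rfl | rfl | rfl
      · exact hu'.1
      · exact he'.1
      · exact hd'.1
      · exact hcO), hO]
    rfl
  obtain ⟨o, ho, hlo, -⟩ := exists_octad_of_nodup5 ([u, e, d, c] ++ [x]) rfl hnd5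
  have hsub : insert x (orbF K c) ⊆ o := by
    intro w hw
    rw [Finset.mem_insert] at hw
    rcases hw with rfl | hw
    · exact hlo _ (by simp)
    by_cases hwl : w ∈ [u, e, d, c]
    · exact hlo w (List.mem_append_left _ hwl)
    by_contra hwo
    have hwS : w ∈ orbF K c \ [u, e, d, c].toFinset := by
      rw [Finset.mem_sdiff, List.mem_toFinset]
      exact ⟨hw, hwl⟩
    have h3 := card_fixL6_eq_3 ([u, e, d, c] ++ [x]) rfl hnd5 w ho hlo hwo
    have hmul := card_orbF_mul (fixL ([u, e, d, c] ++ [x])) w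
    rw [card_fixL5 _ rfl hnd5] at hmul
    have h3' : Nat.card ↥(Cfsg.Agent.Lib.Helper7.stb (fixL ([u, e, d, c] ++ [x])) w) = 3 := h3
    rw [h3'] at hmul
    have hle := orbF_card_le hS4 hwS
    rw [hS4c] at hle
    omega
  have hc8 : (insert x (orbF K c)).card = 8 := by
    rw [Finset.card_insert_of_notMem hxO, hO]
  have : insert x (orbF K c) = o :=
    Finset.eq_of_subset_of_card_le hsub (by rw [hc8, ho.2])
  rw [this]
  exact ho

end Cfsg.Agent.Lib.Helper7
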