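import Cfsg.Agent.Lib.Helper7.M23Index

set_option autoImplicit false

namespace Cfsg.Agent.Lib.Helper7

open Cfsg
open scoped Pointwise

/-! ### orbit shapes of a subgroup of order 40320 fixing a point -/

theorem Fix1.inv_compl {x : GolayPt} {K : Subgroup (Equiv.Perm GolayPt)} (h : Fix1 x K) :
    Inv K (Finset.univ.erase x) := by
  intro σ hσ y hy
  rw [Finset.mem_erase] at hy ⊢
  exact ⟨fun hc => hy.1 (σ.injective (hc.trans (h.fx σ hσ).symm)), Finset.mem_univ _⟩

theorem card_univ_erase_pt (x : GolayPt) : (Finset.univ.erase x).card = 23 := by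
  rw [Finset.card_erase_of_mem (Finset.mem_univ x), Finset.card_univ, card_golayPt']

theorem Fix1.orbit_facts {x : GolayPt} {K : Subgroup (Equiv.Perm GolayPt)} (h : Fix1 x K)
    (hcard : Nat.card ↥K = 40320) {a : GolayPt} (ha : a ≠ x) :
    (orbF K a).card ∣ 40320 ∧ (orbF K a).card ≤ 23 ∧ 0 < (orbF K a).card ∧
      (orbF K a).card % 5 ≤ 3 := by
  have : Fact (Nat.Prime 5) := ⟨by norm_num⟩
  have hS := h.inv_compl
  have haS : a ∈ Finset.univ.erase x := Finset.mem_erase.2 ⟨ha, Finset.mem_univ _⟩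
  refine ⟨?_, ?_, orbF_card_pos K a, ?_⟩
  · rw [← hcard, ← card_orbF_mul K a]
    exact dvd_mul_right _ _
  · have := orbF_card_le hS haS
    rwa [card_univ_erase_pt] at this
  · obtain ⟨g, hg, hgord⟩ := exists_mem_orderOf_eq_prime K 5 (by rw [hcard]; norm_num)
    have hgM := h.le hg
    have hle := card_inter_fixP_add_le (S := Finset.univ.erase x) (g := g) [x] (by simp) (by
      intro y hy
      simp only [List.mem_cons, List.not_mem_nil, or_false] at hy
      subst hy
      exact ⟨h.fx g hg, fun hc => (Finset.mem_erase.1 hc).1 rfl⟩)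
    rw [card_fixP_five hgM hgord] at hle
    simp only [List.length_cons, List.length_nil] at hle
    obtain ⟨k, hk, hmod⟩ := orbit_mod_le hS haS hg hgord
    omega

theorem Fix1.remaining_seven {x : GolayPt} {K : Subgroup (Equiv.Perm GolayPt)}
    {f : Equiv.Perm GolayPt} (hf : f ∈ K) (hford : orderOf f = 7) {R : Finset GolayPt}
    (hR : Inv K R) (hRc : R.card = 7) (hRf : R ∩ fixP f = ∅) (hxR : x ∉ R) :
    ∃ a, a ≠ x ∧ (orbF K a).card = 7 := by
  have : Fact (Nat.Prime 7) := ⟨by norm_num⟩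
  obtain ⟨a, ha⟩ : ∃ a, a ∈ R := Finset.card_pos.1 (by rw [hRc]; norm_num)
  refine ⟨a, fun hax => hxR (hax ▸ ha), ?_⟩
  obtain ⟨k, hk, hmod⟩ := orbit_mod_le hR ha hf hford
  rw [hRf, Finset.card_empty] at hk
  have hle := orbF_card_le hR ha
  rw [hRc] at hle
  have hpos := orbF_card_pos K a
  omega

theorem fix_of_orbit_one {K : Subgroup (Equiv.Perm GolayPt)} {b : GolayPt}
    (hc : (orbF K b).card = 1) {σ : Equiv.Perm GolayPt} (hσ : σ ∈ K) : σ b = b := by
  obtain ⟨a, ha⟩ := Finset.card_eq_one.1 hc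
  have h1 := self_mem_orbF K b
  have h2 := smul_mem_orbF hσ h1
  rw [ha, Finset.mem_singleton] at h1 h2
  rw [h2, h1]

theorem Fix1.shape {x : GolayPt} {K : Subgroup (Equiv.Perm GolayPt)} (h : Fix1 x K)
    (hcard : Nat.card ↥K = 40320) :
    ∃ a, a ≠ x ∧ ((orbF K a).card = 2 ∨ (orbF K a).card = 7 ∨ (orbF K a).card = 8) := by
  have : Fact (Nat.Prime 7) := ⟨by norm_num⟩
  obtain ⟨f, hf, hford⟩ := exists_mem_orderOf_eq_prime K 7 (by rw [hcard]; norm_num)
  have hfM := h.le hf
  have hf3 := card_fixP_seven hfM hford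
  have hxf : x ∈ fixP f := (mem_fixP f x).2 (h.fx f hf)
  have he2 : ((fixP f).erase x).card = 2 := by
    rw [Finset.card_erase_of_mem hxf, hf3]
  obtain ⟨b1, b2, hb12, hbb⟩ := Finset.card_eq_two.1 he2
  have hb1 : b1 ∈ (fixP f).erase x := by rw [hbb]; simp
  have hb2 : b2 ∈ (fixP f).erase x := by rw [hbb]; simp
  rw [Finset.mem_erase] at hb1 hb2
  have hS := h.inv_compl
  have hb1S : b1 ∈ Finset.univ.erase x := Finset.mem_erase.2 ⟨hb1.1, Finset.mem_univ _⟩
  have hb2S : b2 ∈ Finset.univ.erase x := Finset.mem_erase.2 ⟨hb2.1, Finset.mem_univ _⟩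
  have hfixsub : ∀ y, y ≠ x → y ∈ fixP f → y = b1 ∨ y = b2 := by
    intro y hyx hy
    have : y ∈ (fixP f).erase x := Finset.mem_erase.2 ⟨hyx, hy⟩
    rw [hbb] at this
    simpa using this
  obtain ⟨hd1, hle1, hpos1, hm1⟩ := h.orbit_facts hcard hb1.1
  obtain ⟨hd2, hle2, hpos2, hm2⟩ := h.orbit_facts hcard hb2.1
  have hx1 : x ∉ orbF K b1 := h.not_mem_orbF x hb1.1
  have hx2 : x ∉ orbF K b2 := h.not_mem_orbF x hb2.1
  have hmod1 : (orbF K b1).card % 7 = (orbF K b1 ∩ fixP f).card % 7 :=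
    (inv_orbF K b1).card_modEq hf hford
  have hmod2 : (orbF K b2).card % 7 = (orbF K b2 ∩ fixP f).card % 7 :=
    (inv_orbF K b2).card_modEq hf hford
  by_cases hmem : b2 ∈ orbF K b1
  · -- one orbit contains both fixed points
    have hint : orbF K b1 ∩ fixP f = {b1, b2} := by
      ext y
      rw [Finset.mem_inter]
      simp only [Finset.mem_insert, Finset.mem_singleton]
      constructor
      · rintro ⟨hy1, hy2⟩
        exact hfixsub y (fun hyx => hx1 (hyx ▸ hy1)) hy2
      · rintro (rfl | rfl)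
        · exact ⟨self_mem_orbF K _, hb1.2⟩
        · exact ⟨hmem, hb2.2⟩
    rw [hint, Finset.card_pair hb12] at hmod1
    have keyar : ∀ s : ℕ, s ≤ 23 → s ∣ 40320 → s % 5 ≤ 3 → s % 7 = 2 % 7 → s = 2 ∨ s = 16 := by
      decide
    rcases keyar _ hle1 hd1 hm1 hmod1 with h2 | h16
    · exact ⟨b1, hb1.1, Or.inl h2⟩
    · have hR : Inv K (Finset.univ.erase x \ orbF K b1) := hS.sdiff_orbF b1
      have hRc : (Finset.univ.erase x \ orbF K b1).card = 7 := by
        rw [Finset.card_sdiff_of_subset (hS.orbF_subset hb1S), card_univ_erase_pt, h16]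
      obtain ⟨a, hax, ha7⟩ := Fix1.remaining_seven (x := x) hf hford hR hRc (by
        rw [Finset.eq_empty_iff_forall_notMem]
        intro y hy
        rw [Finset.mem_inter, Finset.mem_sdiff, Finset.mem_erase] at hy
        rcases hfixsub y hy.1.1.1 hy.2 with rfl | rfl
        · exact hy.1.2 (self_mem_orbF K _)
        · exact hy.1.2 hmem) (by simp)
      exact ⟨a, hax, Or.inr (Or.inl ha7)⟩
  · -- two orbits
    have hmem' : b1 ∉ orbF K b2 := fun hc => hmem (mem_orbF_symm hc)
    have hint1 : orbF K b1 ∩ fixP f = {b1} := by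
      ext y
      rw [Finset.mem_inter, Finset.mem_singleton]
      constructor
      · rintro ⟨hy1, hy2⟩
        rcases hfixsub y (fun hyx => hx1 (hyx ▸ hy1)) hy2 with rfl | rfl
        · rfl
        · exact absurd hy1 hmem
      · rintro rfl
        exact ⟨self_mem_orbF K _, hb1.2⟩
    have hint2 : orbF K b2 ∩ fixP f = {b2} := by
      ext y
      rw [Finset.mem_inter, Finset.mem_singleton]
      constructor
      · rintro ⟨hy1, hy2⟩
        rcases hfixsub y (fun hyx => hx2 (hyx ▸ hy1)) hy2 with rfl | rfl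
        · exact absurd hy1 hmem'
        · rfl
      · rintro rfl
        exact ⟨self_mem_orbF K _, hb2.2⟩
    rw [hint1, Finset.card_singleton] at hmod1
    rw [hint2, Finset.card_singleton] at hmod2
    have keyar : ∀ s : ℕ, s ≤ 23 → s ∣ 40320 → s % 5 ≤ 3 → s % 7 = 1 % 7 →
        s = 1 ∨ s = 8 ∨ s = 15 := by decide
    have hdis : Disjoint (orbF K b2) (orbF K b1) := orbF_disjoint hmem
    have hsub1 := hS.orbF_subset hb1S
    have hsub2 : orbF K b2 ⊆ Finset.univ.erase x \ orbF K b1 := by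
      intro y hy
      rw [Finset.mem_sdiff]
      exact ⟨hS.orbF_subset hb2S hy, fun hc => (Finset.disjoint_left.1 hdis) hy hc⟩
    have hR : Inv K ((Finset.univ.erase x \ orbF K b1) \ orbF K b2) :=
      (hS.sdiff_orbF b1).sdiff_orbF b2
    have hRc : ((Finset.univ.erase x \ orbF K b1) \ orbF K b2).card =
        23 - (orbF K b1).card - (orbF K b2).card := by
      rw [Finset.card_sdiff_of_subset hsub2, Finset.card_sdiff_of_subset hsub1,
        card_univ_erase_pt]
    have hle12 : (orbF K b2).card ≤ 23 - (orbF K b1).card := by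
      have := Finset.card_le_card hsub2
      rwa [Finset.card_sdiff_of_subset hsub1, card_univ_erase_pt] at this
    have hRf : ((Finset.univ.erase x \ orbF K b1) \ orbF K b2) ∩ fixP f = ∅ := by
      rw [Finset.eq_empty_iff_forall_notMem]
      intro y hy
      rw [Finset.mem_inter, Finset.mem_sdiff, Finset.mem_sdiff, Finset.mem_erase] at hy
      rcases hfixsub y hy.1.1.1.1 hy.2 with rfl | rfl
      · exact hy.1.1.2 (self_mem_orbF K _)
      · exact hy.1.2 (self_mem_orbF K _)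
    have hxR : x ∉ (Finset.univ.erase x \ orbF K b1) \ orbF K b2 := by simp
    rcases keyar _ hle1 hd1 hm1 hmod1 with h1 | h8 | h15
    · rcases keyar _ hle2 hd2 hm2 hmod2 with h1' | h8' | h15'
      · -- both fixed: the group is too small
        exfalso
        have hle : K ≤ fixL [b2, b1, x] := by
          intro σ hσ
          rw [mem_fixL]
          refine ⟨h.le hσ, ?_⟩
          intro y hy
          simp only [List.mem_cons, List.not_mem_nil, or_false] at hy
          rcases hy with rfl | rfl | rfl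
          · exact fix_of_orbit_one h1' hσ
          · exact fix_of_orbit_one h1 hσ
          · exact h.fx σ hσ
        have hdvd := Subgroup.card_dvd_of_le hle
        rw [hcard, card_fixL3 [b2, b1, x] rfl (by simp [hb12.symm, hb1.1, hb2.1])] at hdvd
        omega
      · exact ⟨b2, hb2.1, Or.inr (Or.inr h8')⟩
      · rw [h1, h15'] at hRc
        obtain ⟨a, hax, ha7⟩ := Fix1.remaining_seven (x := x) hf hford hR hRc hRf hxR
        exact ⟨a, hax, Or.inr (Or.inl ha7)⟩
    · exact ⟨b1, hb1.1, Or.inr (Or.inr h8)⟩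
    · rcases keyar _ hle2 hd2 hm2 hmod2 with h1' | h8' | h15'
      · rw [h15, h1'] at hRc
        obtain ⟨a, hax, ha7⟩ := Fix1.remaining_seven (x := x) hf hford hR hRc hRf hxR
        exact ⟨a, hax, Or.inr (Or.inl ha7)⟩
      · exact ⟨b2, hb2.1, Or.inr (Or.inr h8')⟩
      · exfalso
        omega

/-! ### upper bounds for subgroups preserving a small set -/

theorem card_le_mul_of_inv {L : Subgroup (Equiv.Perm GolayPt)} {S : Finset GolayPt}
    (hS : Inv L S) {a : GolayPt} (ha : a ∈ S) :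
    Nat.card ↥L ≤ S.card * Nat.card ↥(Cfsg.Agent.Lib.Helper7.stb L a) := by
  rw [← card_orbF_mul L a]
  exact Nat.mul_le_mul_right _ (orbF_card_le hS ha)

theorem Fix1.card_le_of_inv2 {x : GolayPt} {L : Subgroup (Equiv.Perm GolayPt)} (h : Fix1 x L)
    {S : Finset GolayPt} (hS : Inv L S) (hc : S.card = 2) (hx : x ∉ S) :
    Nat.card ↥L ≤ 40320 := by
  obtain ⟨a, b, hab, rfl⟩ := Finset.card_eq_two.1 hc
  have hax : a ≠ x := fun hax => hx (by simp [hax])
  have hbx : b ≠ x := fun hbx => hx (by simp [hbx])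
  have h1 := card_le_mul_of_inv hS (a := a) (by simp)
  have hS1 := hS.erase a
  have hb1 : b ∈ ({a, b} : Finset GolayPt).erase a := by simp [hab.symm]
  have h2 := card_le_mul_of_inv hS1 hb1
  have hc1 : (({a, b} : Finset GolayPt).erase a).card = 1 := by
    rw [Finset.card_erase_of_mem (by simp), Finset.card_pair hab]
  have hle : stbL L [b, a] ≤ fixL ([b, a] ++ [x]) := h.stbL_le_fixL [b, a]
  have h3 := Subgroup.card_le_of_le hle
  rw [card_fixL3 ([b, a] ++ [x]) rfl (by simp [hab.symm, hax, hbx])] at h3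
  have h3' : Nat.card ↥(Cfsg.Agent.Lib.Helper7.stb (Cfsg.Agent.Lib.Helper7.stb L a) b) ≤ 20160 :=
    h3
  rw [hc1] at h2
  rw [Finset.card_pair hab] at h1
  omega

theorem Fix1.card_le_of_inv7 {x : GolayPt} {L : Subgroup (Equiv.Perm GolayPt)} (h : Fix1 x L)
    {S : Finset GolayPt} (hS : Inv L S) (hc : S.card = 7) (hx : x ∉ S) :
    Nat.card ↥L ≤ 40320 := by
  obtain ⟨a1, ha1⟩ : ∃ a, a ∈ S := Finset.card_pos.1 (by rw [hc]; norm_num)
  have hS1 := hS.erase a1
  have hc1 : (S.erase a1).card = 6 := by rw [Finset.card_erase_of_mem ha1, hc]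
  obtain ⟨a2, ha2⟩ : ∃ a, a ∈ S.erase a1 := Finset.card_pos.1 (by rw [hc1]; norm_num)
  have hS2 := hS1.erase a2
  have hc2 : ((S.erase a1).erase a2).card = 5 := by rw [Finset.card_erase_of_mem ha2, hc1]
  obtain ⟨a3, ha3⟩ : ∃ a, a ∈ (S.erase a1).erase a2 :=
    Finset.card_pos.1 (by rw [hc2]; norm_num)
  have hS3 := hS2.erase a3
  have hc3 : (((S.erase a1).erase a2).erase a3).card = 4 := by
    rw [Finset.card_erase_of_mem ha3, hc2]
  obtain ⟨a4, ha4⟩ : ∃ a, a ∈ ((S.erase a1).erase a2).erase a3 :=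
    Finset.card_pos.1 (by rw [hc3]; norm_num)
  have h1 := card_le_mul_of_inv hS ha1
  have h2 := card_le_mul_of_inv hS1 ha2
  have h3 := card_le_mul_of_inv hS2 ha3
  have h4 := card_le_mul_of_inv hS3 ha4
  rw [hc] at h1
  rw [hc1] at h2
  rw [hc2] at h3
  rw [hc3] at h4
  have ha2' := Finset.mem_erase.1 ha2
  have ha3' := Finset.mem_erase.1 ha3
  have ha3'' := Finset.mem_erase.1 ha3'.2
  have ha4' := Finset.mem_erase.1 ha4
  have ha4'' := Finset.mem_erase.1 ha4'.2
  have ha4''' := Finset.mem_erase.1 ha4''.2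
  have hx1 : a1 ≠ x := fun hc => hx (hc ▸ ha1)
  have hx2 : a2 ≠ x := fun hc => hx (hc ▸ ha2'.2)
  have hx3 : a3 ≠ x := fun hc => hx (hc ▸ ha3''.2)
  have hx4 : a4 ≠ x := fun hc => hx (hc ▸ ha4'''.2)
  have hle : stbL L [a4, a3, a2, a1] ≤ fixL ([a4, a3, a2, a1] ++ [x]) :=
    h.stbL_le_fixL [a4, a3, a2, a1]
  have h5 := Subgroup.card_le_of_le hle
  rw [card_fixL5 ([a4, a3, a2, a1] ++ [x]) rfl
    (by simp [ha2'.1, ha3'.1, ha3''.1, ha4'.1, ha4''.1, ha4'''.1, hx1, hx2, hx3, hx4])] at h5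
  have h5' : Nat.card ↥(Cfsg.Agent.Lib.Helper7.stb (Cfsg.Agent.Lib.Helper7.stb
      (Cfsg.Agent.Lib.Helper7.stb (Cfsg.Agent.Lib.Helper7.stb L a1) a2) a3) a4) ≤ 48 := h5
  omega

end Cfsg.Agent.Lib.Helper7
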