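import Cfsg.Agent.Lib.Helper7.M24Six
import Cfsg.Agent.Lib.Helper7.M22Rank3

set_option autoImplicit false

namespace Cfsg.Agent.Lib.Helper7

open Cfsg
open scoped Pointwise

/-! ### invariant sets -/

/-- a finset of points invariant under a subgroup of permutations. -/
def Inv (L : Subgroup (Equiv.Perm GolayPt)) (S : Finset GolayPt) : Prop :=
  ∀ σ ∈ L, ∀ y ∈ S, σ y ∈ S

theorem inv_orbF (K : Subgroup (Equiv.Perm GolayPt)) (a : GolayPt) : Inv K (orbF K a) :=
  fun _ hσ _ hy => smul_mem_orbF hσ hy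

theorem Inv.mono {L L' : Subgroup (Equiv.Perm GolayPt)} {S : Finset GolayPt} (h : Inv L S)
    (hL : L' ≤ L) : Inv L' S := fun σ hσ y hy => h σ (hL hσ) y hy

theorem Inv.erase {L : Subgroup (Equiv.Perm GolayPt)} {S : Finset GolayPt} (h : Inv L S)
    (a : GolayPt) : Inv (stb L a) (S.erase a) := by
  intro σ hσ y hy
  rw [mem_stb] at hσ
  rw [Finset.mem_erase] at hy ⊢
  refine ⟨fun hc => hy.1 (σ.injective (hc.trans hσ.2.symm)), h σ hσ.1 y hy.2⟩

theorem Inv.orbF_subset {L : Subgroup (Equiv.Perm GolayPt)} {S : Finset GolayPt} (h : Inv L S)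
    {a : GolayPt} (ha : a ∈ S) : orbF L a ⊆ S := by
  intro y hy
  obtain ⟨σ, hσ, rfl⟩ := (mem_orbF L a y).1 hy
  exact h σ hσ a ha

theorem Inv.sdiff_orbF {L : Subgroup (Equiv.Perm GolayPt)} {S : Finset GolayPt} (h : Inv L S)
    (a : GolayPt) : Inv L (S \ orbF L a) := by
  intro σ hσ y hy
  rw [Finset.mem_sdiff] at hy ⊢
  refine ⟨h σ hσ y hy.1, fun hc => hy.2 ?_⟩
  have := smul_mem_orbF (L.inv_mem hσ) hc
  rwa [show σ⁻¹ (σ y) = y from Equiv.symm_apply_apply σ y] at this

/-- orbit sizes modulo `p` are numbers of fixed points of an element of order `p`. -/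
theorem Inv.card_modEq {L : Subgroup (Equiv.Perm GolayPt)} {S : Finset GolayPt} (h : Inv L S)
    {g : Equiv.Perm GolayPt} (hg : g ∈ L) {p : ℕ} [Fact p.Prime] (hord : orderOf g = p) :
    S.card ≡ (S ∩ fixP g).card [MOD p] := by
  have := card_modEq_card_inter_fixF (Subgroup.zpowers g) (isPGroup_zpowers hord) S
    (fun t ht y hy => h t ((Subgroup.zpowers_le.2 hg) ht) y hy)
  rwa [fixF_zpowers] at this

/-! ### fixed points of elements of order 5 and 7 -/

theorem orderOf_dvd_of_fix4 {g : Equiv.Perm GolayPt} (hg : g ∈ M24) (l : List GolayPt)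
    (hlen : l.length = 4) (hnd : l.Nodup) (hfix : ∀ x ∈ l, g x = x) : orderOf g ∣ 960 := by
  have hmem : g ∈ fixL l := (mem_fixL l g).2 ⟨hg, hfix⟩
  have := Subgroup.orderOf_dvd_natCard (fixL l) hmem
  rwa [card_fixL4 l hlen hnd] at this

theorem card_fixP_univ_mod {g : Equiv.Perm GolayPt} {p : ℕ} [Fact p.Prime] (hord : orderOf g = p) :
    24 ≡ (fixP g).card [MOD p] := by
  have hmod := card_modEq_card_inter_fixF (Subgroup.zpowers g) (isPGroup_zpowers hord)
    Finset.univ (fun _ _ _ _ => Finset.mem_univ _)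
  rwa [Finset.univ_inter, fixF_zpowers, Finset.card_univ, card_golayPt'] at hmod

theorem card_fixP_five {g : Equiv.Perm GolayPt} (hg : g ∈ M24) (hord : orderOf g = 5) :
    (fixP g).card = 4 := by
  have : Fact (Nat.Prime 5) := ⟨by norm_num⟩
  have h4 : (fixP g).card ≤ 4 := card_fixP_le_four hg (by rw [hord]; norm_num)
  have hmod : 24 % 5 = (fixP g).card % 5 := card_fixP_univ_mod hord
  omega

theorem card_fixP_seven {g : Equiv.Perm GolayPt} (hg : g ∈ M24) (hord : orderOf g = 7) :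
    (fixP g).card = 3 := by
  have : Fact (Nat.Prime 7) := ⟨by norm_num⟩
  have h3 : (fixP g).card ≤ 3 := by
    by_contra hcon
    push Not at hcon
    obtain ⟨t, ht, ht4⟩ := Finset.exists_subset_card_eq (show 4 ≤ (fixP g).card by omega)
    have := orderOf_dvd_of_fix4 hg t.toList (by rw [Finset.length_toList, ht4]) t.nodup_toList
      (fun x hx => (mem_fixP g x).1 (ht (Finset.mem_toList.1 hx)))
    rw [hord] at this
    omega
  have hmod : 24 % 7 = (fixP g).card % 7 := card_fixP_univ_mod hord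
  omega

/-! ### subgroups fixing one point -/

/-- a subgroup of the group of the code fixing a point. -/
structure Fix1 (x : GolayPt) (K : Subgroup (Equiv.Perm GolayPt)) : Prop where
  le : K ≤ M24
  fx : ∀ σ ∈ K, σ x = x

section

variable {x : GolayPt} {K : Subgroup (Equiv.Perm GolayPt)}

theorem Fix1.mono (h : Fix1 x K) {L : Subgroup (Equiv.Perm GolayPt)} (hL : L ≤ K) : Fix1 x L :=
  ⟨hL.trans h.le, fun σ hσ => h.fx σ (hL hσ)⟩

theorem Fix1.stb (h : Fix1 x K) (a : GolayPt) : Fix1 x (stb K a) := h.mono (stb_le K a)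

/-- the iterated stabiliser of a list of points. -/
def stbL (K : Subgroup (Equiv.Perm GolayPt)) : List GolayPt → Subgroup (Equiv.Perm GolayPt)
  | [] => K
  | a :: l => stb (stbL K l) a

theorem mem_stbL (K : Subgroup (Equiv.Perm GolayPt)) (l : List GolayPt)
    (σ : Equiv.Perm GolayPt) : σ ∈ stbL K l ↔ σ ∈ K ∧ ∀ a ∈ l, σ a = a := by
  induction l with
  | nil => simp [stbL]
  | cons b l ih =>
    rw [stbL, mem_stb, ih]
    simp only [List.mem_cons, forall_eq_or_imp]
    tauto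

theorem stbL_le (K : Subgroup (Equiv.Perm GolayPt)) (l : List GolayPt) : stbL K l ≤ K :=
  fun σ hσ => ((mem_stbL K l σ).1 hσ).1

theorem Fix1.stbL_le_fixL (h : Fix1 x K) (l : List GolayPt) : stbL K l ≤ fixL (l ++ [x]) := by
  intro σ hσ
  rw [mem_stbL] at hσ
  rw [mem_fixL]
  refine ⟨h.le hσ.1, ?_⟩
  intro y hy
  rw [List.mem_append, List.mem_singleton] at hy
  rcases hy with hy | rfl
  · exact hσ.2 y hy
  · exact h.fx σ hσ.1

theorem Fix1.card_stbL_dvd (h : Fix1 x K) (l : List GolayPt) :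
    Nat.card ↥(stbL K l) ∣ Nat.card ↥(fixL (l ++ [x])) :=
  Subgroup.card_dvd_of_le (h.stbL_le_fixL l)

theorem card_orbF_stbL (K : Subgroup (Equiv.Perm GolayPt)) (l : List GolayPt) (a : GolayPt) :
    (orbF (stbL K l) a).card * Nat.card ↥(stbL K (a :: l)) = Nat.card ↥(stbL K l) :=
  card_orbF_mul (stbL K l) a

theorem inv_stbL_eraseList {S : Finset GolayPt} (hS : Inv K S) (l : List GolayPt) :
    Inv (stbL K l) (S \ l.toFinset) := by
  intro σ hσ y hy
  rw [mem_stbL] at hσ
  rw [Finset.mem_sdiff, List.mem_toFinset] at hy ⊢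
  refine ⟨hS σ hσ.1 y hy.1, fun hc => hy.2 ?_⟩
  have := hσ.2 _ hc
  rwa [σ.injective this] at hc

end

end Cfsg.Agent.Lib.Helper7
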