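import Cfsg.Agent.Lib.Helper7.GolayChain

set_option autoImplicit false

namespace Cfsg.Agent.Lib.Helper7

open Cfsg
open scoped Pointwise

def chainProg : List (ℕ × ℕ) :=
  [(0, 0), (1, 0), (2, 0), (0, 3), (1, 3), (2, 3), (2, 4), (0, 5), (2, 5), (1, 6), (0, 7), (0, 8),
    (2, 9), (0, 10), (0, 11), (0, 12), (0, 13), (1, 13), (2, 13), (2, 16), (1, 17), (1, 1), (24, 2), (25, 0),
    (26, 2), (27, 1), (28, 0), (29, 1), (30, 2), (31, 2), (32, 2), (33, 1), (12, 100000), (35, 34), (0, 0), (37, 0),
    (38, 2), (39, 2), (40, 1), (41, 1), (42, 1), (43, 2), (44, 1), (45, 1), (46, 2), (47, 0), (4, 100000), (49, 48),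
    (2, 0), (51, 2), (52, 1), (53, 0), (54, 2), (55, 1), (56, 0), (57, 0), (58, 2), (7, 100000), (60, 59), (50, 36),
    (61, 36), (36, 50), (50, 50), (61, 50), (36, 61), (50, 61), (61, 61), (36, 62), (61, 62), (50, 63), (61, 63), (36, 64),
    (61, 65), (50, 67), (36, 68), (61, 71), (61, 74), (50, 76), (1, 0), (81, 1), (82, 1), (83, 2), (84, 1), (85, 1),
    (86, 1), (87, 2), (88, 0), (89, 0), (1, 100000), (91, 90), (68, 100000), (93, 92), (2, 1), (95, 2), (96, 2), (97, 0),
    (98, 2), (99, 1), (100, 2), (101, 2), (50, 100000), (103, 102), (0, 1), (105, 0), (106, 1), (107, 2), (108, 2), (109, 2),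
    (110, 1), (111, 1), (112, 0), (113, 2), (114, 0), (22, 100000), (116, 115), (79, 100000), (118, 117), (94, 94), (119, 94), (104, 119),
    (119, 119), (94, 120), (104, 120), (119, 120), (94, 121), (119, 121), (104, 122), (94, 123), (119, 123), (94, 124), (119, 124), (94, 125),
    (94, 126), (104, 128), (119, 129), (119, 132), (1, 2), (139, 1), (140, 2), (141, 1), (142, 1), (143, 2), (144, 2), (145, 1),
    (146, 1), (147, 0), (148, 1), (149, 1), (150, 2), (151, 1), (152, 2), (1, 100000), (154, 153), (79, 100000), (156, 155), (119, 100000),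
    (158, 157), (2, 2), (160, 0), (161, 2), (162, 0), (163, 2), (164, 1), (165, 1), (166, 1), (1, 100000), (168, 167), (72, 100000),
    (170, 169), (126, 100000), (172, 171), (1, 2), (174, 1), (175, 2), (176, 1), (177, 0), (178, 0), (179, 1), (180, 2), (72, 100000),
    (182, 181), (125, 100000), (184, 183), (173, 159), (185, 159), (159, 173), (173, 173), (159, 186), (173, 186), (185, 186), (159, 187), (173, 187),
    (173, 188), (159, 189), (173, 189), (185, 190), (173, 191), (185, 191), (185, 192), (185, 193), (173, 197), (1, 1), (204, 1), (205, 0),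
    (206, 0), (207, 1), (208, 1), (209, 1), (210, 0), (211, 1), (212, 2), (213, 2), (214, 2), (215, 1), (4, 100000), (217, 216),
    (68, 100000), (219, 218), (129, 100000), (221, 220), (194, 100000), (223, 222), (2, 0), (225, 2), (226, 2), (227, 0), (228, 1), (229, 1),
    (230, 2), (231, 2), (232, 1), (233, 0), (6, 100000), (235, 234), (67, 100000), (237, 236), (129, 100000), (239, 238), (189, 100000), (241, 240),
    (2, 1), (243, 2), (244, 2), (245, 1), (246, 2), (247, 1), (248, 0), (249, 1), (76, 100000), (251, 250), (130, 100000), (253, 252),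
    (195, 100000), (255, 254), (224, 224), (242, 224), (256, 224), (224, 242), (256, 242), (224, 256), (242, 256), (242, 257), (256, 257), (256, 258),
    (224, 259), (242, 259), (242, 260), (224, 262), (256, 262), (224, 268), (1, 0), (273, 1), (274, 0), (275, 2), (276, 2), (277, 0),
    (278, 1), (279, 0), (1, 100000), (281, 280), (72, 100000), (283, 282), (121, 100000), (285, 284), (191, 100000), (287, 286), (2, 1), (289, 2),
    (290, 0), (291, 0), (292, 2), (293, 1), (294, 1), (295, 0), (296, 0), (297, 0), (298, 1), (50, 100000), (300, 299), (124, 100000),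
    (302, 301), (173, 100000), (304, 303), (259, 100000), (306, 305), (1, 0), (308, 2), (309, 0), (310, 0), (311, 0), (312, 1), (313, 1),
    (314, 1), (315, 2), (65, 100000), (317, 316), (94, 100000), (319, 318), (195, 100000), (321, 320), (264, 100000), (323, 322), (288, 288), (307, 288),
    (288, 307), (324, 307), (307, 324), (307, 325), (288, 326), (324, 326), (288, 327), (307, 327), (324, 327), (288, 328), (0, 0), (337, 2),
    (338, 2), (339, 2), (340, 2), (341, 2), (342, 2), (343, 1), (344, 2), (345, 2), (346, 1), (347, 2), (348, 0), (21, 100000),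
    (350, 349), (78, 100000), (352, 351), (123, 100000), (354, 353), (203, 100000), (356, 355), (272, 100000), (358, 357), (327, 100000), (360, 359), (361, 361)]

/-- the store of the straight-line program, in reverse order -/
def chainPDs : List PD := slpRun2 chainProg [dC, dB, dA] 3

def chainTr0 : List (ℕ × ℕ) :=
  [(0, 1000000), (1, 362), (23, 361), (2, 359), (22, 358), (18, 357), (3, 356), (11, 355), (6, 354), (14, 353), (19, 352), (4, 351),
    (15, 350), (12, 349), (7, 348), (17, 347), (20, 346), (5, 345), (16, 344), (13, 343), (21, 342), (8, 341), (10, 340), (9, 339)]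

def chainTr1 : List (ℕ × ℕ) :=
  [(1, 1000000), (4, 326), (7, 312), (13, 301), (9, 300), (6, 299), (18, 298), (21, 297), (2, 296), (15, 295), (16, 294), (11, 293),
    (12, 292), (3, 291), (5, 290), (8, 289), (10, 288), (17, 287), (23, 286), (19, 285), (20, 284), (22, 283), (14, 282)]

def chainTr2 : List (ℕ × ℕ) :=
  [(2, 1000000), (3, 268), (7, 243), (22, 242), (13, 241), (17, 240), (19, 239), (14, 238), (8, 237), (16, 236), (18, 235), (20, 234),
    (23, 233), (15, 232), (9, 231), (5, 230), (4, 229), (21, 228), (12, 227), (10, 226), (11, 225), (6, 224)]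

def chainTr3 : List (ℕ × ℕ) :=
  [(3, 1000000), (15, 203), (23, 189), (9, 176), (18, 175), (12, 174), (14, 173), (7, 172), (21, 171), (20, 170), (11, 169), (4, 168),
    (8, 167), (6, 166), (5, 165), (19, 164), (22, 163), (16, 162), (13, 161), (10, 160), (17, 159)]

def chainTr4 : List (ℕ × ℕ) :=
  [(4, 1000000), (12, 138), (20, 120), (17, 106), (10, 105), (18, 104), (5, 103), (13, 102), (15, 101), (19, 100), (9, 99), (21, 98),
    (23, 97), (16, 96), (8, 95), (22, 94), (7, 93), (11, 92), (6, 91), (14, 90)]

def chainTr5 : List (ℕ × ℕ) :=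
  [(5, 1000000), (15, 74), (16, 55), (20, 38), (22, 37), (14, 36), (9, 35), (23, 34), (11, 33), (18, 32), (8, 31), (21, 30),
    (17, 29), (13, 28), (6, 27), (19, 26)]

def chainTr6 : List (ℕ × ℕ) :=
  [(7, 1000000), (12, 1), (10, 0)]

def chainOcts : List ℕ := [5275709, 8536111, 8978620, 13631886, 14716939, 14950785, 15762208, 15864000, 16262146]

end Cfsg.Agent.Lib.Helper7
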