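import Cfsg.Agent.Lib.Helper7.M24Order

set_option autoImplicit false

namespace Cfsg.Agent.Lib.Helper7

open Cfsg
open scoped Pointwise

theorem lower_of_transCheck' (H : Subgroup (Equiv.Perm GolayPt)) (hH : H ≤ M24) (pds : List PD)
    (hpds : ∀ d ∈ pds, RepIn H d) (l : List ℕ)
    (j : ℕ) (tr : List (ℕ × ℕ)) (hl : ∀ b ∈ l, b < 24) (hj : j < 24)
    (h : transCheck pds l j tr = true) :
    ∀ s ∈ tr.map Prod.fst, ∃ σ ∈ fixK l, σ ∈ H ∧ σ (pt j) = pt s := by
  intro s hs
  rw [List.mem_map] at hs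
  obtain ⟨pk, hpk, rfl⟩ := hs
  have h1 := List.all_eq_true.1 h pk hpk
  rw [Bool.and_eq_true, beq_iff_eq, List.all_eq_true] at h1
  obtain ⟨σ, hσ, rσ⟩ := RepIn.getD hpds pk.2
  refine ⟨σ, (mem_fixK l σ).2 ⟨hH hσ, ?_⟩, hσ, ?_⟩
  · intro b hb
    have := h1.2 b hb
    rw [beq_iff_eq] at this
    rw [rσ.apply, idx_pt b (hl b hb), this]
  · rw [rσ.apply, idx_pt j hj, h1.1]

/-- one sifting step: if the next stabiliser lies in `H` then so does this one -/
theorem fixK_le_step (H : Subgroup (Equiv.Perm GolayPt)) (l : List ℕ) (j : ℕ) (S : List ℕ)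
    (lower : ∀ s ∈ S, ∃ σ ∈ fixK l, σ ∈ H ∧ σ (pt j) = pt s)
    (upper : ∀ σ ∈ fixK l, idx (σ (pt j)) ∈ S)
    (hnext : fixK (j :: l) ≤ H) : fixK l ≤ H := by
  intro g hg
  obtain ⟨σ, hσ, hσH, h1⟩ := lower _ (upper g hg)
  rw [pt_idx] at h1
  have h2 : σ⁻¹ * g ∈ fixK (j :: l) := by
    refine ⟨(fixK l).mul_mem ((fixK l).inv_mem hσ) hg, ?_⟩
    show σ⁻¹ * g ∈ MulAction.stabilizer (Equiv.Perm GolayPt) (pt j)
    rw [MulAction.mem_stabilizer_iff, Equiv.Perm.smul_def, Equiv.Perm.mul_apply, ← h1]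
    simp
  have h3 := H.mul_mem hσH (hnext h2)
  simpa using h3

theorem chain_lower' (l : List ℕ) (j : ℕ) (tr : List (ℕ × ℕ)) (hmem : (l, j, tr) ∈ chainLevels)
    (hl : ∀ b ∈ l, b < 24) (hj : j < 24) :
    ∀ s ∈ tr.map Prod.fst, ∃ σ ∈ fixK l, σ ∈ genSub ∧ σ (pt j) = pt s :=
  lower_of_transCheck' genSub genSub_le chainPDs chainPDs_repIn l j tr hl hj
    (List.all_eq_true.1 chain_check (l, j, tr) hmem)

theorem fixK7_le : fixK [7, 5, 4, 3, 2, 1, 0] ≤ genSub := by
  rw [fixK_eq_bot_of_refine [7, 5, 4, 3, 2, 1, 0] chainOcts 5 (by decide +kernel)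
    (by decide +kernel)]
  exact bot_le

theorem fixK6_le : fixK [5, 4, 3, 2, 1, 0] ≤ genSub :=
  fixK_le_step genSub _ 7 (chainTr6.map Prod.fst)
    (chain_lower' _ _ _ (by decide +kernel) (by decide +kernel) (by decide +kernel))
    (fun σ hσ => upper_inv _ 7 _ baseOctad (by decide +kernel) (by decide +kernel)
      (by decide +kernel) σ hσ (invMask_baseOctad hσ (by decide +kernel)))
    fixK7_le

theorem fixK5_le : fixK [4, 3, 2, 1, 0] ≤ genSub :=
  fixK_le_step genSub _ 5 (chainTr5.map Prod.fst)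
    (chain_lower' _ _ _ (by decide +kernel) (by decide +kernel) (by decide +kernel))
    (fun σ hσ => upper_inv _ 5 _ baseOctad (by decide +kernel) (by decide +kernel)
      (by decide +kernel) σ hσ (invMask_baseOctad hσ (by decide +kernel)))
    fixK6_le

theorem fixK4_le : fixK [3, 2, 1, 0] ≤ genSub :=
  fixK_le_step genSub _ 4 (chainTr4.map Prod.fst)
    (chain_lower' _ _ _ (by decide +kernel) (by decide +kernel) (by decide +kernel))
    (upper_generic _ 4 _ (by decide +kernel) (by decide +kernel) (by decide +kernel)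
      (by decide +kernel))
    fixK5_le

theorem fixK3_le : fixK [2, 1, 0] ≤ genSub :=
  fixK_le_step genSub _ 3 (chainTr3.map Prod.fst)
    (chain_lower' _ _ _ (by decide +kernel) (by decide +kernel) (by decide +kernel))
    (upper_generic _ 3 _ (by decide +kernel) (by decide +kernel) (by decide +kernel)
      (by decide +kernel))
    fixK4_le

theorem fixK2_le : fixK [1, 0] ≤ genSub :=
  fixK_le_step genSub _ 2 (chainTr2.map Prod.fst)
    (chain_lower' _ _ _ (by decide +kernel) (by decide +kernel) (by decide +kernel))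
    (upper_generic _ 2 _ (by decide +kernel) (by decide +kernel) (by decide +kernel)
      (by decide +kernel))
    fixK3_le

theorem fixK1_le : fixK [0] ≤ genSub :=
  fixK_le_step genSub _ 1 (chainTr1.map Prod.fst)
    (chain_lower' _ _ _ (by decide +kernel) (by decide +kernel) (by decide +kernel))
    (upper_generic _ 1 _ (by decide +kernel) (by decide +kernel) (by decide +kernel)
      (by decide +kernel))
    fixK2_le

theorem M24_le_genSub : M24 ≤ genSub :=
  fixK_le_step genSub [] 0 (chainTr0.map Prod.fst)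
    (chain_lower' _ _ _ (by decide +kernel) (by decide +kernel) (by decide +kernel))
    (upper_generic _ 0 _ (by decide +kernel) (by decide +kernel) (by decide +kernel)
      (by decide +kernel))
    fixK1_le

theorem genSub_eq_M24 : genSub = M24 := le_antisymm genSub_le M24_le_genSub

end Cfsg.Agent.Lib.Helper7
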