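import Cfsg.Agent.Lib.Helper7.M24Data

set_option autoImplicit false

namespace Cfsg.Agent.Lib.Helper7

open Cfsg
open scoped Pointwise

theorem chainPDs_repIn : ∀ d ∈ chainPDs, RepIn genSub d := by
  apply slpRun2_repIn
  intro d hd
  simp only [List.mem_cons, List.not_mem_nil, or_false] at hd
  rcases hd with rfl | rfl | rfl
  · exact ⟨gC, gC_mem_genSub, rep_gC⟩
  · exact ⟨gB, gB_mem_genSub, rep_gB⟩
  · exact ⟨gA, gA_mem_genSub, rep_gA⟩

/-- the evaluated store -/
def chainStore : List PD := chainPDs

theorem InvMask.testBit {σ : Equiv.Perm GolayPt} {o : ℕ} (h : InvMask σ o) (p : GolayPt) :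
    o.testBit (idx (σ p)) = o.testBit (idx p) := by
  have h1 : σ p ∈ σ • finOf o ↔ p ∈ finOf o := Finset.smul_mem_smul_finset_iff σ
  rw [h, mem_finOf, mem_finOf] at h1
  cases h2 : o.testBit (idx (σ p)) <;> cases h3 : o.testBit (idx p) <;> simp_all

/-- upper bound using an invariant set -/
theorem upper_inv (l : List ℕ) (j : ℕ) (S : List ℕ) (o : ℕ) (hj : j < 24) (hjl : j ∉ l)
    (hS : (List.range 24).all
      (fun s => l.contains s || (o.testBit s != o.testBit j) || S.contains s) = true) :
    ∀ σ ∈ fixK l, InvMask σ o → idx (σ (pt j)) ∈ S := by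
  intro σ hσ hinv
  rw [mem_fixK] at hσ
  have h1 := List.all_eq_true.1 hS (idx (σ (pt j))) (List.mem_range.2 (idx_lt _))
  rw [Bool.or_eq_true, Bool.or_eq_true, List.contains_iff_mem, List.contains_iff_mem] at h1
  rcases h1 with (h1 | h1) | h1
  · exfalso
    have h2 := hσ.2 _ h1
    rw [pt_idx] at h2
    have h3 : σ (pt j) = pt j := σ.injective h2
    have h4 : idx (σ (pt j)) = j := by rw [h3, idx_pt j hj]
    rw [h4] at h1
    exact hjl h1
  · exfalso
    rw [hinv.testBit, idx_pt j hj] at h1
    simp at h1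
  · exact h1

end Cfsg.Agent.Lib.Helper7

namespace Cfsg.Agent.Lib.Helper7

open Cfsg
open scoped Pointwise

def chainLevels : List (List ℕ × ℕ × List (ℕ × ℕ)) :=
  [([], 0, chainTr0), ([0], 1, chainTr1), ([1, 0], 2, chainTr2), ([2, 1, 0], 3, chainTr3),
   ([3, 2, 1, 0], 4, chainTr4), ([4, 3, 2, 1, 0], 5, chainTr5), ([5, 4, 3, 2, 1, 0], 7, chainTr6)]

theorem chain_check :
    chainLevels.all (fun lv => transCheck chainPDs lv.1 lv.2.1 lv.2.2) = true := by
  decide +kernel

theorem chain_lower (l : List ℕ) (j : ℕ) (tr : List (ℕ × ℕ)) (hmem : (l, j, tr) ∈ chainLevels)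
    (hl : ∀ b ∈ l, b < 24) (hj : j < 24) :
    ∀ s ∈ tr.map Prod.fst, ∃ σ ∈ fixK l, σ (pt j) = pt s :=
  lower_of_transCheck chainPDs chainPDs_repIn l j tr hl hj
    (List.all_eq_true.1 chain_check (l, j, tr) hmem)

/-- the base octad `{0,1,2,3,4,7,10,12}` -/
def baseOctad : ℕ := 5279

theorem baseOctad_mem : finOf baseOctad ∈ octads :=
  finOf_mem_octads_of_check (octs := [baseOctad]) (by decide +kernel) _ List.mem_cons_self

theorem invMask_baseOctad {l : List ℕ} {σ : Equiv.Perm GolayPt} (hσ : σ ∈ fixK l)
    (h5 : 5 ≤ popc (baseOctad &&& maskOfList l)) : InvMask σ baseOctad := by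
  rw [mem_fixK] at hσ
  exact invMask_octad hσ.1 baseOctad_mem (fixedBy_maskOfList l hσ.2) h5

theorem card_fixK_7 : Nat.card (fixK [7, 5, 4, 3, 2, 1, 0]) = 1 := by
  rw [fixK_eq_bot_of_refine [7, 5, 4, 3, 2, 1, 0] chainOcts 5 (by decide +kernel)
    (by decide +kernel)]
  exact Subgroup.card_bot

theorem card_fixK_6 : Nat.card (fixK [5, 4, 3, 2, 1, 0]) = 3 := by
  rw [card_fixK_step [5, 4, 3, 2, 1, 0] 7 (chainTr6.map Prod.fst) (by decide +kernel)
    (by decide +kernel)
    (chain_lower _ _ _ (by decide +kernel) (by decide +kernel) (by decide +kernel))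
    (fun σ hσ => upper_inv _ 7 _ baseOctad (by decide +kernel) (by decide +kernel)
      (by decide +kernel) σ hσ (invMask_baseOctad hσ (by decide +kernel))),
    card_fixK_7]
  rfl

theorem card_fixK_5 : Nat.card (fixK [4, 3, 2, 1, 0]) = 48 := by
  rw [card_fixK_step [4, 3, 2, 1, 0] 5 (chainTr5.map Prod.fst) (by decide +kernel)
    (by decide +kernel)
    (chain_lower _ _ _ (by decide +kernel) (by decide +kernel) (by decide +kernel))
    (fun σ hσ => upper_inv _ 5 _ baseOctad (by decide +kernel) (by decide +kernel)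
      (by decide +kernel) σ hσ (invMask_baseOctad hσ (by decide +kernel))),
    card_fixK_6]
  rfl

theorem card_fixK_4 : Nat.card (fixK [3, 2, 1, 0]) = 960 := by
  rw [card_fixK_step [3, 2, 1, 0] 4 (chainTr4.map Prod.fst) (by decide +kernel)
    (by decide +kernel)
    (chain_lower _ _ _ (by decide +kernel) (by decide +kernel) (by decide +kernel))
    (upper_generic _ 4 _ (by decide +kernel) (by decide +kernel) (by decide +kernel)
      (by decide +kernel)),
    card_fixK_5]
  rfl

theorem card_fixK_3 : Nat.card (fixK [2, 1, 0]) = 20160 := by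
  rw [card_fixK_step [2, 1, 0] 3 (chainTr3.map Prod.fst) (by decide +kernel)
    (by decide +kernel)
    (chain_lower _ _ _ (by decide +kernel) (by decide +kernel) (by decide +kernel))
    (upper_generic _ 3 _ (by decide +kernel) (by decide +kernel) (by decide +kernel)
      (by decide +kernel)),
    card_fixK_4]
  rfl

theorem card_fixK_2 : Nat.card (fixK [1, 0]) = 443520 := by
  rw [card_fixK_step [1, 0] 2 (chainTr2.map Prod.fst) (by decide +kernel)
    (by decide +kernel)
    (chain_lower _ _ _ (by decide +kernel) (by decide +kernel) (by decide +kernel))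
    (upper_generic _ 2 _ (by decide +kernel) (by decide +kernel) (by decide +kernel)
      (by decide +kernel)),
    card_fixK_3]
  rfl

theorem card_fixK_1 : Nat.card (fixK [0]) = 10200960 := by
  rw [card_fixK_step [0] 1 (chainTr1.map Prod.fst) (by decide +kernel)
    (by decide +kernel)
    (chain_lower _ _ _ (by decide +kernel) (by decide +kernel) (by decide +kernel))
    (upper_generic _ 1 _ (by decide +kernel) (by decide +kernel) (by decide +kernel)
      (by decide +kernel)),
    card_fixK_2]
  rfl

theorem card_fixK_0 : Nat.card (fixK []) = 244823040 := by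
  rw [card_fixK_step [] 0 (chainTr0.map Prod.fst) (by decide +kernel)
    (by decide +kernel)
    (chain_lower _ _ _ (by decide +kernel) (by decide +kernel) (by decide +kernel))
    (upper_generic _ 0 _ (by decide +kernel) (by decide +kernel) (by decide +kernel)
      (by decide +kernel)),
    card_fixK_1]
  rfl

theorem card_M24 : Nat.card M24 = 244823040 := card_fixK_0

end Cfsg.Agent.Lib.Helper7
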