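import Cfsg.Agent.Lib.Helper7.OctStabData
import Cfsg.Agent.Lib.Helper7.OctadOrbit

set_option autoImplicit false

namespace Cfsg.Agent.Lib.Helper7

open Cfsg
open scoped Pointwise

theorem octPDs_repIn : ∀ d ∈ octPDs, RepIn genSub d := by
  apply slpRun2_repIn
  intro d hd
  simp only [List.mem_cons, List.not_mem_nil, or_false] at hd
  rcases hd with rfl | rfl | rfl
  · exact ⟨gC, gC_mem_genSub, rep_gC⟩
  · exact ⟨gB, gB_mem_genSub, rep_gB⟩
  · exact ⟨gA, gA_mem_genSub, rep_gA⟩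

/-- transversal check including that each element is an involution (or trivial) -/
def transCheckInv (pds : List PD) (l : List ℕ) (j : ℕ) (tr : List (ℕ × ℕ)) : Bool :=
  tr.all fun pk => ((pds.getD pk.2 PD.one).fwd.getD j 0 == pk.1) &&
    (compL (pds.getD pk.2 PD.one).fwd (pds.getD pk.2 PD.one).fwd == List.range 24) &&
    l.all fun b => (pds.getD pk.2 PD.one).fwd.getD b 0 == b

theorem lower_of_transCheckInv (pds : List PD) (hpds : ∀ d ∈ pds, RepIn genSub d) (l : List ℕ)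
    (j : ℕ) (tr : List (ℕ × ℕ)) (hl : ∀ b ∈ l, b < 24) (hj : j < 24)
    (h : transCheckInv pds l j tr = true) :
    ∀ s ∈ tr.map Prod.fst, ∃ σ ∈ fixK l, σ * σ = 1 ∧ σ (pt j) = pt s := by
  intro s hs
  rw [List.mem_map] at hs
  obtain ⟨pk, hpk, rfl⟩ := hs
  have h1 := List.all_eq_true.1 h pk hpk
  rw [Bool.and_eq_true, Bool.and_eq_true, beq_iff_eq, beq_iff_eq, List.all_eq_true] at h1
  obtain ⟨σ, hσ, rσ⟩ := RepIn.getD hpds pk.2
  refine ⟨σ, (mem_fixK l σ).2 ⟨genSub_le hσ, ?_⟩, ?_, ?_⟩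
  · intro b hb
    have := h1.2 b hb
    rw [beq_iff_eq] at this
    rw [rσ.apply, idx_pt b (hl b hb), this]
  · apply eq_of_tab_eq
    rw [tab_mul, rσ.1, h1.1.2, tab_one]
  · rw [rσ.apply, idx_pt j hj, h1.1.1]

def octL : List ℕ := [12, 10, 7, 4, 3, 2, 1, 0]

theorem oct_check : transCheckInv octPDs octL 5 octTr = true := by decide +kernel

theorem oct_lower : ∀ s ∈ octTr.map Prod.fst, ∃ σ ∈ fixK octL, σ * σ = 1 ∧ σ (pt 5) = pt s :=
  lower_of_transCheckInv octPDs octPDs_repIn octL 5 octTr (by decide +kernel) (by decide +kernel)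
    oct_check

theorem fixK_oct5_eq_bot : fixK (5 :: octL) = ⊥ := by
  rw [eq_bot_iff]
  have h7 : fixK [7, 5, 4, 3, 2, 1, 0] = ⊥ :=
    fixK_eq_bot_of_refine [7, 5, 4, 3, 2, 1, 0] chainOcts 5 (by decide +kernel) (by decide +kernel)
  rw [← h7]
  intro σ hσ
  rw [mem_fixK] at hσ ⊢
  refine ⟨hσ.1, fun b hb => hσ.2 b ?_⟩
  revert b
  decide

theorem oct_upper : ∀ σ ∈ fixK octL, idx (σ (pt 5)) ∈ octTr.map Prod.fst :=
  upper_generic octL 5 _ (by decide +kernel) (by decide +kernel) (by decide +kernel)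
    (by decide +kernel)

theorem card_fixK_oct : Nat.card (fixK octL) = 16 := by
  rw [card_fixK_step octL 5 (octTr.map Prod.fst) (by decide +kernel) (by decide +kernel)
    (fun s hs => by
      obtain ⟨σ, hσ, _, h⟩ := oct_lower s hs
      exact ⟨σ, hσ, h⟩)
    oct_upper, fixK_oct5_eq_bot, Subgroup.card_bot]
  rfl

theorem sq_eq_one_of_mem_fixK_oct {g : Equiv.Perm GolayPt} (hg : g ∈ fixK octL) : g * g = 1 := by
  obtain ⟨σ, hσ, hsq, h1⟩ := oct_lower _ (oct_upper g hg)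
  rw [pt_idx] at h1
  have h2 : σ⁻¹ * g ∈ fixK (5 :: octL) := by
    refine ⟨(fixK octL).mul_mem ((fixK octL).inv_mem hσ) hg, ?_⟩
    show σ⁻¹ * g ∈ MulAction.stabilizer (Equiv.Perm GolayPt) (pt 5)
    rw [MulAction.mem_stabilizer_iff, Equiv.Perm.smul_def, Equiv.Perm.mul_apply, ← h1]
    simp
  rw [fixK_oct5_eq_bot, Subgroup.mem_bot] at h2
  have : g = σ := by
    have := congrArg (fun x => σ * x) h2
    simpa using this
  rw [this, hsq]

/-- the pointwise stabiliser of the base octad -/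
theorem fixK_oct_eq :
    M24 ⊓ fixingSubgroup (Equiv.Perm GolayPt) (↑(finOf baseOctad) : Set GolayPt) = fixK octL := by
  ext σ
  rw [Subgroup.mem_inf, mem_fixingSubgroup_iff, mem_fixK]
  constructor
  · rintro ⟨h1, h2⟩
    refine ⟨h1, fun b hb => ?_⟩
    have hb24 : b < 24 := (by decide : ∀ b ∈ octL, b < 24) b hb
    have := h2 (pt b) (by
      rw [Finset.mem_coe, mem_finOf, idx_pt b hb24]
      exact (by decide +kernel : ∀ b ∈ octL, baseOctad.testBit b = true) b hb)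
    exact this
  · rintro ⟨h1, h2⟩
    refine ⟨h1, fun y hy => ?_⟩
    rw [Finset.mem_coe, mem_finOf] at hy
    have hmem : idx y ∈ octL :=
      (by decide +kernel : ∀ s < 24, baseOctad.testBit s = true → s ∈ octL) _ (idx_lt y) hy
    have := h2 _ hmem
    rw [pt_idx] at this
    exact this

end Cfsg.Agent.Lib.Helper7
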