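import Cfsg.Agent.Lib.Helper7.M22Stab
import Cfsg.Agent.Lib.Helper7.AutOctads
import Cfsg.Agent.S0381

set_option autoImplicit false

namespace Cfsg.Agent.Lib.Helper7

open Cfsg
open scoped Pointwise

/-! ### octads through five points -/

theorem exists_octad_of_nodup5 (l : List GolayPt) (hlen : l.length = 5) (hnd : l.Nodup) :
    ∃ o ∈ octads, (∀ x ∈ l, x ∈ o) ∧ ∀ o' ∈ octads, (∀ x ∈ l, x ∈ o') → o' = o := by
  have hc : l.toFinset.card = 5 := by rw [List.toFinset_card_of_nodup hnd, hlen]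
  obtain ⟨o, ⟨ho, hso⟩, huniq⟩ := isSteinerSystem_octads.2 l.toFinset hc
  refine ⟨o, ho, fun x hx => hso (List.mem_toFinset.2 hx), ?_⟩
  intro o' ho' hl
  exact huniq o' ⟨ho', fun x hx => hl x (List.mem_toFinset.1 hx)⟩

theorem smul_octad_eq_of_fix5 {σ : Equiv.Perm GolayPt} (hσ : σ ∈ M24) {o : Finset GolayPt}
    (ho : o ∈ octads) (l : List GolayPt) (hlen : l.length = 5) (hnd : l.Nodup)
    (hlo : ∀ x ∈ l, x ∈ o) (hfix : ∀ x ∈ l, σ x = x) : σ • o = o := by
  obtain ⟨o1, -, -, huniq⟩ := exists_octad_of_nodup5 l hlen hnd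
  have h1 := huniq o ho hlo
  have h2 := huniq _ (smul_mem_octads hσ ho) (by
    intro x hx
    rw [← hfix x hx]
    exact Finset.smul_mem_smul_finset (hlo x hx))
  rw [h2, h1]

theorem apply_mem_of_smul_eq {σ : Equiv.Perm GolayPt} {o : Finset GolayPt} (h : σ • o = o)
    {y : GolayPt} (hy : y ∈ o) : σ y ∈ o := by
  rw [← h]
  exact Finset.smul_mem_smul_finset hy

/-! ### transport to the base points -/

/-- the five base points. -/
def base5 : List GolayPt := [pt 4, pt 3, pt 2, pt 1, pt 0]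

theorem exists_map_base5 (l : List GolayPt) (hlen : l.length = 5) (hnd : l.Nodup) :
    ∃ g ∈ M24, l = base5.map g := by
  obtain ⟨g1, hg1, h1⟩ := Cfsg.Agent.Lib.Helper26.isTransOn5 l (by rw [hlen]; rfl) hnd
  obtain ⟨g2, hg2, h2⟩ := Cfsg.Agent.Lib.Helper26.isTransOn5 base5 rfl (by decide)
  refine ⟨g1 * g2⁻¹, M24.mul_mem hg1 (M24.inv_mem hg2), ?_⟩
  rw [h1, h2, List.map_map]
  apply List.map_congr_left
  intro j _
  simp

/-- the stabiliser of five points and a sixth point outside their octad has order 3. -/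
theorem card_fixL6_eq_3 (l5 : List GolayPt) (hlen : l5.length = 5) (hnd : l5.Nodup) (z : GolayPt)
    {o : Finset GolayPt} (ho : o ∈ octads) (hlo : ∀ x ∈ l5, x ∈ o) (hz : z ∉ o) :
    Nat.card ↥(fixL (z :: l5)) = 3 := by
  obtain ⟨g, hg, hl⟩ := exists_map_base5 l5 hlen hnd
  -- the octad is the image of the base octad
  have hbase : ∀ x ∈ base5, x ∈ finOf baseOctad := by decide +kernel
  have hgo : g • finOf baseOctad = o := by
    obtain ⟨o1, -, -, huniq⟩ := exists_octad_of_nodup5 l5 hlen hnd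
    have h1 := huniq o ho hlo
    have h2 := huniq _ (smul_mem_octads hg baseOctad_mem) (by
      intro x hx
      rw [hl, List.mem_map] at hx
      obtain ⟨y, hy, rfl⟩ := hx
      exact Finset.smul_mem_smul_finset (hbase y hy))
    rw [h2, h1]
  -- the preimage of `z` is outside the base octad
  have hz' : g⁻¹ z ∉ finOf baseOctad := by
    intro hc
    apply hz
    rw [← hgo]
    have := Finset.smul_mem_smul_finset (a := g) hc
    simpa using this
  rw [mem_finOf] at hz'
  have hkeys : ∀ s < 24, baseOctad.testBit s ≠ true → s ∈ chainTr5.map Prod.fst := by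
    decide +kernel
  obtain ⟨σ, hσ, hσ5⟩ := chain_lower [4, 3, 2, 1, 0] 5 chainTr5 (by decide +kernel)
    (by decide +kernel) (by decide +kernel) (idx (g⁻¹ z)) (hkeys _ (idx_lt _) hz')
  rw [pt_idx] at hσ5
  rw [mem_fixK] at hσ
  have hl6 : z :: l5 = (pt 5 :: base5).map (g * σ) := by
    rw [List.map_cons, Equiv.Perm.mul_apply, hσ5]
    congr 1
    · simp
    · rw [hl]
      apply List.map_congr_left
      intro y hy
      rw [Equiv.Perm.mul_apply]
      congr 1
      simp only [base5, List.mem_cons, List.not_mem_nil, or_false] at hy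
      rcases hy with rfl | rfl | rfl | rfl | rfl
      · exact (hσ.2 4 (by simp)).symm
      · exact (hσ.2 3 (by simp)).symm
      · exact (hσ.2 2 (by simp)).symm
      · exact (hσ.2 1 (by simp)).symm
      · exact (hσ.2 0 (by simp)).symm
  rw [hl6, card_fixL_map (M24.mul_mem hg hσ.1)]
  have : (pt 5 :: base5) = [5, 4, 3, 2, 1, 0].map pt := rfl
  rw [this, fixL_map_pt]
  exact card_fixK_6

/-- the stabiliser of six points of an octad has order dividing 16. -/
theorem card_fixL6_dvd_16 (l5 : List GolayPt) (hlen : l5.length = 5) (hnd : l5.Nodup) (z : GolayPt)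
    (hzl : z ∉ l5) {o : Finset GolayPt} (ho : o ∈ octads) (hlo : ∀ x ∈ l5, x ∈ o) (hz : z ∈ o) :
    Nat.card ↥(fixL (z :: l5)) ∣ 16 := by
  have hle : fixL (z :: l5) ≤ fixL l5 := inf_le_left
  have h48 : Nat.card ↥(fixL (z :: l5)) ∣ 48 := by
    rw [← card_fixL5 l5 hlen hnd]
    exact Subgroup.card_dvd_of_le hle
  have h3 : ¬ 3 ∣ Nat.card ↥(fixL (z :: l5)) := by
    intro h3
    have : Fact (Nat.Prime 3) := ⟨by norm_num⟩
    obtain ⟨t, ht, hord⟩ := exists_mem_orderOf_eq_prime _ 3 h3
    rw [mem_fixL] at ht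
    have hto : t • o = o := smul_octad_eq_of_fix5 ht.1 ho l5 hlen hnd hlo
      (fun x hx => ht.2 x (List.mem_cons_of_mem _ hx))
    have hinv : ∀ s ∈ Subgroup.zpowers t, ∀ x ∈ o, s x ∈ o := by
      intro s hs x hx
      obtain ⟨n, rfl⟩ := Subgroup.mem_zpowers_iff.1 hs
      have : (t ^ n) • o = o := by
        have hmem : t ∈ MulAction.stabilizer (Equiv.Perm GolayPt) o :=
          MulAction.mem_stabilizer_iff.2 hto
        exact MulAction.mem_stabilizer_iff.1 (Subgroup.zpow_mem _ hmem n)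
      exact apply_mem_of_smul_eq this hx
    have hmod := card_modEq_card_inter_fixF (Subgroup.zpowers t) (isPGroup_zpowers hord) o hinv
    rw [fixF_zpowers, ho.2] at hmod
    have hsub : (z :: l5).toFinset ⊆ o ∩ fixP t := by
      intro x hx
      rw [List.mem_toFinset] at hx
      rw [Finset.mem_inter, mem_fixP]
      refine ⟨?_, ht.2 x hx⟩
      rcases List.mem_cons.1 hx with rfl | hx'
      · exact hz
      · exact hlo x hx'
    have h6 : 6 ≤ (o ∩ fixP t).card := by
      have := Finset.card_le_card hsub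
      rwa [List.toFinset_card_of_nodup (List.nodup_cons.2 ⟨hzl, hnd⟩), List.length_cons, hlen]
        at this
    have h8 : (o ∩ fixP t).card ≤ 8 := by
      rw [← ho.2]
      exact Finset.card_le_card Finset.inter_subset_left
    have hmod' : 8 % 3 = (o ∩ fixP t).card % 3 := hmod
    have h8' : (o ∩ fixP t).card = 8 := by omega
    have hall : o ∩ fixP t = o :=
      Finset.eq_of_subset_of_card_le Finset.inter_subset_left (by rw [h8', ho.2])
    have hmem : t ∈ M24 ⊓ fixingSubgroup (Equiv.Perm GolayPt) (o : Set GolayPt) := by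
      rw [Subgroup.mem_inf, mem_fixingSubgroup_iff]
      refine ⟨ht.1, fun y hy => ?_⟩
      have : y ∈ o ∩ fixP t := by
        rw [hall]
        exact Finset.mem_coe.1 hy
      exact (mem_fixP t y).1 (Finset.mem_inter.1 this).2
    have hdvd := Subgroup.orderOf_dvd_natCard _ hmem
    rw [(Cfsg.Agent.S0381.result o ho).1, hord] at hdvd
    omega
  have hcop : Nat.Coprime (Nat.card ↥(fixL (z :: l5))) 3 := by
    rw [Nat.coprime_comm]
    exact (Nat.Prime.coprime_iff_not_dvd (by norm_num)).2 h3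
  exact hcop.dvd_of_dvd_mul_right (show Nat.card ↥(fixL (z :: l5)) ∣ 16 * 3 from h48)

/-- the order of the stabiliser of six points. -/
theorem card_fixL6_cases (l5 : List GolayPt) (hlen : l5.length = 5) (hnd : l5.Nodup) (z : GolayPt)
    (hzl : z ∉ l5) : Nat.card ↥(fixL (z :: l5)) ∣ 16 ∨ Nat.card ↥(fixL (z :: l5)) = 3 := by
  obtain ⟨o, ho, hlo, -⟩ := exists_octad_of_nodup5 l5 hlen hnd
  by_cases hz : z ∈ o
  · exact Or.inl (card_fixL6_dvd_16 l5 hlen hnd z hzl ho hlo hz)
  · exact Or.inr (card_fixL6_eq_3 l5 hlen hnd z ho hlo hz)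

end Cfsg.Agent.Lib.Helper7
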