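import Cfsg.Agent.Lib.Helper7.M24Gen

set_option autoImplicit false

namespace Cfsg.Agent.Lib.Helper7

open Cfsg
open scoped Pointwise

def octProg : List (ℕ × ℕ) :=
  [(0, 0), (1, 0), (2, 0), (0, 3), (1, 3), (2, 4), (0, 5), (1, 6), (0, 7), (0, 9), (0, 10), (2, 11),
    (0, 0), (15, 1), (16, 0), (17, 2), (18, 2), (19, 1), (20, 1), (21, 2), (0, 100000), (23, 22), (2, 0), (25, 2),
    (26, 2), (27, 0), (28, 1), (29, 2), (30, 1), (31, 2), (32, 2), (33, 1), (34, 2), (1, 100000), (36, 35), (2, 1),
    (38, 0), (39, 0), (40, 1), (41, 1), (42, 1), (43, 1), (44, 1), (45, 2), (46, 0), (47, 2), (48, 0), (49, 0),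
    (50, 0), (51, 0), (3, 100000), (53, 52), (1, 0), (55, 0), (56, 2), (57, 2), (58, 1), (59, 2), (60, 2), (61, 2),
    (62, 0), (63, 1), (7, 100000), (65, 64), (37, 24), (66, 24), (37, 37), (54, 37), (24, 54), (37, 66), (54, 66), (54, 67),
    (37, 68), (54, 70), (66, 70), (24, 71), (2, 2), (79, 1), (80, 2), (81, 1), (82, 1), (83, 1), (84, 0), (85, 1),
    (86, 2), (87, 2), (88, 1), (89, 2), (90, 2), (91, 0), (12, 100000), (93, 92), (77, 100000), (95, 94), (1, 2), (97, 0),
    (98, 1), (99, 2), (100, 1), (101, 2), (102, 2), (103, 0), (104, 1), (105, 2), (106, 0), (107, 0), (108, 2), (109, 0),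
    (1, 100000), (111, 110), (75, 100000), (113, 112), (2, 2), (115, 0), (116, 1), (117, 2), (118, 0), (119, 2), (120, 0), (121, 2),
    (0, 100000), (123, 122), (66, 100000), (125, 124), (1, 0), (127, 0), (128, 0), (129, 1), (130, 2), (131, 0), (132, 0), (133, 1),
    (134, 1), (135, 0), (8, 100000), (137, 136), (69, 100000), (139, 138), (96, 96), (114, 96), (126, 96), (140, 96), (114, 114), (140, 140),
    (114, 141), (126, 142), (140, 143), (96, 144), (126, 144), (126, 145), (2, 0), (153, 0), (154, 0), (155, 0), (156, 0), (157, 0),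
    (158, 2), (159, 0), (160, 1), (161, 1), (162, 0), (14, 100000), (164, 163), (74, 100000), (166, 165), (141, 100000), (168, 167), (2, 0),
    (170, 2), (171, 2), (172, 0), (173, 1), (174, 2), (175, 0), (176, 0), (177, 0), (178, 0), (7, 100000), (180, 179), (76, 100000),
    (182, 181), (146, 100000), (184, 183), (1, 2), (186, 2), (187, 2), (188, 2), (189, 0), (190, 1), (191, 1), (192, 1), (66, 100000),
    (194, 193), (96, 100000), (196, 195), (1, 1), (198, 2), (199, 2), (200, 2), (201, 0), (202, 1), (203, 1), (204, 2), (3, 100000),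
    (206, 205), (75, 100000), (208, 207), (148, 100000), (210, 209), (197, 169), (197, 185), (185, 197), (169, 211), (1, 2), (216, 1), (217, 0),
    (218, 1), (219, 1), (220, 1), (221, 2), (222, 1), (223, 2), (224, 0), (225, 2), (226, 2), (227, 0), (228, 2), (12, 100000),
    (230, 229), (24, 100000), (232, 231), (147, 100000), (234, 233), (197, 100000), (236, 235), (0, 0), (238, 2), (239, 1), (240, 0), (241, 1),
    (242, 0), (243, 2), (244, 0), (7, 100000), (246, 245), (73, 100000), (248, 247), (213, 100000), (250, 249), (251, 237), (237, 251), (237, 252),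
    (1, 1), (255, 2), (256, 2), (257, 1), (258, 0), (259, 2), (260, 0), (261, 2), (262, 1), (263, 1), (264, 2), (265, 0),
    (266, 2), (267, 2), (268, 0), (13, 100000), (270, 269), (70, 100000), (272, 271), (150, 100000), (274, 273), (214, 100000), (276, 275), (254, 100000),
    (278, 277), (0, 0), (280, 1), (281, 2), (282, 0), (283, 1), (284, 1), (285, 2), (286, 2), (287, 0), (288, 1), (289, 1),
    (290, 2), (8, 100000), (292, 291), (72, 100000), (294, 293), (149, 100000), (296, 295), (212, 100000), (298, 297), (254, 100000), (300, 299), (279, 100000),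
    (302, 301), (2, 1), (304, 2), (305, 0), (306, 1), (307, 2), (308, 0), (309, 1), (310, 1), (6, 100000), (312, 311), (37, 100000),
    (314, 313), (151, 100000), (316, 315), (214, 100000), (318, 317), (252, 100000), (320, 319), (2, 2), (322, 0), (323, 1), (324, 2), (325, 1),
    (326, 2), (327, 0), (328, 1), (329, 1), (330, 2), (331, 2), (12, 100000), (333, 332), (77, 100000), (335, 334), (96, 100000), (337, 336),
    (211, 100000), (339, 338), (254, 100000), (341, 340), (279, 100000), (343, 342), (2, 0), (345, 0), (346, 0), (347, 1), (348, 0), (349, 2),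
    (350, 2), (351, 2), (352, 1), (353, 0), (354, 0), (355, 1), (356, 2), (357, 0), (358, 1), (0, 100000), (360, 359), (78, 100000),
    (362, 361), (152, 100000), (364, 363), (215, 100000), (366, 365), (253, 100000), (368, 367), (279, 100000), (370, 369), (321, 303), (344, 303), (371, 303),
    (344, 321), (371, 321), (371, 344), (344, 372), (371, 372), (371, 373), (371, 375), (371, 378)]

/-- the store of the straight-line program, in reverse order -/
def octPDs : List PD := slpRun2 octProg [dC, dB, dA] 3

def octTr : List (ℕ × ℕ) :=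
  [(5, 1000000), (14, 79), (9, 61), (19, 38), (21, 11), (6, 10), (8, 9), (13, 8), (18, 7), (15, 6), (11, 5), (20, 4),
    (16, 3), (22, 2), (17, 1), (23, 0)]

end Cfsg.Agent.Lib.Helper7
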