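import Mathlib

set_option autoImplicit false

namespace Cfsg.Agent.Lib.Helper7

open MulAction Subgroup

section

variable {G : Type*} [Group G] [Finite G] {Ω : Type*} [MulAction G Ω] [Fintype Ω]
  [FaithfulSMul G Ω]

/-- a subgroup of prime order `p` acting faithfully on `p` points is transitive -/
theorem transitive_of_prime_card {p : ℕ} (hp : p.Prime) (hΩ : Fintype.card Ω = p)
    (R : Subgroup G) (hR : Nat.card R = p) : ∀ a b : Ω, ∃ g ∈ R, g • a = b := by
  -- a nontrivial element and a point it moves
  have hne : R ≠ ⊥ := by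
    intro h
    rw [h, Subgroup.card_bot] at hR
    exact hp.one_lt.ne hR
  obtain ⟨g, hg, hg1⟩ : ∃ g ∈ R, g ≠ 1 := by
    obtain ⟨g, hg⟩ := (Subgroup.ne_bot_iff_exists_ne_one).1 hne
    exact ⟨g.1, g.2, fun h => hg (Subtype.ext h)⟩
  have hx : ∃ x : Ω, g • x ≠ x := by
    by_contra hcon
    simp only [not_exists, not_not] at hcon
    apply hg1
    apply FaithfulSMul.eq_of_smul_eq_smul (α := Ω)
    intro a
    rw [hcon a, one_smul]
  obtain ⟨x, hx⟩ := hx
  -- the orbit of `x` under `R` is everything
  have hidx : (stabilizer R x).index ∣ p := hR ▸ Subgroup.index_dvd_card _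
  have hidx1 : (stabilizer R x).index ≠ 1 := by
    intro h
    rw [Subgroup.index_eq_one] at h
    have : (⟨g, hg⟩ : R) ∈ stabilizer R x := by rw [h]; trivial
    rw [mem_stabilizer_iff] at this
    exact hx this
  have hidxp : (stabilizer R x).index = p := (Nat.dvd_prime hp).1 hidx |>.resolve_left hidx1
  rw [index_stabilizer] at hidxp
  have horb : orbit R x = Set.univ := by
    rw [Set.eq_univ_iff_ncard, hidxp, ← hΩ, Nat.card_eq_fintype_card]
  intro a b
  have ha : a ∈ orbit R x := horb ▸ Set.mem_univ a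
  have hb : b ∈ orbit R x := horb ▸ Set.mem_univ b
  obtain ⟨g1, rfl⟩ := ha
  obtain ⟨g2, rfl⟩ := hb
  refine ⟨g2.1 * g1.1⁻¹, R.mul_mem g2.2 (R.inv_mem g1.2), ?_⟩
  rw [mul_smul]
  show (g2 : G) • (g1 : G)⁻¹ • (g1 : G) • x = (g2 : G) • x
  rw [inv_smul_smul]

omit [Finite G] [Fintype Ω] in
/-- a transitive abelian subgroup contains its centraliser, in a faithful action -/
theorem centralizer_le_of_transitive (R : Subgroup G) (hR : ∀ a b : Ω, ∃ g ∈ R, g • a = b)
    (hab : ∀ a ∈ R, ∀ b ∈ R, a * b = b * a) [Nonempty Ω] : centralizer (R : Set G) ≤ R := by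
  intro h hh
  obtain ⟨x⟩ := ‹Nonempty Ω›
  obtain ⟨g, hg, hgx⟩ := hR x (h • x)
  have hkx : (g⁻¹ * h) • x = x := by rw [mul_smul, ← hgx, inv_smul_smul]
  have hk : g⁻¹ * h = 1 := by
    apply FaithfulSMul.eq_of_smul_eq_smul (α := Ω)
    intro y
    obtain ⟨g', hg', rfl⟩ := hR x y
    have hcomm : (g⁻¹ * h) * g' = g' * (g⁻¹ * h) := by
      have h1 : h * g' = g' * h := (mem_centralizer_iff.1 hh g' hg').symm
      have h2 : g⁻¹ * g' = g' * g⁻¹ := hab _ (R.inv_mem hg) _ hg'
      rw [mul_assoc, h1, ← mul_assoc, h2, mul_assoc]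
    rw [one_smul, ← mul_smul, hcomm, mul_smul, hkx]
  have : h = g := by
    have := congrArg (fun z => g * z) hk
    simpa using this
  rw [this]
  exact hg

/-- the normaliser of a subgroup of prime order `p` in a faithful group of degree `p` -/
theorem card_normalizer_of_prime {p : ℕ} (hp : p.Prime) (hΩ : Fintype.card Ω = p)
    (R : Subgroup G) (hR : Nat.card R = p) :
    ∃ r, r ∣ p - 1 ∧ Nat.card (normalizer (R : Set G)) = p * r := by
  have : Fact p.Prime := ⟨hp⟩
  have : Nonempty Ω := by
    rw [← Fintype.card_pos_iff, hΩ]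
    exact hp.pos
  have hcyc : IsCyclic R := isCyclic_of_prime_card hR
  have hcomm : IsMulCommutative R := inferInstance
  have hab : ∀ a ∈ R, ∀ b ∈ R, a * b = b * a := by
    intro a ha b hb
    have := hcomm.is_comm.comm (⟨a, ha⟩ : R) ⟨b, hb⟩
    exact congrArg Subtype.val this
  have hcent : centralizer (R : Set G) = R :=
    le_antisymm (centralizer_le_of_transitive R (transitive_of_prime_card hp hΩ R hR) hab)
      R.le_centralizer
  have h1 := Subgroup.card_mul_index R.normalizerMonoidHom.ker
  rw [Subgroup.index_ker, normalizerMonoidHom_ker, hcent] at h1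
  have h2 : Nat.card (R.subgroupOf (normalizer (R : Set G))) = p := by
    rw [← hR]
    exact Nat.card_congr (Subgroup.subgroupOfEquivOfLe le_normalizer).toEquiv
  have h3 : Nat.card R.normalizerMonoidHom.range ∣ p - 1 := by
    have := Subgroup.card_subgroup_dvd_card R.normalizerMonoidHom.range
    rwa [IsCyclic.card_mulAut, hR, Nat.totient_prime hp] at this
  exact ⟨_, h3, by rw [← h1, h2]⟩

omit [Finite G] [Fintype Ω] in
/-- in a faithful preprimitive action, nontrivial normal subgroups are transitive -/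
theorem normal_transitive [IsPreprimitive G Ω] (N : Subgroup G) [N.Normal] (hN : N ≠ ⊥) :
    ∀ a b : Ω, ∃ g ∈ N, g • a = b := by
  have hfix : fixedPoints N Ω ≠ Set.univ := by
    intro h
    apply hN
    rw [eq_bot_iff]
    intro n hn
    rw [Subgroup.mem_bot]
    apply FaithfulSMul.eq_of_smul_eq_smul (α := Ω)
    intro a
    have : a ∈ fixedPoints N Ω := h ▸ Set.mem_univ a
    rw [one_smul]
    exact this ⟨n, hn⟩
  have := IsQuasiPreprimitive.isPretransitive_of_normal (G := G) (X := Ω) hfix
  intro a b
  obtain ⟨g, hg⟩ := exists_smul_eq N a b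
  exact ⟨g.1, g.2, hg⟩

omit [FaithfulSMul G Ω] in
/-- the degree divides the order of a transitive subgroup -/
theorem card_dvd_of_transitive (N : Subgroup G) (hN : ∀ a b : Ω, ∃ g ∈ N, g • a = b)
    [Nonempty Ω] : Fintype.card Ω ∣ Nat.card N := by
  obtain ⟨x⟩ := ‹Nonempty Ω›
  have : IsPretransitive N Ω := ⟨fun a b => by
    obtain ⟨g, hg, h⟩ := hN a b
    exact ⟨⟨g, hg⟩, h⟩⟩
  have h1 := index_stabilizer_of_transitive N x
  rw [Nat.card_eq_fintype_card] at h1
  rw [← h1]
  exact Subgroup.index_dvd_card _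

end

/-- elements killed by the order of a normal subgroup of coprime prime index lie in it -/
theorem mem_of_pow_card_eq_one {N : Type*} [Group N] [Finite N] (K : Subgroup N) [K.Normal]
    {p : ℕ} (hp : p.Prime) (hidx : K.index = p) (hcop : Nat.Coprime (Nat.card K) p) (n : N)
    (hn : n ^ Nat.card K = 1) : n ∈ K := by
  rw [← QuotientGroup.eq_one_iff]
  have h1 : (n : N ⧸ K) ^ Nat.card K = 1 := by
    rw [← QuotientGroup.mk_pow, hn, QuotientGroup.mk_one]
  have h2 : (n : N ⧸ K) ^ p = 1 := by
    rw [← hidx, Subgroup.index_eq_card]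
    exact pow_card_eq_one'
  have h3 : orderOf (n : N ⧸ K) ∣ Nat.gcd (Nat.card K) p :=
    Nat.dvd_gcd (orderOf_dvd_of_pow_eq_one h1) (orderOf_dvd_of_pow_eq_one h2)
  rw [hcop, Nat.dvd_one] at h3
  exact orderOf_eq_one_iff.1 h3

end Cfsg.Agent.Lib.Helper7

namespace Cfsg.Agent.Lib.Helper7

open MulAction Subgroup

/-- A simplicity criterion: a faithful primitive group whose order is exactly divisible by a prime
`p` dividing the degree, in which subgroups of order `p` have normalisers of order `p * q` with
`q` prime, is simple. -/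
theorem isSimpleGroup_of_sylow_normalizer {G : Type*} [Group G] [Finite G] {Ω : Type*}
    [MulAction G Ω] [Fintype Ω] [FaithfulSMul G Ω] [IsPreprimitive G Ω]
    (p q m : ℕ) (hp : p.Prime) (hq : q.Prime) (hΩ : p ∣ Fintype.card Ω)
    (hcard : Nat.card G = p * m) (hpm : ¬ p ∣ m) (hqm : q < m)
    (hnorm : ∀ R : Subgroup G, Nat.card R = p → Nat.card (normalizer (R : Set G)) = p * q) :
    IsSimpleGroup G := by
  have hpfact : Fact p.Prime := ⟨hp⟩
  have hΩne : Nonempty Ω := by
    by_contra h
    rw [not_nonempty_iff] at h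
    have hG : Nat.card G = 1 := by
      rw [Nat.card_eq_one_iff_unique]
      refine ⟨⟨fun a b => ?_⟩, ⟨1⟩⟩
      apply FaithfulSMul.eq_of_smul_eq_smul (α := Ω)
      intro x
      exact (IsEmpty.false x).elim
    rw [hG] at hcard
    have := Nat.eq_one_of_mul_eq_one_right hcard.symm
    exact hp.one_lt.ne' this
  have hm0 : 0 < m := by
    rcases Nat.eq_zero_or_pos m with h | h
    · exfalso; apply hpm; rw [h]; exact dvd_zero p
    · exact h
  have hnontriv : Nontrivial G := by
    rw [← Finite.one_lt_card_iff_nontrivial, hcard]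
    calc 1 < p := hp.one_lt
      _ ≤ p * m := Nat.le_mul_of_pos_right p hm0
  refine { toNontrivial := hnontriv, eq_bot_or_eq_top_of_normal := ?_ }
  intro N hNnormal
  by_cases hNbot : N = ⊥
  · exact Or.inl hNbot
  right
  -- `N` is transitive, so `p` divides its order
  have hNtrans := normal_transitive (Ω := Ω) N hNbot
  have hpN : p ∣ Nat.card N := hΩ.trans (card_dvd_of_transitive N hNtrans)
  -- a subgroup `R ≤ N` of order `p`
  obtain ⟨x, hx⟩ := exists_prime_orderOf_dvd_card' p hpN
  set R : Subgroup G := zpowers (x : G) with hRdef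
  have hRcard : Nat.card R = p := by
    rw [hRdef, Nat.card_zpowers, Subgroup.orderOf_coe, hx]
  have hRN : R ≤ N := by
    rw [hRdef, zpowers_le]
    exact x.2
  -- `R` is a Sylow subgroup
  have hfac : (Nat.card G).factorization p = 1 := by
    rw [hcard, Nat.factorization_mul hp.ne_zero hm0.ne', Finsupp.add_apply,
      hp.factorization_self, Nat.factorization_eq_zero_of_not_dvd hpm]
  let P : Sylow p G := Sylow.ofCard R (by rw [hRcard, hfac, pow_one])
  have hPR : (P : Subgroup G) = R := Sylow.coe_ofCard R _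
  have hfrat : normalizer ((P : Subgroup G) : Set G) ⊔ N = ⊤ :=
    Sylow.normalizer_sup_eq_top' P (by rw [hPR]; exact hRN)
  rw [hPR] at hfrat
  set M : Subgroup G := normalizer (R : Set G) with hMdef
  have hMcard : Nat.card M = p * q := hnorm R hRcard
  -- the index of `N` equals the index of `N ⊓ M` in `M`
  have hidx : N.index = N.relIndex M := by
    rw [← relIndex_top_right, ← hfrat, relIndex_sup_right]
  have hcardNM : Nat.card ↥(N ⊓ M) * N.index = p * q := by
    rw [hidx, ← hMcard, ← inf_relIndex_right N M]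
    have h1 := Subgroup.card_mul_index ((N ⊓ M).subgroupOf M)
    rw [← h1]
    congr 1
    exact (Nat.card_congr (Subgroup.subgroupOfEquivOfLe (inf_le_right : N ⊓ M ≤ M)).toEquiv).symm
  have hRNM : R ≤ N ⊓ M := le_inf hRN le_normalizer
  have hpNM : p ∣ Nat.card ↥(N ⊓ M) := by
    rw [← hRcard]
    exact Subgroup.card_dvd_of_le hRNM
  -- so the index of `N` divides `q`
  have hidxq : N.index ∣ q := by
    obtain ⟨t, ht⟩ := hpNM
    rw [ht, mul_assoc] at hcardNM
    have := Nat.eq_of_mul_eq_mul_left hp.pos hcardNM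
    exact ⟨t, by rw [← this, mul_comm]⟩
  rcases (Nat.dvd_prime hq).1 hidxq with h1 | hidxq'
  · exact Subgroup.index_eq_one.1 h1
  -- the remaining case: `N` has index `q`; derive a contradiction
  exfalso
  rw [hidxq'] at hcardNM
  have hNMcard : Nat.card ↥(N ⊓ M) = p := Nat.eq_of_mul_eq_mul_right hq.pos hcardNM
  have hNM : N ⊓ M = R := by
    symm
    apply Subgroup.eq_of_le_of_card_ge hRNM
    rw [hNMcard, hRcard]
  -- order of `N`
  have hNcard : Nat.card N * q = p * m := by
    rw [← hidxq', Subgroup.card_mul_index, hcard]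
  obtain ⟨t, ht⟩ := hpN
  have hmt : m = t * q := by
    rw [ht, mul_assoc] at hNcard
    exact (Nat.eq_of_mul_eq_mul_left hp.pos hNcard).symm
  have ht1 : 1 < t := by
    by_contra hcon
    have : t ≤ 1 := not_lt.1 hcon
    have : t * q ≤ q := by nlinarith
    omega
  have hpt : ¬ p ∣ t := fun h => hpm (hmt ▸ Dvd.dvd.mul_right h q)
  -- Burnside's transfer in `N`
  let PN : Sylow p N := P.subtype (by rw [hPR]; exact hRN)
  have hPN : (PN : Subgroup N) = R.subgroupOf N := by
    rw [Sylow.coe_subtype, hPR]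
  have hPNcard : Nat.card (PN : Subgroup N) = p := by
    rw [hPN, ← hRcard]
    exact Nat.card_congr (Subgroup.subgroupOfEquivOfLe hRN).toEquiv
  have hcycPN : IsCyclic (PN : Subgroup N) := isCyclic_of_prime_card hPNcard
  have hcommPN : IsMulCommutative (PN : Subgroup N) := inferInstance
  have hburn : normalizer ((PN : Subgroup N) : Set N) ≤ centralizer ((PN : Subgroup N) : Set N) := by
    intro n hn
    have hnR : (n : G) ∈ R := by
      rw [← hNM]
      refine ⟨n.2, ?_⟩
      show (n : G) ∈ normalizer (R : Set G)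
      rw [mem_set_normalizer_iff]
      rw [mem_set_normalizer_iff] at hn
      intro h
      constructor
      · intro hh
        have h1 := (hn ⟨h, hRN hh⟩).1 (by
          rw [SetLike.mem_coe, hPN, mem_subgroupOf]; exact hh)
        rw [SetLike.mem_coe, hPN, mem_subgroupOf] at h1
        exact h1
      · intro hh
        have hhN : h ∈ N := by
          have h2 : (n : G)⁻¹ * ((n : G) * h * (n : G)⁻¹) * (n : G) ∈ N :=
            N.mul_mem (N.mul_mem (N.inv_mem n.2) (hRN hh)) n.2
          have h3 : (n : G)⁻¹ * ((n : G) * h * (n : G)⁻¹) * (n : G) = h := by group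
          rwa [h3] at h2
        have h1 := (hn ⟨h, hhN⟩).2 (by
          rw [SetLike.mem_coe, hPN, mem_subgroupOf]; exact hh)
        rw [SetLike.mem_coe, hPN, mem_subgroupOf] at h1
        exact h1
    have hnPN : n ∈ (PN : Subgroup N) := by
      rw [hPN, mem_subgroupOf]
      exact hnR
    exact (PN : Subgroup N).le_centralizer hnPN
  -- the normal complement
  set K : Subgroup N := (MonoidHom.transferSylow PN hburn).ker with hKdef
  have hcompl : IsComplement' K (PN : Subgroup N) :=
    MonoidHom.ker_transferSylow_isComplement' PN hburn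
  have hKcard : Nat.card K = t := by
    have h1 := hcompl.card_mul_card
    rw [hPNcard, ht, mul_comm] at h1
    exact Nat.eq_of_mul_eq_mul_left hp.pos h1
  have hKidx : K.index = p := by
    rw [hcompl.symm.index_eq_card, hPNcard]
  have hcop : Nat.Coprime (Nat.card K) p := by
    rw [hKcard, Nat.coprime_comm, hp.coprime_iff_not_dvd]
    exact hpt
  -- its image in `G` is normal
  set K' : Subgroup G := K.map N.subtype with hK'def
  have hK'card : Nat.card K' = t := by
    rw [hK'def, Subgroup.card_map_of_injective N.subtype_injective, hKcard]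
  have hK'normal : K'.Normal := by
    constructor
    rintro k hk g
    rw [hK'def, mem_map] at hk ⊢
    obtain ⟨k0, hk0, rfl⟩ := hk
    have hmemN : g * (k0 : G) * g⁻¹ ∈ N := hNnormal.conj_mem _ k0.2 g
    refine ⟨⟨g * (k0 : G) * g⁻¹, hmemN⟩, ?_, rfl⟩
    apply mem_of_pow_card_eq_one K hp hKidx hcop
    apply Subtype.ext
    have h1 : k0 ^ Nat.card K = 1 := by
      have := pow_card_eq_one' (G := K) (x := ⟨k0, hk0⟩)
      exact congrArg Subtype.val this
    have h2 : (k0 : G) ^ Nat.card K = 1 := by
      have := congrArg Subtype.val h1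
      simpa using this
    simp only [SubgroupClass.coe_pow, OneMemClass.coe_one]
    rw [conj_pow, h2, mul_one, mul_inv_cancel]
  have hK'bot : K' ≠ ⊥ := by
    intro h
    rw [h, Subgroup.card_bot] at hK'card
    omega
  have hK'trans := normal_transitive (Ω := Ω) K' hK'bot
  have := hΩ.trans (card_dvd_of_transitive K' hK'trans)
  rw [hK'card] at this
  exact hpt this

end Cfsg.Agent.Lib.Helper7

namespace Cfsg.Agent.Lib.Helper7

open MulAction Subgroup

/-- Simplicity criterion for transitive groups of prime degree. -/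
theorem isSimpleGroup_of_prime_degree {G : Type*} [Group G] [Finite G] {Ω : Type*}
    [MulAction G Ω] [Fintype Ω] [FaithfulSMul G Ω] [IsPretransitive G Ω]
    (p q m : ℕ) (hp : p.Prime) (hq : q.Prime) (hΩ : Fintype.card Ω = p)
    (hcard : Nat.card G = p * m) (hpm : ¬ p ∣ m) (hqm : q < m)
    (harith : ∀ r, r ∣ p - 1 → r ∣ m → (m / r) % p = 1 → r = q) : IsSimpleGroup G := by
  have hpfact : Fact p.Prime := ⟨hp⟩
  have hprim : IsPreprimitive G Ω :=
    IsPreprimitive.of_prime_card (by rw [Nat.card_eq_fintype_card, hΩ]; exact hp)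
  have hm0 : 0 < m := by
    rcases Nat.eq_zero_or_pos m with h | h
    · exfalso; apply hpm; rw [h]; exact dvd_zero p
    · exact h
  apply isSimpleGroup_of_sylow_normalizer (Ω := Ω) p q m hp hq (by rw [hΩ]) hcard hpm hqm
  intro R hRcard
  obtain ⟨r, hr1, hr2⟩ := card_normalizer_of_prime hp hΩ R hRcard
  have hfac : (Nat.card G).factorization p = 1 := by
    rw [hcard, Nat.factorization_mul hp.ne_zero hm0.ne', Finsupp.add_apply,
      hp.factorization_self, Nat.factorization_eq_zero_of_not_dvd hpm]
  let P : Sylow p G := Sylow.ofCard R (by rw [hRcard, hfac, pow_one])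
  have hPR : (P : Subgroup G) = R := Sylow.coe_ofCard R _
  have h1 : Nat.card (Sylow p G) = (normalizer (R : Set G)).index := by
    rw [P.card_eq_index_normalizer]
    rfl
  have h2 : Nat.card (Sylow p G) ≡ 1 [MOD p] := card_sylow_modEq_one p G
  have h3 := Subgroup.card_mul_index (normalizer (R : Set G))
  rw [hr2, hcard, mul_assoc] at h3
  have h4 : r * (normalizer (R : Set G)).index = m := Nat.eq_of_mul_eq_mul_left hp.pos h3
  have hr0 : 0 < r := by
    rcases Nat.eq_zero_or_pos r with h | h
    · rw [h, zero_mul] at h4; omega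
    · exact h
  have h5 : m / r = (normalizer (R : Set G)).index := by
    rw [← h4, Nat.mul_div_cancel_left _ hr0]
  have h6 : r = q := by
    apply harith r hr1 ⟨_, h4.symm⟩
    rw [h5, ← h1]
    have := h2
    unfold Nat.ModEq at this
    rw [this, Nat.mod_eq_of_lt hp.one_lt]
  rw [hr2, h6]

end Cfsg.Agent.Lib.Helper7
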