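import Cfsg.Agent.Lib.Conway.Order
import Cfsg.Agent.Lib.Helper7.GolaySteiner

/-!
A vector of sum of squares 64 of the rank-24 lattice whose inner products with all the "even"
vectors of sum of squares 32 are divisible by 16 lies in the standard cross
(requested by helper26 for S1572).
-/

set_option autoImplicit false
set_option linter.style.haveILetI false

namespace Cfsg.Agent.Lib.Helper7.StdCrossDots

open Cfsg Cfsg.Agent.Lib.Conway
open Cfsg.Agent.Lib.Helper93.Leech Cfsg.Agent.Lib.Helper93.Golay
open Cfsg.Agent.Lib.Golay.LeechBasis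

/-- every 4-set of points meets some octad in exactly three points -/
theorem exists_octad_inter_three (T : Finset GolayPt) (hT : T.card = 4) :
    ∃ o ∈ octads, (o ∩ T).card = 3 := by
  classical
  have hcardU : (Finset.univ : Finset GolayPt).card = 24 := by
    rw [Finset.card_univ]; exact Cfsg.Agent.Lib.Helper7.card_golayPt'
  -- a point d of T
  have hne : T.Nonempty := by
    rw [← Finset.card_pos, hT]; norm_num
  obtain ⟨d, hd⟩ := hne
  set T3 := T.erase d with hT3
  have hT3c : T3.card = 3 := by rw [hT3, Finset.card_erase_of_mem hd, hT]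
  have hdT3 : d ∉ T3 := Finset.notMem_erase d T
  have hTins : T = insert d T3 := (Finset.insert_erase hd).symm
  -- a point p outside T
  obtain ⟨p, hp⟩ : ∃ p, p ∉ T := by
    by_contra hcon
    push Not at hcon
    have : T = Finset.univ := Finset.eq_univ_iff_forall.2 hcon
    rw [this, hcardU] at hT
    omega
  have hpT3 : p ∉ T3 := fun h => hp (Finset.mem_of_mem_erase h)
  -- the octad through T and p
  have hU : (insert p T).card = 5 := by rw [Finset.card_insert_of_notMem hp, hT]
  obtain ⟨O, hO, hUO⟩ := Cfsg.Agent.Lib.Helper7.exists_octad_of_card_eq_five _ hU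
  -- a point r outside O
  obtain ⟨r, hr⟩ : ∃ r, r ∉ O := by
    by_contra hcon
    push Not at hcon
    have : O = Finset.univ := Finset.eq_univ_iff_forall.2 hcon
    have h8 := hO.2
    rw [this, hcardU] at h8
    omega
  have hpO : p ∈ O := hUO (Finset.mem_insert_self _ _)
  have hTO : T ⊆ O := fun x hx => hUO (Finset.mem_insert_of_mem hx)
  have hT3O : T3 ⊆ O := fun x hx => hTO (Finset.mem_of_mem_erase hx)
  have hrp : r ≠ p := fun h => hr (h ▸ hpO)
  have hrT3 : r ∉ T3 := fun h => hr (hT3O h)
  have hS2 : (insert r (insert p T3)).card = 5 := by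
    rw [Finset.card_insert_of_notMem, Finset.card_insert_of_notMem hpT3, hT3c]
    rw [Finset.mem_insert]
    rintro (h | h)
    · exact hrp h
    · exact hrT3 h
  obtain ⟨O2, hO2, hSO2⟩ := Cfsg.Agent.Lib.Helper7.exists_octad_of_card_eq_five _ hS2
  have hrO2 : r ∈ O2 := hSO2 (Finset.mem_insert_self _ _)
  have hpO2 : p ∈ O2 := hSO2 (Finset.mem_insert_of_mem (Finset.mem_insert_self _ _))
  have hT3O2 : T3 ⊆ O2 := fun x hx =>
    hSO2 (Finset.mem_insert_of_mem (Finset.mem_insert_of_mem hx))
  have hdO2 : d ∉ O2 := by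
    intro hdO2
    have hsub : insert p T ⊆ O ∩ O2 := by
      intro x hx
      rw [Finset.mem_inter]
      refine ⟨hUO hx, ?_⟩
      rw [Finset.mem_insert] at hx
      rcases hx with rfl | hx
      · exact hpO2
      · rw [hTins, Finset.mem_insert] at hx
        rcases hx with rfl | hx
        · exact hdO2
        · exact hT3O2 hx
    have h5 : 5 ≤ (O ∩ O2).card := by
      rw [← hU]; exact Finset.card_le_card hsub
    have := Cfsg.Agent.Lib.Helper7.octad_eq_of_card_inter hO hO2 h5
    exact hr (this ▸ hrO2)
  refine ⟨O2, hO2, ?_⟩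
  have : O2 ∩ T = T3 := by
    ext x
    rw [Finset.mem_inter, hTins, Finset.mem_insert]
    constructor
    · rintro ⟨hx, rfl | hx⟩
      · exact absurd hx hdO2
      · exact hx
    · intro hx
      exact ⟨hT3O2 hx, Or.inr hx⟩
  rw [this, hT3c]

/-- the vectors `4 e_a ± 4 e_b` -/
def pmP (a b : GolayPt) : Vec := fun k => (if k = a then 4 else 0) + (if k = b then 4 else 0)
/-- the vectors `4 e_a - 4 e_b` -/
def pmM (a b : GolayPt) : Vec := fun k => (if k = a then 4 else 0) - (if k = b then 4 else 0)

set_option maxRecDepth 100000 in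
theorem pm_cond : ∀ a b : GolayPt, LeechCond (pmP a b) 0 ∧ LeechCond (pmM a b) 0 := by
  unfold pmP pmM
  decide +kernel

set_option maxRecDepth 100000 in
theorem pm_norm : ∀ a b : GolayPt, a ≠ b → sqNorm (pmP a b) = 32 ∧ sqNorm (pmM a b) = 32 := by
  unfold pmP pmM sqNorm
  decide +kernel

theorem pm_even (a b : GolayPt) (i : GolayPt) : pmP a b i % 2 = 0 ∧ pmM a b i % 2 = 0 := by
  unfold pmP pmM
  constructor <;> split_ifs <;> norm_num

theorem dot_pmP (y : Vec) (a b : GolayPt) : dotInt y (pmP a b) = 4 * y a + 4 * y b := by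
  unfold dotInt pmP
  simp only [mul_add, Finset.sum_add_distrib, mul_ite, mul_zero, Finset.sum_ite_eq',
    Finset.mem_univ, if_true]
  ring

theorem dot_pmM (y : Vec) (a b : GolayPt) : dotInt y (pmM a b) = 4 * y a - 4 * y b := by
  unfold dotInt pmM
  simp only [mul_sub, Finset.sum_sub_distrib, mul_ite, mul_zero, Finset.sum_ite_eq',
    Finset.mem_univ, if_true]
  ring

theorem exists_ne_pt (a : GolayPt) : ∃ b : GolayPt, a ≠ b := by
  by_cases h : a = none
  · exact ⟨some 0, by rw [h]; simp⟩
  · exact ⟨none, h⟩

theorem mem_stdCross_of_even_dots (y : leechLattice) (hn : sqNorm (y : Vec) = 64)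
    (h : ∀ z : leechLattice, sqNorm (z : Vec) = 32 → (∀ i, (z : Vec) i % 2 = 0) →
      (16 : ℤ) ∣ dotInt (y : Vec) (z : Vec)) : (y : Vec) ∈ stdCross := by
  classical
  set v : Vec := (y : Vec) with hv
  -- congruences from the vectors `4 e_a ± 4 e_b`
  have hP : ∀ a b : GolayPt, a ≠ b → (v a + v b) % 4 = 0 := by
    intro a b hab
    have := h ⟨pmP a b, mem_of_leechCond (pm_cond a b).1⟩ (pm_norm a b hab).1
      (fun i => (pm_even a b i).1)
    rw [show ((⟨pmP a b, mem_of_leechCond (pm_cond a b).1⟩ : leechLattice) : Vec) = pmP a b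
      from rfl, dot_pmP] at this
    omega
  have hM : ∀ a b : GolayPt, a ≠ b → (v a - v b) % 4 = 0 := by
    intro a b hab
    have := h ⟨pmM a b, mem_of_leechCond (pm_cond a b).2⟩ (pm_norm a b hab).2
      (fun i => (pm_even a b i).2)
    rw [show ((⟨pmM a b, mem_of_leechCond (pm_cond a b).2⟩ : leechLattice) : Vec) = pmM a b
      from rfl, dot_pmM] at this
    omega
  have heven : ∀ a, v a % 2 = 0 := by
    intro a
    obtain ⟨b, hab⟩ := exists_ne_pt a
    have h1 := hP a b hab
    have h2 := hM a b hab
    omega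
  have hsame : ∀ a b, v a % 4 = v b % 4 := by
    intro a b
    by_cases hab : a = b
    · rw [hab]
    · have := hM a b hab
      omega
  -- all coordinates are divisible by 4
  have h4 : ∀ a, v a % 4 = 0 := by
    by_contra hcon
    push Not at hcon
    obtain ⟨a0, ha0⟩ := hcon
    have h2 : ∀ a, v a % 4 = 2 := by
      intro a
      have := hsame a a0
      have := heven a0
      omega
    have hcls : cls v 2 = Finset.univ := by
      ext i
      rw [mem_cls]
      simp [h2 i]
    have := four_card_cls_le v
    rw [hcls, Finset.card_univ, Cfsg.Agent.Lib.Helper7.card_golayPt', hn] at this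
    norm_num at this
  -- squares
  have hsq : ∀ a, v a = 0 ∨ 16 ≤ v a ^ 2 := by
    intro a
    have := h4 a
    by_cases h0 : v a = 0
    · exact Or.inl h0
    · right
      have : v a ≤ -4 ∨ 4 ≤ v a := by omega
      rcases this with h' | h' <;> nlinarith
  have hsum : ∑ i, v i ^ 2 = 64 := hn
  by_cases hbig : ∃ a, 64 ≤ v a ^ 2
  · -- a coordinate ±8
    obtain ⟨a, ha⟩ := hbig
    have hsplit : ∑ i, v i ^ 2 = v a ^ 2 + ∑ i ∈ Finset.univ.erase a, v i ^ 2 :=
      (Finset.add_sum_erase Finset.univ (fun i => v i ^ 2) (Finset.mem_univ a)).symm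
    have hnn : 0 ≤ ∑ i ∈ Finset.univ.erase a, v i ^ 2 :=
      Finset.sum_nonneg fun i _ => sq_nonneg _
    have ha64 : v a ^ 2 = 64 := by omega
    have hrest : ∑ i ∈ Finset.univ.erase a, v i ^ 2 = 0 := by omega
    have hz : ∀ i, i ≠ a → v i = 0 := by
      intro i hi
      have := (Finset.sum_eq_zero_iff_of_nonneg (fun i _ => sq_nonneg (v i))).1 hrest i
        (Finset.mem_erase.2 ⟨hi, Finset.mem_univ i⟩)
      exact pow_eq_zero_iff (by norm_num) |>.1 this
    have ha8 : v a = 8 ∨ v a = -8 := by
      have : (v a - 8) * (v a + 8) = 0 := by nlinarith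
      rcases mul_eq_zero.1 this with h' | h'
      · left; omega
      · right; omega
    refine ⟨a, v a, ha8, ?_⟩
    funext i
    by_cases hi : i = a
    · rw [hi]; simp
    · rw [Pi.single_apply, if_neg hi]; exact hz i hi
  · -- four coordinates ±4
    push Not at hbig
    have hval : ∀ a, v a = 0 ∨ v a = 4 ∨ v a = -4 := by
      intro a
      have h1 := h4 a
      have h2 := hbig a
      have : -8 < v a ∧ v a < 8 := by constructor <;> nlinarith
      omega
    set T : Finset GolayPt := Finset.univ.filter fun i => v i ≠ 0 with hTdef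
    have hmemT : ∀ i, i ∈ T ↔ v i ≠ 0 := by
      intro i; simp [hTdef]
    have hsqT : ∀ i, v i ^ 2 = if i ∈ T then 16 else 0 := by
      intro i
      by_cases hi : i ∈ T
      · rw [if_pos hi]
        have hne := (hmemT i).1 hi
        rcases hval i with h0 | h0 | h0
        · exact absurd h0 hne
        · rw [h0]; norm_num
        · rw [h0]; norm_num
      · rw [if_neg hi]
        have : v i = 0 := by
          by_contra h'
          exact hi ((hmemT i).2 h')
        rw [this]; norm_num
    have hTcard : T.card = 4 := by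
      have : ∑ i, v i ^ 2 = 16 * (T.card : ℤ) := by
        rw [Finset.sum_congr rfl fun i _ => hsqT i, Finset.sum_ite_mem, Finset.univ_inter,
          Finset.sum_const]
        simp [mul_comm]
      rw [hsum] at this
      omega
    obtain ⟨O, hO, hOT⟩ := exists_octad_inter_three T hTcard
    have hz := h ⟨_, two_ind_mem hO.1⟩ (by
        show sqNorm (fun p => if p ∈ O then (2 : ℤ) else 0) = 32
        unfold sqNorm
        have : ∀ i, (if i ∈ O then (2 : ℤ) else 0) ^ 2 = if i ∈ O then 4 else 0 := by
          intro i; split_ifs <;> norm_num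
        rw [Finset.sum_congr rfl fun i _ => this i, Finset.sum_ite_mem, Finset.univ_inter,
          Finset.sum_const, hO.2]
        norm_num)
      (fun i => by
        show (if i ∈ O then (2 : ℤ) else 0) % 2 = 0
        split_ifs <;> norm_num)
    have hdot : dotInt v (fun p => if p ∈ O then (2 : ℤ) else 0) = 2 * ∑ i ∈ O ∩ T, v i := by
      unfold dotInt
      simp only [mul_ite, mul_zero]
      rw [Finset.sum_ite_mem, Finset.univ_inter, Finset.mul_sum]
      have hsub : O ∩ T ⊆ O := Finset.inter_subset_left
      rw [← Finset.sum_subset hsub]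
      · apply Finset.sum_congr rfl
        intro i _; ring
      · intro i hiO hiOT
        have hiT : i ∉ T := fun hiT => hiOT (Finset.mem_inter.2 ⟨hiO, hiT⟩)
        have : v i = 0 := by
          by_contra h'
          exact hiT ((hmemT i).2 h')
        rw [this]; norm_num
    have hmod : (∑ i ∈ O ∩ T, v i) % 8 = 4 := by
      rw [Finset.sum_int_mod]
      have : ∀ i ∈ O ∩ T, v i % 8 = 4 := by
        intro i hi
        have hiT := (hmemT i).1 (Finset.mem_inter.1 hi).2
        rcases hval i with h0 | h0 | h0
        · exact absurd h0 hiT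
        · rw [h0]; norm_num
        · rw [h0]; norm_num
      rw [Finset.sum_congr rfl this, Finset.sum_const, hOT]
      norm_num
    have hz' : (16 : ℤ) ∣ dotInt v (fun p => if p ∈ O then (2 : ℤ) else 0) := hz
    rw [hdot] at hz'
    omega

end Cfsg.Agent.Lib.Helper7.StdCrossDots
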