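import Cfsg.Agent.Lib.Helper7.SteinerSpec
import Cfsg.Agent.Lib.Helper7.GolayChain

set_option autoImplicit false

namespace Cfsg.Agent.Lib.Helper7

open Cfsg
open scoped Pointwise

/-! ### enumeration of subsets as masks -/

/-- masks of the `n`-element subsets of a list of points -/
def enumSub : List ℕ → ℕ → List ℕ
  | _, 0 => [0]
  | [], _ + 1 => []
  | x :: pts, n + 1 => (enumSub pts n).map (fun e => e ||| 2 ^ x) ++ enumSub pts (n + 1)

theorem mem_enumSub (pts : List ℕ) (hnd : pts.Nodup) (hlt : ∀ x ∈ pts, x < 24) (n : ℕ)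
    (f : Finset GolayPt) (hf : ∀ p ∈ f, idx p ∈ pts) (hcard : f.card = n) :
    maskOfSet f ∈ enumSub pts n := by
  induction pts generalizing n f with
  | nil =>
    have hf0 : f = ∅ := by
      apply Finset.eq_empty_of_forall_notMem
      intro p hp
      exact absurd (hf p hp) (List.not_mem_nil)
    subst hf0
    rw [Finset.card_empty] at hcard
    subst hcard
    rw [maskOfSet_empty]
    simp [enumSub]
  | cons x pts ih =>
    rw [List.nodup_cons] at hnd
    cases n with
    | zero =>
      have hf0 : f = ∅ := Finset.card_eq_zero.1 hcard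
      subst hf0
      rw [maskOfSet_empty]
      simp [enumSub]
    | succ n =>
      have hx : x < 24 := hlt x List.mem_cons_self
      simp only [enumSub, List.mem_append, List.mem_map]
      by_cases hxf : pt x ∈ f
      · left
        refine ⟨maskOfSet (f.erase (pt x)), ?_, ?_⟩
        · apply ih hnd.2 (fun y hy => hlt y (List.mem_cons_of_mem _ hy))
          · intro p hp
            have hp' := Finset.mem_erase.1 hp
            have := hf p hp'.2
            rcases List.mem_cons.1 this with h | h
            · exfalso
              apply hp'.1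
              rw [← h, pt_idx]
            · exact h
          · rw [Finset.card_erase_of_mem hxf, hcard]
            rfl
        · rw [← maskOfSet_insert _ x hx, Finset.insert_erase hxf]
      · right
        apply ih hnd.2 (fun y hy => hlt y (List.mem_cons_of_mem _ hy))
        · intro p hp
          have := hf p hp
          rcases List.mem_cons.1 this with h | h
          · exfalso
            apply hxf
            rw [← h, pt_idx]
            exact hp
          · exact h
        · exact hcard

/-! ### the checker -/

/-- a fast lower bound for the number of bits -/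
def popK : ℕ → ℕ → ℕ
  | 0, _ => 0
  | f + 1, n => bif Nat.beq n 0 then 0 else Nat.succ (popK f (Nat.land n (Nat.sub n 1)))

theorem popc_and_pred_lt {n : ℕ} (hn : n < 2 ^ 24) (h0 : n ≠ 0) : popc (n &&& (n - 1)) < popc n := by
  rw [← card_finOf, ← card_finOf]
  apply Finset.card_lt_card
  rw [Finset.ssubset_iff_subset_ne]
  refine ⟨?_, ?_⟩
  · rw [finOf_and]
    exact Finset.inter_subset_left
  · intro h
    have h1 : n &&& (n - 1) = n :=
      eq_of_finOf_eq (lt_of_le_of_lt Nat.and_le_left hn) hn h
    have h2 : n &&& (n - 1) ≤ n - 1 := Nat.and_le_right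
    omega

theorem popK_le (f n : ℕ) (hn : n < 2 ^ 24) : popK f n ≤ popc n := by
  induction f generalizing n with
  | zero => simp [popK]
  | succ f ih =>
    rw [popK]
    by_cases h0 : n = 0
    · subst h0
      simp
    · have hb : Nat.beq n 0 = false := by
        cases h : Nat.beq n 0
        · rfl
        · exact absurd (Nat.eq_of_beq_eq_true h) h0
      rw [hb, cond_false]
      have h1 : Nat.land n (Nat.sub n 1) = n &&& (n - 1) := rfl
      rw [h1]
      have h2 := ih (n &&& (n - 1)) (lt_of_le_of_lt Nat.and_le_left hn)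
      have h3 := popc_and_pred_lt hn h0
      omega

/-- union of the known blocks meeting `s` in all but one point -/
def forbMask (t s : ℕ) (L : List ℕ) : ℕ :=
  L.foldr (fun m acc => bif Nat.beq (Nat.succ (popK 25 (Nat.land m s))) t then Nat.lor m acc
    else acc) 0

theorem testBit_forbMask (t s : ℕ) (L : List ℕ) (i : ℕ) (h : (forbMask t s L).testBit i = true) :
    ∃ m ∈ L, popK 25 (m &&& s) + 1 = t ∧ m.testBit i = true := by
  induction L with
  | nil => simp [forbMask] at h
  | cons m L ih =>
    simp only [forbMask, List.foldr_cons] at h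
    cases hc : Nat.beq (Nat.succ (popK 25 (Nat.land m s))) t
    · rw [hc, cond_false] at h
      obtain ⟨m', hm', h1, h2⟩ := ih h
      exact ⟨m', List.mem_cons_of_mem _ hm', h1, h2⟩
    · rw [hc, cond_true] at h
      have h' : (m ||| List.foldr (fun m acc =>
          bif Nat.beq (Nat.succ (popK 25 (Nat.land m s))) t then Nat.lor m acc else acc) 0
            L).testBit i = true := h
      rw [Nat.testBit_or, Bool.or_eq_true] at h'
      rcases h' with h' | h'
      · exact ⟨m, List.mem_cons_self, Nat.eq_of_beq_eq_true hc, h'⟩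
      · obtain ⟨m', hm', h1, h2⟩ := ih h'
        exact ⟨m', List.mem_cons_of_mem _ hm', h1, h2⟩

/-- the points that may be added to `s` -/
def allowedPts (U s F : ℕ) : List ℕ :=
  force (Nat.xor U s) fun y => force (Nat.xor y (Nat.land y F)) fun z =>
    (List.range 24).filter fun x => z.testBit x

theorem mem_allowedPts (U s F x : ℕ) : x ∈ allowedPts U s F ↔
    x < 24 ∧ (Bool.xor (Bool.xor (U.testBit x) (s.testBit x))
      ((Bool.xor (U.testBit x) (s.testBit x)) && F.testBit x)) = true := by
  simp only [allowedPts, force_eq, List.mem_filter, List.mem_range]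
  have h1 : Nat.xor U s = U ^^^ s := rfl
  have h2 : Nat.xor (U ^^^ s) (Nat.land (U ^^^ s) F) = (U ^^^ s) ^^^ ((U ^^^ s) &&& F) := rfl
  rw [h1, h2, Nat.testBit_xor, Nat.testBit_and, Nat.testBit_xor]

/-- compatibility of a candidate block with the known blocks -/
def viable (t : ℕ) (L : List ℕ) (c : ℕ) : Bool :=
  L.all fun m => Nat.blt (popK 25 (Nat.land m c)) t

/-- the candidate extensions of `s` to a block -/
def candList (U t k s : ℕ) (L : List ℕ) : List ℕ :=
  force (forbMask t s L) fun F => forceList (allowedPts U s F) fun A =>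
    forceList (enumSub A (k - t)) fun E =>
      E.filter fun e => force (Nat.lor s e) fun c => viable t L c

theorem candList_eq (U t k s : ℕ) (L : List ℕ) : candList U t k s L =
    (enumSub (allowedPts U s (forbMask t s L)) (k - t)).filter fun e => viable t L (s ||| e) := by
  simp only [candList, force_eq, forceList_eq]
  rfl

/-- entry `j` of a table packed in base-32 digits, twelve entries per word -/
def tabAt (lo hi j : ℕ) : ℕ :=
  bif Nat.blt j 12 then Nat.land (Nat.shiftRight lo (Nat.mul 5 j)) 31
  else Nat.land (Nat.shiftRight hi (Nat.mul 5 (Nat.sub j 12))) 31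

/-- unpack a table -/
def unpackT (T : ℕ → ℕ) : List ℕ := (List.range 24).map T

theorem unpackT_length (T : ℕ → ℕ) : (unpackT T).length = 24 := by simp [unpackT]

theorem unpackT_getD (T : ℕ → ℕ) (j : ℕ) (hj : j < 24) : (unpackT T).getD j 0 = T j := by
  rw [List.getD_eq_getElem _ _ (by rw [unpackT_length]; exact hj)]
  simp [unpackT]

def range24 : List ℕ :=
  [0, 1, 2, 3, 4, 5, 6, 7, 8, 9, 10, 11, 12, 13, 14, 15, 16, 17, 18, 19, 20, 21, 22, 23]

theorem range24_eq : range24 = List.range 24 := by decide

/-- validity of permutation data given by lookup functions -/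
def fastValid (F B : ℕ → ℕ) : Bool :=
  range24.all fun j => Nat.blt (B j) 24 && Nat.blt (F j) 24 &&
    Nat.beq (F (B j)) j && Nat.beq (B (F j)) j

theorem fastValid_spec {F B : ℕ → ℕ} (h : fastValid F B = true) :
    ∀ j < 24, B j < 24 ∧ F j < 24 ∧ F (B j) = j ∧ B (F j) = j := by
  intro j hj
  rw [fastValid, range24_eq, List.all_eq_true] at h
  have := h j (List.mem_range.2 hj)
  simp only [Bool.and_eq_true, Nat.blt_eq] at this
  obtain ⟨⟨⟨h1, h2⟩, h3⟩, h4⟩ := this
  exact ⟨h1, h2, Nat.eq_of_beq_eq_true h3, Nat.eq_of_beq_eq_true h4⟩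

theorem isInvTab_unpack {F B : ℕ → ℕ} (h1 : ∀ j < 24, B j < 24)
    (h2 : ∀ j < 24, F (B j) = j) : isInvTab (unpackT F) (unpackT B) = true := by
  simp only [isInvTab, Bool.and_eq_true, beq_iff_eq, List.all_eq_true, decide_eq_true_eq,
    List.mem_range]
  refine ⟨⟨unpackT_length B, ?_⟩, ?_⟩
  · intro x hx
    simp only [unpackT, List.mem_map, List.mem_range] at hx
    obtain ⟨j, hj, rfl⟩ := hx
    exact h1 j hj
  · intro j hj
    rw [unpackT_getD B j hj, unpackT_getD F _ (h1 j hj), h2 j hj]

/-- permutation data from lookup functions -/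
def unpackPD (F B : ℕ → ℕ) : PD := ⟨unpackT F, unpackT B⟩

theorem valid_of_fastValid {F B : ℕ → ℕ} (h : fastValid F B = true) :
    (unpackPD F B).valid = true := by
  have hs := fastValid_spec h
  simp only [PD.valid, unpackPD, Bool.and_eq_true]
  exact ⟨isInvTab_unpack (fun j hj => (hs j hj).1) (fun j hj => (hs j hj).2.2.1),
    isInvTab_unpack (fun j hj => (hs j hj).2.1) (fun j hj => (hs j hj).2.2.2)⟩

/-- transport of a mask along a permutation (given the lookup function of the inverse) -/
def fastPush (B : ℕ → ℕ) (n : ℕ) : ℕ :=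
  range24.foldr (fun j acc =>
    Nat.lor (Nat.shiftLeft (Nat.land (Nat.shiftRight n (B j)) 1) j) acc) 0

theorem testBit_foldr_or (g : ℕ → ℕ) (hg : ∀ j, g j ≤ 1) (l : List ℕ) (i : ℕ) :
    (l.foldr (fun j acc => Nat.lor (Nat.shiftLeft (g j) j) acc) 0).testBit i =
      decide (i ∈ l ∧ g i = 1) := by
  induction l with
  | nil => simp
  | cons j l ih =>
    rw [List.foldr_cons]
    have h1 : ∀ a c : ℕ, Nat.lor (Nat.shiftLeft a j) c = (a <<< j) ||| c := fun _ _ => rfl
    rw [h1, Nat.testBit_or, ih, Nat.testBit_shiftLeft]
    have hgj := hg j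
    by_cases hij : i = j
    · subst hij
      rcases Nat.le_one_iff_eq_zero_or_eq_one.1 hgj with h | h
      · simp [h]
      · simp [h]
    · have : (decide (i ≥ j) && (g j).testBit (i - j)) = false := by
        by_cases hge : i ≥ j
        · have hpos : i - j ≠ 0 := by omega
          rcases Nat.le_one_iff_eq_zero_or_eq_one.1 hgj with h | h
          · simp [h]
          · rw [h]
            have : Nat.testBit 1 (i - j) = false := by
              cases h' : Nat.testBit 1 (i - j)
              · rfl
              · exact absurd (Nat.testBit_one_eq_true_iff_self_eq_zero.1 h') hpos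
            simp [this]
        · simp [hge]
      rw [this]
      simp [hij]

theorem fastPush_eq (B : ℕ → ℕ) (n : ℕ) : fastPush B n = pushMask (unpackT B) n := by
  apply Nat.eq_of_testBit_eq
  intro i
  have hg : ∀ j, Nat.land (Nat.shiftRight n (B j)) 1 ≤ 1 := by
    intro j
    have : Nat.land (Nat.shiftRight n (B j)) 1 = (n >>> B j) &&& 1 := rfl
    rw [this]
    exact Nat.and_le_right
  rw [fastPush, testBit_foldr_or (fun j => Nat.land (Nat.shiftRight n (B j)) 1) hg]
  by_cases hi : i < 24
  · rw [pushMask, Nat.testBit_ofBits_lt _ _ hi]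
    simp only
    rw [unpackT_getD B i hi]
    have hmem : i ∈ range24 := by rw [range24_eq]; exact List.mem_range.2 hi
    have h1 : Nat.land (Nat.shiftRight n (B i)) 1 = (n >>> B i) &&& 1 := rfl
    rw [h1]
    simp only [hmem, true_and]
    rw [Nat.testBit, Nat.and_comm]
    cases h : (1 &&& n >>> B i) with
    | zero => simp
    | succ k =>
      have : 1 &&& n >>> B i ≤ 1 := Nat.and_le_left
      have hk : k = 0 := by omega
      subst hk
      simp
  · have hmem : i ∉ range24 := by rw [range24_eq, List.mem_range]; exact hi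
    have h24 : 2 ^ 24 ≤ 2 ^ i := Nat.pow_le_pow_right (by norm_num) (by omega)
    rw [Nat.testBit_lt_two_pow (lt_of_lt_of_le (pushMask_lt _ _) h24)]
    simp [hmem]

mutual
/-- search trees -/
inductive STree
  | leaf (f0 f1 b0 b1 : ℕ)
  | node (s : ℕ) (kids : SKids)
/-- the children of a node of a search tree -/
inductive SKids
  | done
  | kid (e : ℕ) (sub : STree) (rest : SKids)
  | sym (e : ℕ) (f0 f1 b0 b1 : ℕ) (e' : ℕ) (rest : SKids)
end

mutual
/-- the checker for search trees -/
def STree.check (U t k : ℕ) (B0 : List ℕ) : STree → List ℕ → Bool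
  | .leaf f0 f1 b0 b1, L => fastValid (tabAt f0 f1) (tabAt b0 b1) &&
      Nat.beq (fastPush (tabAt b0 b1) U) U &&
      forceList (L.map (fastPush (tabAt b0 b1))) fun L' => B0.all (fun c => L'.contains c)
  | .node s kids, L => decide (s < 2 ^ 24) && (U &&& s == s) && (popc s == t) &&
      L.all (fun m => !(Nat.beq (Nat.land m s) s)) &&
      forceList (candList U t k s L) fun cl => kids.check U t k B0 L s cl []
/-- the checker for the children of a node -/
def SKids.check (U t k : ℕ) (B0 : List ℕ) : SKids → List ℕ → ℕ → List ℕ → List ℕ → Bool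
  | .done, _, _, [], _ => true
  | .kid e sub rest, L, s, v :: vs, est => Nat.beq e v &&
      (force (Nat.lor s e) fun c => sub.check U t k B0 (c :: L)) &&
      rest.check U t k B0 L s vs (e :: est)
  | .sym e f0 f1 b0 b1 e' rest, L, s, v :: vs, est => Nat.beq e v && est.contains e' &&
      fastValid (tabAt f0 f1) (tabAt b0 b1) && Nat.beq (fastPush (tabAt b0 b1) U) U &&
      L.all (fun m => force (fastPush (tabAt b0 b1) m) fun x => L.contains x) &&
      Nat.beq (fastPush (tabAt b0 b1) (Nat.lor s e')) (Nat.lor s e) &&
      rest.check U t k B0 L s vs est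
  | _, _, _, _, _ => false
end

end Cfsg.Agent.Lib.Helper7
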