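import Cfsg.Agent.Lib.Helper7.SteinerSound

set_option autoImplicit false

namespace Cfsg.Agent.Lib.Helper7

open Cfsg
open scoped Pointwise

/-- every Steiner system containing the listed blocks satisfies `Q` -/
def GoodQ (U t k : ℕ) (Q : Set (Finset GolayPt) → Prop) (L : List ℕ) : Prop :=
  ∀ B : Set (Finset GolayPt), SteinerOn U t k B → (∀ m ∈ L, finOf m ∈ B) → Q B

/-- the block of a Steiner system through an uncovered set is among the candidates -/
theorem exists_cand {U t k : ℕ} {B : Set (Finset GolayPt)} {L : List ℕ} {s : ℕ}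
    (hs : s < 2 ^ 24) (hsU : U &&& s = s) (hst : popc s = t)
    (hunc : ∀ m ∈ L, m &&& s ≠ s) (hB : SteinerOn U t k B) (hmem : ∀ m ∈ L, finOf m ∈ B) :
    ∃ e ∈ candList U t k s L, finOf (s ||| e) ∈ B := by
  have hsU' : finOf s ⊆ finOf U := subset_of_and_eq hsU
  have hscard : (finOf s).card = t := by rw [card_finOf, hst]
  obtain ⟨b, ⟨hbB, hsb⟩, -⟩ := hB.2 (finOf s) hsU' hscard
  obtain ⟨hbU, hbk⟩ := hB.1 b hbB
  have hne : ∀ m ∈ L, finOf m ≠ b := by
    intro m hm heq
    apply hunc m hm
    apply and_eq_of_subset hs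
    rw [heq]
    exact hsb
  have hlt : ∀ m ∈ L, (finOf m ∩ b).card < t := fun m hm =>
    hB.inter_lt (hmem m hm) hbB (hne m hm)
  set f : Finset GolayPt := b \ finOf s with hf
  set e : ℕ := maskOfSet f with he
  have hfin : finOf (s ||| e) = b := by
    rw [finOf_or, he, finOf_maskOfSet, hf]
    exact Finset.union_sdiff_of_subset hsb
  have hcand : e ∈ candList U t k s L := by
    rw [candList_eq, List.mem_filter]
    refine ⟨?_, ?_⟩
    · apply mem_enumSub
      · simp only [allowedPts, force_eq]
        exact List.Nodup.filter _ List.nodup_range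
      · intro x hx
        exact ((mem_allowedPts _ _ _ _).1 hx).1
      · intro p hp
        rw [hf, Finset.mem_sdiff] at hp
        rw [mem_allowedPts]
        refine ⟨idx_lt p, ?_⟩
        have h1 : U.testBit (idx p) = true := (mem_finOf U p).1 (hbU hp.1)
        have h2 : s.testBit (idx p) = false := by
          have := hp.2
          rw [mem_finOf] at this
          simpa using this
        have h3 : (forbMask t s L).testBit (idx p) = false := by
          by_contra hcon
          have hcon' : (forbMask t s L).testBit (idx p) = true := by simpa using hcon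
          obtain ⟨m, hm, hm1, hm2⟩ := testBit_forbMask t s L _ hcon'
          have hlt' := hlt m hm
          have hsub : insert p (finOf m ∩ finOf s) ⊆ finOf m ∩ b := by
            intro q hq
            rcases Finset.mem_insert.1 hq with rfl | hq
            · exact Finset.mem_inter.2 ⟨(mem_finOf m q).2 hm2, hp.1⟩
            · have := Finset.mem_inter.1 hq
              exact Finset.mem_inter.2 ⟨this.1, hsb this.2⟩
          have hcard := Finset.card_le_card hsub
          rw [Finset.card_insert_of_notMem (fun h => hp.2 (Finset.mem_inter.1 h).2),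
            card_inter_finOf] at hcard
          have hle := popK_le 25 (m &&& s) (lt_of_le_of_lt Nat.and_le_right hs)
          omega
        rw [h1, h2, h3]
        rfl
      · rw [hf, Finset.card_sdiff_of_subset hsb, hbk, hscard]
    · rw [viable, List.all_eq_true]
      intro m hm
      have hc24 : s ||| e < 2 ^ 24 := Nat.or_lt_two_pow hs (maskOfSet_lt _)
      have hle := popK_le 25 (m &&& (s ||| e)) (lt_of_le_of_lt Nat.and_le_right hc24)
      have h1 : (finOf m ∩ finOf (s ||| e)).card < t := by
        rw [hfin]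
        exact hlt m hm
      rw [card_inter_finOf] at h1
      have h2 : Nat.land m (s ||| e) = m &&& (s ||| e) := rfl
      rw [h2, Nat.blt_eq]
      omega
  exact ⟨e, hcand, hfin ▸ hbB⟩

/-- the node step -/
theorem GoodQ.of_node {U t k : ℕ} {Q : Set (Finset GolayPt) → Prop} {L : List ℕ} {s : ℕ}
    (hs : s < 2 ^ 24) (hsU : U &&& s = s) (hst : popc s = t)
    (hunc : ∀ m ∈ L, m &&& s ≠ s)
    (hkids : ∀ e ∈ candList U t k s L, GoodQ U t k Q ((s ||| e) :: L)) : GoodQ U t k Q L := by
  intro B hB hmem
  obtain ⟨e, hcand, heB⟩ := exists_cand hs hsU hst hunc hB hmem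
  apply hkids e hcand B hB
  intro m hm
  rcases List.mem_cons.1 hm with rfl | hm
  · exact heB
  · exact hmem m hm

/-- the symmetry step -/
theorem GoodQ.of_sym {U t k : ℕ} {Q : Set (Finset GolayPt) → Prop} {L : List ℕ} {c c' : ℕ}
    (hgood : GoodQ U t k Q (c' :: L)) (π : PD) (hπ : π.valid = true)
    (hQ : ∀ ρ : Equiv.Perm GolayPt, Rep ρ π → ∀ B, Q (ρ⁻¹ • B) → Q B)
    (hU : pushMask π.bwd U = U) (hL : ∀ m ∈ L, pushMask π.bwd m ∈ L)
    (hc : pushMask π.bwd c' = c) : GoodQ U t k Q (c :: L) := by
  obtain ⟨ρ, hρ⟩ := exists_rep_of_valid π hπ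
  have hρU : ρ • finOf U = finOf U := smul_finOf_eq_of_pushMask hρ hU
  have hρU' : ρ⁻¹ • finOf U = finOf U := by rw [inv_smul_eq_iff, hρU]
  intro B hB hmem
  have hB' : SteinerOn U t k (ρ⁻¹ • B) := hB.smul ρ⁻¹ hρU'
  have hmem' : ∀ m ∈ c' :: L, finOf m ∈ ρ⁻¹ • B := by
    intro m hm
    rw [Set.mem_inv_smul_set_iff]
    rcases List.mem_cons.1 hm with rfl | hm
    · rw [smul_finOf_eq_of_pushMask hρ hc]
      exact hmem c List.mem_cons_self
    · rw [smul_finOf_eq_of_pushMask hρ rfl]
      exact hmem _ (List.mem_cons_of_mem _ (hL m hm))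
  exact hQ ρ hρ B (hgood _ hB' hmem')

mutual
/-- the checker for search trees, with an arbitrary test at the leaves and no symmetries -/
def STree.checkQ (U t k : ℕ) (leafOk : List ℕ → Bool) : STree → List ℕ → Bool
  | .leaf _ _ _ _, L => leafOk L
  | .node s kids, L => decide (s < 2 ^ 24) && (U &&& s == s) && (popc s == t) &&
      L.all (fun m => !(Nat.beq (Nat.land m s) s)) &&
      forceList (candList U t k s L) fun cl => kids.checkQ U t k leafOk L s cl
/-- the checker for the children of a node -/
def SKids.checkQ (U t k : ℕ) (leafOk : List ℕ → Bool) : SKids → List ℕ → ℕ → List ℕ → Bool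
  | .done, _, _, [] => true
  | .kid e sub rest, L, s, v :: vs => Nat.beq e v &&
      (force (Nat.lor s e) fun c => sub.checkQ U t k leafOk (c :: L)) &&
      rest.checkQ U t k leafOk L s vs
  | _, _, _, _ => false
end

mutual
/-- soundness of the checker -/
theorem STree.checkQ_sound (U t k : ℕ) (leafOk : List ℕ → Bool)
    (Q : Set (Finset GolayPt) → Prop) (hleaf : ∀ L, leafOk L = true → GoodQ U t k Q L) :
    ∀ (T : STree) (L : List ℕ), T.checkQ U t k leafOk L = true → GoodQ U t k Q L
  | .leaf f0 f1 b0 b1, L, h => by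
    simp only [STree.checkQ] at h
    exact hleaf L h
  | .node s kids, L, h => by
    simp only [STree.checkQ, forceList_eq, Bool.and_eq_true, beq_iff_eq, List.all_eq_true,
      decide_eq_true_eq] at h
    obtain ⟨⟨⟨⟨h1, h2⟩, h3⟩, h4⟩, h5⟩ := h
    have h4' : ∀ m ∈ L, m &&& s ≠ s := by
      intro m hm heq
      have := h4 m hm
      have h6 : Nat.beq (Nat.land m s) s = true := by
        have h7 : Nat.land m s = s := heq
        rw [h7]
        exact Nat.beq_refl s
      rw [h6] at this
      exact absurd this (by decide)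
    exact GoodQ.of_node (k := k) (Q := Q) h1 h2 h3 h4'
      (SKids.checkQ_sound U t k leafOk Q hleaf kids L s _ h5)
/-- soundness of the checker for children -/
theorem SKids.checkQ_sound (U t k : ℕ) (leafOk : List ℕ → Bool)
    (Q : Set (Finset GolayPt) → Prop) (hleaf : ∀ L, leafOk L = true → GoodQ U t k Q L) :
    ∀ (K : SKids) (L : List ℕ) (s : ℕ) (vs : List ℕ), K.checkQ U t k leafOk L s vs = true →
      ∀ e ∈ vs, GoodQ U t k Q ((s ||| e) :: L)
  | .done, L, s, [], _ => by
    intro e he
    simp at he
  | .done, L, s, v :: vs, h => by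
    simp [SKids.checkQ] at h
  | .kid e sub rest, L, s, [], h => by
    simp [SKids.checkQ] at h
  | .sym e f0 f1 b0 b1 e' rest, L, s, [], h => by
    simp [SKids.checkQ] at h
  | .sym e f0 f1 b0 b1 e' rest, L, s, v :: vs, h => by
    simp [SKids.checkQ] at h
  | .kid e sub rest, L, s, v :: vs, h => by
    simp only [SKids.checkQ, force_eq, Bool.and_eq_true] at h
    obtain ⟨⟨h1, h2⟩, h3⟩ := h
    have h1' : e = v := Nat.eq_of_beq_eq_true h1
    subst h1'
    have hgood : GoodQ U t k Q ((s ||| e) :: L) :=
      STree.checkQ_sound U t k leafOk Q hleaf sub _ h2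
    have hrest := SKids.checkQ_sound U t k leafOk Q hleaf rest L s vs h3
    intro e0 he0
    rcases List.mem_cons.1 he0 with rfl | he0
    · exact hgood
    · exact hrest e0 he0
end

/-- the test at the leaves for extension problems: all blocks of the target are known -/
def leafAll (B0l : List ℕ) (L : List ℕ) : Bool := B0l.all fun c => L.contains c

theorem goodQ_of_leafAll {U t k : ℕ} {B0 : Set (Finset GolayPt)} {B0l : List ℕ}
    (htk : t ≤ k) (hB0 : SteinerOn U t k B0) (hB0l : ∀ b ∈ B0, ∃ c ∈ B0l, finOf c = b)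
    (L : List ℕ) (h : leafAll B0l L = true) : GoodQ U t k (fun B => B = B0) L := by
  intro B hB hmem
  symm
  apply hB0.eq_of_subset hB htk
  intro b0 hb0
  obtain ⟨c, hc, rfl⟩ := hB0l b0 hb0
  rw [leafAll, List.all_eq_true] at h
  have := h c hc
  rw [List.contains_iff_mem] at this
  exact hmem c this

end Cfsg.Agent.Lib.Helper7
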