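import Cfsg.Agent.Lib.Helper7.SteinerExt

set_option autoImplicit false

namespace Cfsg.Agent.Lib.Helper7

open Cfsg
open scoped Pointwise

theorem GoodQ.mono {U t k : ℕ} {Q : Set (Finset GolayPt) → Prop} {T L : List ℕ}
    (h : GoodQ U t k Q T) (hsub : ∀ m ∈ T, m ∈ L) : GoodQ U t k Q L :=
  fun B hB hmem => h B hB fun m hm => hmem m (hsub m hm)

/-- the test at the leaves: the known blocks contain one of the target lists -/
def leafAny (targets : List (List ℕ)) (L : List ℕ) : Bool := targets.any fun T => leafAll T L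

theorem goodQ_of_leafAny {U t k : ℕ} {Q : Set (Finset GolayPt) → Prop}
    {targets : List (List ℕ)} (h : ∀ T ∈ targets, GoodQ U t k Q T) (L : List ℕ)
    (hL : leafAny targets L = true) : GoodQ U t k Q L := by
  rw [leafAny, List.any_eq_true] at hL
  obtain ⟨T, hT, hTL⟩ := hL
  apply (h T hT).mono
  intro m hm
  rw [leafAll, List.all_eq_true] at hTL
  have := hTL m hm
  rwa [List.contains_iff_mem] at this

/-- a Steiner system containing all blocks of another one is equal to it -/
theorem goodQ_of_listed {U t k : ℕ} {B0 : Set (Finset GolayPt)} {B0l : List ℕ}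
    {Q : Set (Finset GolayPt) → Prop} (hQ : Q B0)
    (htk : t ≤ k) (hB0 : SteinerOn U t k B0) (hB0l : ∀ b ∈ B0, ∃ c ∈ B0l, finOf c = b) :
    GoodQ U t k Q B0l := by
  intro B hB hmem
  have : B0 = B := by
    apply hB0.eq_of_subset hB htk
    intro b0 hb0
    obtain ⟨c, hc, rfl⟩ := hB0l b0 hb0
    exact hmem c hc
  rw [← this]
  exact hQ

end Cfsg.Agent.Lib.Helper7
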