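import Cfsg.Agent.Lib.Helper7.GolayChain

set_option autoImplicit false

namespace Cfsg.Agent.Lib.Helper7

open Cfsg
open scoped Pointwise

/-! ### masks and finite sets of points -/

theorem finOf_or (a b : ℕ) : finOf (a ||| b) = finOf a ∪ finOf b := by
  ext p
  simp [mem_finOf, Nat.testBit_or]

theorem finOf_zero' : finOf 0 = ∅ := by
  ext p
  simp [mem_finOf]

theorem finOf_two_pow (x : ℕ) (hx : x < 24) : finOf (2 ^ x) = {pt x} := by
  ext p
  rw [mem_finOf, Nat.testBit_two_pow, Finset.mem_singleton]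
  constructor
  · intro h
    have : x = idx p := by simpa using h
    rw [this, pt_idx]
  · rintro rfl
    rw [idx_pt x hx]
    simp

theorem and_eq_of_subset {s b : ℕ} (hs : s < 2 ^ 24) (h : finOf s ⊆ finOf b) : b &&& s = s := by
  apply eq_of_finOf_eq (lt_of_le_of_lt Nat.and_le_right hs) hs
  rw [finOf_and]
  exact Finset.inter_eq_right.2 h

theorem subset_of_and_eq {s b : ℕ} (h : b &&& s = s) : finOf s ⊆ finOf b := by
  rw [← h, finOf_and]
  exact Finset.inter_subset_left

theorem card_inter_finOf (a b : ℕ) : (finOf a ∩ finOf b).card = popc (a &&& b) := by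
  rw [← finOf_and, card_finOf]

theorem maskOfSet_empty : maskOfSet ∅ = 0 := by
  apply eq_of_finOf_eq (maskOfSet_lt _) (by norm_num)
  rw [finOf_maskOfSet, finOf_zero']

theorem maskOfSet_insert (f : Finset GolayPt) (x : ℕ) (hx : x < 24) :
    maskOfSet (insert (pt x) f) = maskOfSet f ||| 2 ^ x := by
  apply eq_of_finOf_eq (maskOfSet_lt _)
  · exact Nat.or_lt_two_pow (maskOfSet_lt _) (Nat.pow_lt_pow_right (by norm_num) hx)
  · rw [finOf_maskOfSet, finOf_or, finOf_maskOfSet, finOf_two_pow x hx]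
    ext p
    simp [or_comm]

/-! ### permutations from tables -/

/-- validity of permutation data -/
def PD.valid (d : PD) : Bool := isInvTab d.fwd d.bwd && isInvTab d.bwd d.fwd

theorem isInvTab_spec {L L' : List ℕ} (h : isInvTab L L' = true) :
    L'.length = 24 ∧ (∀ j < 24, L'.getD j 0 < 24) ∧ ∀ j < 24, L.getD (L'.getD j 0) 0 = j := by
  simp only [isInvTab, Bool.and_eq_true, beq_iff_eq, List.all_eq_true, decide_eq_true_eq,
    List.mem_range] at h
  obtain ⟨⟨hlen, hlt⟩, hinv⟩ := h
  refine ⟨hlen, ?_, hinv⟩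
  intro j hj
  rw [List.getD_eq_getElem _ _ (by rw [hlen]; exact hj)]
  exact hlt _ (List.getElem_mem _)

/-- the permutation described by valid data -/
def PD.toPerm (d : PD) (h : d.valid = true) : Equiv.Perm GolayPt where
  toFun p := pt (d.fwd.getD (idx p) 0)
  invFun p := pt (d.bwd.getD (idx p) 0)
  left_inv p := by
    simp only [PD.valid, Bool.and_eq_true] at h
    obtain ⟨-, h1, -⟩ := isInvTab_spec h.2
    obtain ⟨-, -, h2⟩ := isInvTab_spec h.2
    show pt (d.bwd.getD (idx (pt (d.fwd.getD (idx p) 0))) 0) = p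
    rw [idx_pt _ (h1 _ (idx_lt p)), h2 _ (idx_lt p), pt_idx]
  right_inv p := by
    simp only [PD.valid, Bool.and_eq_true] at h
    obtain ⟨-, h1, -⟩ := isInvTab_spec h.1
    obtain ⟨-, -, h2⟩ := isInvTab_spec h.1
    show pt (d.fwd.getD (idx (pt (d.bwd.getD (idx p) 0))) 0) = p
    rw [idx_pt _ (h1 _ (idx_lt p)), h2 _ (idx_lt p), pt_idx]

theorem PD.rep_toPerm (d : PD) (h : d.valid = true) : Rep (d.toPerm h) d := by
  have h' := h
  simp only [PD.valid, Bool.and_eq_true] at h'
  have htab : tab (d.toPerm h) = d.fwd := by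
    obtain ⟨hlen, h1, -⟩ := isInvTab_spec h'.2
    apply list_ext_getD
    · rw [tab_length, hlen]
    · intro i hi
      have hi' : i < 24 := by rwa [tab_length] at hi
      rw [tab_getD _ _ hi']
      show idx (pt (d.fwd.getD (idx (pt i)) 0)) = _
      rw [idx_pt i hi', idx_pt _ (h1 i hi')]
  exact Rep.of_isInvTab htab h'.1

theorem exists_rep_of_valid (d : PD) (h : d.valid = true) : ∃ σ : Equiv.Perm GolayPt, Rep σ d :=
  ⟨d.toPerm h, d.rep_toPerm h⟩

end Cfsg.Agent.Lib.Helper7
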