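import Cfsg.Agent.Lib.Helper7.SteinerSpec
import Cfsg.Agent.Lib.Helper7.GolaySteiner
import Cfsg.Agent.Lib.Helper7.M12Chain

set_option autoImplicit false

namespace Cfsg.Agent.Lib.Helper7

open Cfsg
open scoped Pointwise

/-- Steiner systems derived from the octads: take the octads containing the points of `P` and
meeting `D` in `w` points, intersect with `D` and remove `P` -/
def derivedSys (D P w : ℕ) : Set (Finset GolayPt) :=
  {b | ∃ o ∈ octads, finOf P ⊆ o ∧ (o ∩ finOf D).card = w ∧ b = (o ∩ finOf D) \ finOf P}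

theorem steinerOn_derived (U D P w r : ℕ) (hPD : finOf P ⊆ finOf D)
    (hw : ∀ o ∈ octads, 5 ≤ (o ∩ finOf D).card → (o ∩ finOf D).card = w)
    (hr : (finOf P).card = r) (hr5 : r ≤ 5) (hU : finOf U = finOf D \ finOf P) :
    SteinerOn U (5 - r) (w - r) (derivedSys D P w) := by
  refine ⟨?_, ?_⟩
  · rintro b ⟨o, ho, hPo, hcard, rfl⟩
    refine ⟨?_, ?_⟩
    · rw [hU]
      exact Finset.sdiff_subset_sdiff Finset.inter_subset_right (le_refl _)
    · rw [Finset.card_sdiff_of_subset (Finset.subset_inter hPo hPD), hcard, hr]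
  · intro s hs hcard
    have hsD : s ⊆ finOf D := fun x hx => (Finset.mem_sdiff.1 (hU ▸ hs hx)).1
    have hsP : Disjoint s (finOf P) := by
      rw [Finset.disjoint_left]
      intro x hx
      exact (Finset.mem_sdiff.1 (hU ▸ hs hx)).2
    have h5 : (s ∪ finOf P).card = 5 := by
      rw [Finset.card_union_of_disjoint hsP, hcard, hr]
      omega
    obtain ⟨o, ho, hso⟩ := exists_octad_of_card_eq_five _ h5
    have hPo : finOf P ⊆ o := Finset.union_subset_right hso
    have hsub : s ∪ finOf P ⊆ o ∩ finOf D :=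
      Finset.subset_inter hso (Finset.union_subset hsD hPD)
    have hcardw : (o ∩ finOf D).card = w := by
      apply hw o ho
      rw [← h5]
      exact Finset.card_le_card hsub
    refine ⟨(o ∩ finOf D) \ finOf P, ⟨⟨o, ho, hPo, hcardw, rfl⟩, ?_⟩, ?_⟩
    · intro x hx
      rw [Finset.mem_sdiff]
      exact ⟨hsub (Finset.mem_union_left _ hx), Finset.disjoint_left.1 hsP hx⟩
    · rintro b ⟨⟨o', ho', hPo', -, rfl⟩, hsb⟩
      have hso' : s ∪ finOf P ⊆ o' := by
        apply Finset.union_subset _ hPo'
        intro x hx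
        exact (Finset.mem_inter.1 (Finset.mem_sdiff.1 (hsb hx)).1).1
      have : o' = o := by
        apply octad_eq_of_card_inter ho' ho
        rw [← h5]
        exact Finset.card_le_card (Finset.subset_inter hso' hso)
      rw [this]

theorem finOf_xor_of_subset {a p : ℕ} (h : finOf p ⊆ finOf a) :
    finOf (a ^^^ p) = finOf a \ finOf p := by
  ext x
  rw [mem_finOf, Nat.testBit_xor, Finset.mem_sdiff, mem_finOf, mem_finOf]
  have := @h x
  rw [mem_finOf, mem_finOf] at this
  cases h1 : a.testBit (idx x) <;> cases h2 : p.testBit (idx x) <;> simp_all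

/-- the list of masks of a derived system -/
def derivedList (D P w : ℕ) : List ℕ :=
  ((List.range 4096).filter fun i =>
    popc (encode i) == 8 && ((encode i) &&& P == P) && (popc ((encode i) &&& D) == w)).map
      fun i => ((encode i) &&& D) ^^^ P

theorem mem_derivedList (D P w : ℕ) (b : Finset GolayPt) (hb : b ∈ derivedSys D P w)
    (hP : P < 2 ^ 24) (hPD : finOf P ⊆ finOf D) : ∃ c ∈ derivedList D P w, finOf c = b := by
  obtain ⟨o, ho, hPo, hcard, rfl⟩ := hb
  obtain ⟨i, hi, rfl⟩ := (mem_supports_golayCode_iff o).1 ho.1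
  have hpop : popc (encode i) = 8 := by rw [← card_finOf]; exact ho.2
  refine ⟨((encode i) &&& D) ^^^ P, ?_, ?_⟩
  · rw [derivedList, List.mem_map]
    refine ⟨i, ?_, rfl⟩
    rw [List.mem_filter]
    refine ⟨List.mem_range.2 hi, ?_⟩
    simp only [Bool.and_eq_true, beq_iff_eq]
    refine ⟨⟨hpop, and_eq_of_subset hP hPo⟩, ?_⟩
    rw [← card_inter_finOf]
    exact hcard
  · rw [finOf_xor_of_subset, finOf_and]
    rw [finOf_and]
    exact Finset.subset_inter hPo hPD

end Cfsg.Agent.Lib.Helper7
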