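import Cfsg.Agent.Lib.Helper7.SteinerEngine

set_option autoImplicit false

namespace Cfsg.Agent.Lib.Helper7

open Cfsg
open scoped Pointwise

theorem smul_finOf_eq_of_pushMask {ρ : Equiv.Perm GolayPt} {d : PD} (h : Rep ρ d) {a b : ℕ}
    (hab : pushMask d.bwd a = b) : ρ • finOf a = finOf b := by
  rw [h.smul_finOf, hab]

/-- the symmetry step -/
theorem Good.of_sym {U t k : ℕ} {B0 : Set (Finset GolayPt)} {L : List ℕ} {c c' : ℕ}
    (hgood : Good U t k B0 (c' :: L)) (π : PD) (hπ : π.valid = true)
    (hU : pushMask π.bwd U = U) (hL : ∀ m ∈ L, pushMask π.bwd m ∈ L)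
    (hc : pushMask π.bwd c' = c) : Good U t k B0 (c :: L) := by
  obtain ⟨ρ, hρ⟩ := exists_rep_of_valid π hπ
  have hρU : ρ • finOf U = finOf U := smul_finOf_eq_of_pushMask hρ hU
  have hρU' : ρ⁻¹ • finOf U = finOf U := by rw [inv_smul_eq_iff, hρU]
  intro B hB hmem
  have hB' : SteinerOn U t k (ρ⁻¹ • B) := hB.smul ρ⁻¹ hρU'
  have hmem' : ∀ m ∈ c' :: L, finOf m ∈ ρ⁻¹ • B := by
    intro m hm
    rw [Set.mem_inv_smul_set_iff]
    rcases List.mem_cons.1 hm with rfl | hm
    · rw [smul_finOf_eq_of_pushMask hρ hc]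
      exact hmem c List.mem_cons_self
    · rw [smul_finOf_eq_of_pushMask hρ rfl]
      exact hmem _ (List.mem_cons_of_mem _ (hL m hm))
  obtain ⟨σ, hσU, hσB⟩ := hgood _ hB' hmem'
  refine ⟨σ * ρ⁻¹, ?_, ?_⟩
  · rw [mul_smul, hρU', hσU]
  · rw [mul_smul, hσB]

/-- the leaf step -/
theorem Good.of_leaf {U t k : ℕ} {B0 : Set (Finset GolayPt)} {B0l : List ℕ} {L : List ℕ}
    (htk : t ≤ k) (hB0 : SteinerOn U t k B0) (hB0l : ∀ b ∈ B0, ∃ c ∈ B0l, finOf c = b)
    (σ : PD) (hσ : σ.valid = true) (hU : pushMask σ.bwd U = U)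
    (hall : ∀ c ∈ B0l, c ∈ L.map (pushMask σ.bwd)) : Good U t k B0 L := by
  obtain ⟨ρ, hρ⟩ := exists_rep_of_valid σ hσ
  have hρU : ρ • finOf U = finOf U := smul_finOf_eq_of_pushMask hρ hU
  intro B hB hmem
  refine ⟨ρ, hρU, ?_⟩
  symm
  apply hB0.eq_of_subset (hB.smul ρ hρU) htk
  intro b0 hb0
  obtain ⟨c, hc, rfl⟩ := hB0l b0 hb0
  obtain ⟨m, hm, hmc⟩ := List.mem_map.1 (hall c hc)
  rw [← smul_finOf_eq_of_pushMask hρ hmc]
  exact Set.smul_mem_smul_set (hmem m hm)

/-- the node step -/
theorem Good.of_node {U t k : ℕ} {B0 : Set (Finset GolayPt)} {L : List ℕ} {s : ℕ}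
    (hs : s < 2 ^ 24) (hsU : U &&& s = s) (hst : popc s = t)
    (hunc : ∀ m ∈ L, m &&& s ≠ s)
    (hkids : ∀ e ∈ candList U t k s L, Good U t k B0 ((s ||| e) :: L)) : Good U t k B0 L := by
  intro B hB hmem
  have hsU' : finOf s ⊆ finOf U := subset_of_and_eq hsU
  have hscard : (finOf s).card = t := by rw [card_finOf, hst]
  obtain ⟨b, ⟨hbB, hsb⟩, -⟩ := hB.2 (finOf s) hsU' hscard
  obtain ⟨hbU, hbk⟩ := hB.1 b hbB
  -- known blocks differ from `b`
  have hne : ∀ m ∈ L, finOf m ≠ b := by
    intro m hm heq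
    apply hunc m hm
    apply and_eq_of_subset hs
    rw [heq]
    exact hsb
  have hlt : ∀ m ∈ L, (finOf m ∩ b).card < t := fun m hm =>
    hB.inter_lt (hmem m hm) hbB (hne m hm)
  set f : Finset GolayPt := b \ finOf s with hf
  set e : ℕ := maskOfSet f with he
  have hfin : finOf (s ||| e) = b := by
    rw [finOf_or, he, finOf_maskOfSet, hf]
    exact Finset.union_sdiff_of_subset hsb
  have hcand : e ∈ candList U t k s L := by
    rw [candList_eq, List.mem_filter]
    refine ⟨?_, ?_⟩
    · apply mem_enumSub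
      · simp only [allowedPts, force_eq]
        exact List.Nodup.filter _ List.nodup_range
      · intro x hx
        exact ((mem_allowedPts _ _ _ _).1 hx).1
      · intro p hp
        rw [hf, Finset.mem_sdiff] at hp
        rw [mem_allowedPts]
        refine ⟨idx_lt p, ?_⟩
        have h1 : U.testBit (idx p) = true := (mem_finOf U p).1 (hbU hp.1)
        have h2 : s.testBit (idx p) = false := by
          have := hp.2
          rw [mem_finOf] at this
          simpa using this
        have h3 : (forbMask t s L).testBit (idx p) = false := by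
          by_contra hcon
          have hcon' : (forbMask t s L).testBit (idx p) = true := by simpa using hcon
          obtain ⟨m, hm, hm1, hm2⟩ := testBit_forbMask t s L _ hcon'
          have hlt' := hlt m hm
          have hsub : insert p (finOf m ∩ finOf s) ⊆ finOf m ∩ b := by
            intro q hq
            rcases Finset.mem_insert.1 hq with rfl | hq
            · exact Finset.mem_inter.2 ⟨(mem_finOf m q).2 hm2, hp.1⟩
            · have := Finset.mem_inter.1 hq
              exact Finset.mem_inter.2 ⟨this.1, hsb this.2⟩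
          have hcard := Finset.card_le_card hsub
          rw [Finset.card_insert_of_notMem (fun h => hp.2 (Finset.mem_inter.1 h).2),
            card_inter_finOf] at hcard
          have hle := popK_le 25 (m &&& s) (lt_of_le_of_lt Nat.and_le_right hs)
          omega
        rw [h1, h2, h3]
        rfl
      · rw [hf, Finset.card_sdiff_of_subset hsb, hbk, hscard]
    · rw [viable, List.all_eq_true]
      intro m hm
      have hc24 : s ||| e < 2 ^ 24 := Nat.or_lt_two_pow hs (maskOfSet_lt _)
      have hle := popK_le 25 (m &&& (s ||| e)) (lt_of_le_of_lt Nat.and_le_right hc24)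
      have h1 : (finOf m ∩ finOf (s ||| e)).card < t := by
        rw [hfin]
        exact hlt m hm
      rw [card_inter_finOf] at h1
      have h2 : Nat.land m (s ||| e) = m &&& (s ||| e) := rfl
      rw [h2, Nat.blt_eq]
      omega
  have hgood := hkids e hcand
  apply hgood B hB
  intro m hm
  rcases List.mem_cons.1 hm with rfl | hm
  · rw [hfin]; exact hbB
  · exact hmem m hm

mutual
/-- soundness of the checker -/
theorem STree.check_sound (U t k : ℕ) (B0l : List ℕ) (B0 : Set (Finset GolayPt))
    (htk : t ≤ k) (hB0 : SteinerOn U t k B0) (hB0l : ∀ b ∈ B0, ∃ c ∈ B0l, finOf c = b) :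
    ∀ (T : STree) (L : List ℕ), T.check U t k B0l L = true → Good U t k B0 L
  | .leaf f0 f1 b0 b1, L, h => by
    simp only [STree.check, forceList_eq, Bool.and_eq_true, List.all_eq_true,
      List.contains_iff_mem] at h
    obtain ⟨⟨h1, h2⟩, h3⟩ := h
    have h2' : pushMask (unpackPD (tabAt f0 f1) (tabAt b0 b1)).bwd U = U := by
      show pushMask (unpackT (tabAt b0 b1)) U = U
      rw [← fastPush_eq]
      exact Nat.eq_of_beq_eq_true h2
    have h3' : ∀ c ∈ B0l, c ∈ L.map (pushMask (unpackPD (tabAt f0 f1) (tabAt b0 b1)).bwd) := by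
      intro c hc
      have := h3 c hc
      have h4 : fastPush (tabAt b0 b1) = pushMask (unpackPD (tabAt f0 f1) (tabAt b0 b1)).bwd := by
        funext n
        rw [fastPush_eq]
        rfl
      rwa [h4] at this
    exact Good.of_leaf htk hB0 hB0l (unpackPD (tabAt f0 f1) (tabAt b0 b1)) (valid_of_fastValid h1) h2' h3'
  | .node s kids, L, h => by
    simp only [STree.check, forceList_eq, Bool.and_eq_true, beq_iff_eq, List.all_eq_true,
      decide_eq_true_eq] at h
    obtain ⟨⟨⟨⟨h1, h2⟩, h3⟩, h4⟩, h5⟩ := h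
    have h4' : ∀ m ∈ L, m &&& s ≠ s := by
      intro m hm heq
      have := h4 m hm
      have h6 : Nat.beq (Nat.land m s) s = true := by
        have h7 : Nat.land m s = s := heq
        rw [h7]
        exact Nat.beq_refl s
      rw [h6] at this
      exact absurd this (by decide)
    apply Good.of_node h1 h2 h3 h4'
    exact SKids.check_sound U t k B0l B0 htk hB0 hB0l kids L s _ [] h5 (fun e he => by simp at he)
/-- soundness of the checker for children -/
theorem SKids.check_sound (U t k : ℕ) (B0l : List ℕ) (B0 : Set (Finset GolayPt))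
    (htk : t ≤ k) (hB0 : SteinerOn U t k B0) (hB0l : ∀ b ∈ B0, ∃ c ∈ B0l, finOf c = b) :
    ∀ (K : SKids) (L : List ℕ) (s : ℕ) (vs est : List ℕ), K.check U t k B0l L s vs est = true →
      (∀ e ∈ est, Good U t k B0 ((s ||| e) :: L)) → ∀ e ∈ vs, Good U t k B0 ((s ||| e) :: L)
  | .done, L, s, [], est, _, _ => by
    intro e he
    simp at he
  | .done, L, s, v :: vs, est, h, _ => by
    simp [SKids.check] at h
  | .kid e sub rest, L, s, [], est, h, _ => by
    simp [SKids.check] at h
  | .sym e f0 f1 b0 b1 e' rest, L, s, [], est, h, _ => by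
    simp [SKids.check] at h
  | .kid e sub rest, L, s, v :: vs, est, h, hest => by
    simp only [SKids.check, force_eq, Bool.and_eq_true] at h
    obtain ⟨⟨h1, h2⟩, h3⟩ := h
    have h1' : e = v := Nat.eq_of_beq_eq_true h1
    subst h1'
    have hgood : Good U t k B0 ((s ||| e) :: L) :=
      STree.check_sound U t k B0l B0 htk hB0 hB0l sub _ h2
    have hrest := SKids.check_sound U t k B0l B0 htk hB0 hB0l rest L s vs (e :: est) h3 (by
      intro e0 he0
      rcases List.mem_cons.1 he0 with rfl | he0
      · exact hgood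
      · exact hest e0 he0)
    intro e0 he0
    rcases List.mem_cons.1 he0 with rfl | he0
    · exact hgood
    · exact hrest e0 he0
  | .sym e f0 f1 b0 b1 e' rest, L, s, v :: vs, est, h, hest => by
    simp only [SKids.check, force_eq, Bool.and_eq_true, List.all_eq_true,
      List.contains_iff_mem] at h
    obtain ⟨⟨⟨⟨⟨⟨h1, h2⟩, h3⟩, h4⟩, h5⟩, h6⟩, h7⟩ := h
    have h1' : e = v := Nat.eq_of_beq_eq_true h1
    subst h1'
    have hpush : ∀ n, fastPush (tabAt b0 b1) n = pushMask (unpackPD (tabAt f0 f1) (tabAt b0 b1)).bwd n := by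
      intro n
      rw [fastPush_eq]
      rfl
    have hgood : Good U t k B0 ((s ||| e) :: L) := by
      refine Good.of_sym (hest e' h2) (unpackPD (tabAt f0 f1) (tabAt b0 b1)) (valid_of_fastValid h3) ?_ ?_ ?_
      · rw [← hpush]
        exact Nat.eq_of_beq_eq_true h4
      · intro m hm
        rw [← hpush]
        exact h5 m hm
      · rw [← hpush]
        exact Nat.eq_of_beq_eq_true h6
    have hrest := SKids.check_sound U t k B0l B0 htk hB0 hB0l rest L s vs est h7 hest
    intro e0 he0
    rcases List.mem_cons.1 he0 with rfl | he0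
    · exact hgood
    · exact hrest e0 he0
end

end Cfsg.Agent.Lib.Helper7
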