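import Cfsg.Agent.Lib.Helper7.SteinerMask

set_option autoImplicit false

namespace Cfsg.Agent.Lib.Helper7

open Cfsg
open scoped Pointwise

/-- Steiner systems on the set of points `finOf U` -/
def SteinerOn (U t k : ℕ) (B : Set (Finset GolayPt)) : Prop :=
  (∀ b ∈ B, b ⊆ finOf U ∧ b.card = k) ∧
    ∀ s : Finset GolayPt, s ⊆ finOf U → s.card = t → ∃! b, b ∈ B ∧ s ⊆ b

theorem SteinerOn.smul {U t k : ℕ} {B : Set (Finset GolayPt)} (h : SteinerOn U t k B)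
    (ρ : Equiv.Perm GolayPt) (hρ : ρ • finOf U = finOf U) : SteinerOn U t k (ρ • B) := by
  have hρ' : ρ⁻¹ • finOf U = finOf U := by
    rw [inv_smul_eq_iff, hρ]
  refine ⟨?_, ?_⟩
  · rintro c ⟨b, hb, rfl⟩
    obtain ⟨h1, h2⟩ := h.1 b hb
    refine ⟨?_, ?_⟩
    · show ρ • b ⊆ finOf U
      rw [← hρ]
      exact Finset.smul_finset_subset_smul_finset_iff.2 h1
    · show (ρ • b).card = k
      rw [Finset.card_smul_finset, h2]
  · intro s hs hcard
    have hs' : ρ⁻¹ • s ⊆ finOf U := by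
      rw [← hρ']
      exact Finset.smul_finset_subset_smul_finset_iff.2 hs
    have hcard' : (ρ⁻¹ • s).card = t := by rw [Finset.card_smul_finset, hcard]
    obtain ⟨b, ⟨hb, hsb⟩, huniq⟩ := h.2 _ hs' hcard'
    refine ⟨ρ • b, ⟨⟨b, hb, rfl⟩, ?_⟩, ?_⟩
    · exact Finset.subset_smul_finset_iff.2 hsb
    · rintro c ⟨⟨b', hb', rfl⟩, hsc⟩
      have hsc' : s ⊆ ρ • b' := hsc
      have := huniq b' ⟨hb', Finset.subset_smul_finset_iff.1 hsc'⟩
      show ρ • b' = ρ • b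
      rw [this]

theorem SteinerOn.inter_lt {U t k : ℕ} {B : Set (Finset GolayPt)} (h : SteinerOn U t k B)
    {b c : Finset GolayPt} (hb : b ∈ B) (hc : c ∈ B) (hne : b ≠ c) : (b ∩ c).card < t := by
  by_contra hcon
  rw [not_lt] at hcon
  obtain ⟨s, hs, hcard⟩ := Finset.exists_subset_card_eq hcon
  have hsU : s ⊆ finOf U := fun x hx =>
    (h.1 b hb).1 (Finset.mem_of_mem_inter_left (hs hx))
  obtain ⟨b0, -, huniq⟩ := h.2 s hsU hcard
  have h1 := huniq b ⟨hb, fun x hx => Finset.mem_of_mem_inter_left (hs hx)⟩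
  have h2 := huniq c ⟨hc, fun x hx => Finset.mem_of_mem_inter_right (hs hx)⟩
  exact hne (h1.trans h2.symm)

theorem SteinerOn.eq_of_subset {U t k : ℕ} {B0 B : Set (Finset GolayPt)}
    (h0 : SteinerOn U t k B0) (h : SteinerOn U t k B) (htk : t ≤ k) (hsub : B0 ⊆ B) : B0 = B := by
  apply Set.Subset.antisymm hsub
  intro b hb
  obtain ⟨hbU, hbk⟩ := h.1 b hb
  obtain ⟨s, hs, hcard⟩ := Finset.exists_subset_card_eq (hbk ▸ htk : t ≤ b.card)
  have hsU : s ⊆ finOf U := hs.trans hbU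
  obtain ⟨b0, ⟨hb0, hsb0⟩, -⟩ := h0.2 s hsU hcard
  obtain ⟨b1, -, huniq⟩ := h.2 s hsU hcard
  have h1 := huniq b ⟨hb, hs⟩
  have h2 := huniq b0 ⟨hsub hb0, hsb0⟩
  rw [h1, ← h2]
  exact hb0

/-- every Steiner system containing the listed blocks is isomorphic to `B0` -/
def Good (U t k : ℕ) (B0 : Set (Finset GolayPt)) (L : List ℕ) : Prop :=
  ∀ B : Set (Finset GolayPt), SteinerOn U t k B → (∀ m ∈ L, finOf m ∈ B) →
    ∃ σ : Equiv.Perm GolayPt, σ • finOf U = finOf U ∧ σ • B = B0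

end Cfsg.Agent.Lib.Helper7
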