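import Cfsg.Agent.Lib.Helper7.SteinerSound

set_option autoImplicit false

namespace Cfsg.Agent.Lib.Helper7

open Cfsg
open scoped Pointwise

section

variable {α : Type*} [Fintype α] [DecidableEq α]

/-- an embedding of a type with `popc U` elements onto `finOf U` -/
noncomputable def embOf (U : ℕ) (hα : Fintype.card α = popc U) : α ↪ GolayPt :=
  (Fintype.equivOfCardEq (by rw [hα, Fintype.card_coe, card_finOf]) :
    α ≃ ↥(finOf U)).toEmbedding.trans (Function.Embedding.subtype _)

theorem embOf_mem (U : ℕ) (hα : Fintype.card α = popc U) (a : α) : embOf U hα a ∈ finOf U := by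
  simp only [embOf, Function.Embedding.trans_apply, Equiv.coe_toEmbedding,
    Function.Embedding.subtype_apply]
  exact Subtype.coe_prop _

theorem exists_embOf_eq (U : ℕ) (hα : Fintype.card α = popc U) (y : GolayPt) (hy : y ∈ finOf U) :
    ∃ a : α, embOf U hα a = y := by
  refine ⟨(Fintype.equivOfCardEq (by rw [hα, Fintype.card_coe, card_finOf]) :
    α ≃ ↥(finOf U)).symm ⟨y, hy⟩, ?_⟩
  simp [embOf]

/-- the image of a family of subsets in `GolayPt` -/
noncomputable def pushSys (U : ℕ) (hα : Fintype.card α = popc U) (B : Set (Finset α)) :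
    Set (Finset GolayPt) := (fun b => b.map (embOf U hα)) '' B

theorem steinerOn_pushSys (U t k : ℕ) (hα : Fintype.card α = popc U) {B : Set (Finset α)}
    (hB : IsSteinerSystem t k B) : SteinerOn U t k (pushSys U hα B) := by
  refine ⟨?_, ?_⟩
  · rintro c ⟨b, hb, rfl⟩
    refine ⟨?_, ?_⟩
    · intro y hy
      simp only [Finset.mem_map] at hy
      obtain ⟨a, -, rfl⟩ := hy
      exact embOf_mem U hα a
    · simp only [Finset.card_map]
      exact hB.1 b hb
  · intro s hs hcard
    set s' : Finset α := Finset.univ.filter (fun a => embOf U hα a ∈ s) with hs'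
    have hmap : s'.map (embOf U hα) = s := by
      ext y
      simp only [Finset.mem_map, hs', Finset.mem_filter, Finset.mem_univ, true_and]
      constructor
      · rintro ⟨a, ha, rfl⟩
        exact ha
      · intro hy
        obtain ⟨a, rfl⟩ := exists_embOf_eq U hα y (hs hy)
        exact ⟨a, hy, rfl⟩
    have hcard' : s'.card = t := by
      rw [← hcard, ← hmap, Finset.card_map]
    obtain ⟨b, ⟨hbB, hsb⟩, huniq⟩ := hB.2 s' hcard'
    refine ⟨b.map (embOf U hα), ⟨⟨b, hbB, rfl⟩, ?_⟩, ?_⟩
    · rw [← hmap]
      exact Finset.map_subset_map.2 hsb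
    · rintro c ⟨⟨b', hb', rfl⟩, hsc⟩
      have hsb' : s' ⊆ b' := by
        intro a ha
        have h1 : embOf U hα a ∈ s := by
          rw [hs', Finset.mem_filter] at ha
          exact ha.2
        have h2 := hsc h1
        simp only [Finset.mem_map] at h2
        obtain ⟨a', ha', heq⟩ := h2
        rw [← (embOf U hα).injective heq]
        exact ha'
      have := huniq b' ⟨hb', hsb'⟩
      show b'.map (embOf U hα) = b.map (embOf U hα)
      rw [this]

end

/-- two Steiner systems that can both be moved onto a common family are isomorphic -/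
theorem setSystemIso_of_good {U t k : ℕ} {B0 : Set (Finset GolayPt)} (hgood : Good U t k B0 [])
    {α β : Type*} [Fintype α] [DecidableEq α] [Fintype β] [DecidableEq β]
    (hα : Fintype.card α = popc U) (hβ : Fintype.card β = popc U)
    {B : Set (Finset α)} {B' : Set (Finset β)} (hB : IsSteinerSystem t k B)
    (hB' : IsSteinerSystem t k B') : SetSystemIso B B' := by
  obtain ⟨σ, hσU, hσB⟩ := hgood _ (steinerOn_pushSys U t k hα hB) (by simp)
  obtain ⟨σ', hσ'U, hσ'B⟩ := hgood _ (steinerOn_pushSys U t k hβ hB') (by simp)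
  set τ : Equiv.Perm GolayPt := σ'⁻¹ * σ with hτ
  have hτU : τ • finOf U = finOf U := by
    rw [hτ, mul_smul, hσU, inv_smul_eq_iff, hσ'U]
  have hτB : τ • pushSys U hα B = pushSys U hβ B' := by
    rw [hτ, mul_smul, hσB, inv_smul_eq_iff, hσ'B]
  have hτmem : ∀ x, τ x ∈ finOf U ↔ x ∈ finOf U := by
    intro x
    constructor
    · intro h
      have h1 : τ x ∈ τ • finOf U := by rw [hτU]; exact h
      rw [Finset.mem_smul_finset] at h1
      obtain ⟨y, hy, hxy⟩ := h1
      have : y = x := τ.injective hxy
      rw [← this]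
      exact hy
    · intro h
      rw [← hτU]
      exact Finset.smul_mem_smul_finset h
  -- the bijection
  have key : ∀ a : α, ∃ c : β, embOf U hβ c = τ (embOf U hα a) := fun a =>
    exists_embOf_eq U hβ _ ((hτmem _).2 (embOf_mem U hα a))
  choose g hg using key
  have hginj : Function.Injective g := by
    intro a a' h
    have h1 : τ (embOf U hα a) = τ (embOf U hα a') := by rw [← hg a, ← hg a', h]
    exact (embOf U hα).injective (τ.injective h1)
  have hcard : Fintype.card α = Fintype.card β := by rw [hα, hβ]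
  have hgbij : Function.Bijective g :=
    (Fintype.bijective_iff_injective_and_card g).2 ⟨hginj, hcard⟩
  let e : α ≃ β := Equiv.ofBijective g hgbij
  have hmapg : ∀ b : Finset α, (b.image e).map (embOf U hβ) = τ • (b.map (embOf U hα)) := by
    intro b
    ext y
    simp only [Finset.mem_map, Finset.mem_image, Finset.mem_smul_finset]
    constructor
    · rintro ⟨c, ⟨a, ha, rfl⟩, rfl⟩
      exact ⟨embOf U hα a, ⟨a, ha, rfl⟩, (hg a).symm⟩
    · rintro ⟨x, ⟨a, ha, rfl⟩, rfl⟩
      exact ⟨e a, ⟨a, ha, rfl⟩, hg a⟩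
  refine ⟨e, ?_⟩
  apply Set.Subset.antisymm
  · rintro c ⟨b, hb, rfl⟩
    show b.image e ∈ B'
    have h1 : τ • (b.map (embOf U hα)) ∈ pushSys U hβ B' := by
      rw [← hτB]
      exact Set.smul_mem_smul_set ⟨b, hb, rfl⟩
    obtain ⟨b', hb', hb'eq⟩ := h1
    have h2 : b'.map (embOf U hβ) = (b.image e).map (embOf U hβ) := by
      rw [hmapg]
      exact hb'eq
    have h3 : b' = b.image e := Finset.map_injective _ h2
    rw [← h3]
    exact hb'
  · intro b' hb'
    have h1 : b'.map (embOf U hβ) ∈ τ • pushSys U hα B := by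
      rw [hτB]
      exact ⟨b', hb', rfl⟩
    obtain ⟨c, ⟨b, hb, rfl⟩, hceq⟩ := h1
    refine ⟨b, hb, ?_⟩
    show b.image e = b'
    apply Finset.map_injective (embOf U hβ)
    rw [hmapg]
    exact hceq

end Cfsg.Agent.Lib.Helper7
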