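import Cfsg.Agent.Lib.Helper7.SteinerModels
import Cfsg.Agent.Lib.Helper7.SteinerTransport

set_option autoImplicit false

namespace Cfsg.Agent.Lib.Helper7

open Cfsg
open scoped Pointwise

theorem finOf_full : finOf 16777215 = Finset.univ := by
  ext p
  rw [mem_finOf]
  have : ∀ i < 24, (16777215 : ℕ).testBit i = true := by decide
  simp [this _ (idx_lt p)]

theorem hw_full : ∀ o ∈ octads, 5 ≤ (o ∩ finOf 16777215).card → (o ∩ finOf 16777215).card = 8 := by
  intro o ho _
  rw [finOf_full, Finset.inter_univ]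
  exact ho.2

theorem hw_dod : ∀ o ∈ octads, 5 ≤ (o ∩ finOf baseDod).card → (o ∩ finOf baseDod).card = 6 := by
  intro o ho h
  rcases card_octad_inter_dodecad ho baseDod_mem with h1 | h1 | h1 <;> omega

/-- uniqueness from a verified search certificate -/
theorem good_of_check (U D P w r t k : ℕ) (B0l : List ℕ) (T : STree)
    (hPD : D &&& P = P) (hP : P < 2 ^ 24)
    (hw : ∀ o ∈ octads, 5 ≤ (o ∩ finOf D).card → (o ∩ finOf D).card = w)
    (hr : popc P = r) (hr5 : r ≤ 5) (hU : U = D ^^^ P) (ht : t = 5 - r) (hk : k = w - r)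
    (htk : t ≤ k)
    (hlist : (derivedList D P w).all (fun c => B0l.contains c) = true)
    (hcheck : T.check U t k B0l [] = true) : Good U t k (derivedSys D P w) [] := by
  have hPD' : finOf P ⊆ finOf D := subset_of_and_eq hPD
  have hst : SteinerOn U t k (derivedSys D P w) := by
    rw [ht, hk]
    apply steinerOn_derived U D P w r hPD' hw (by rw [card_finOf, hr]) hr5
    rw [hU, finOf_xor_of_subset hPD']
  apply STree.check_sound U t k B0l _ htk hst _ T [] hcheck
  intro b hb
  obtain ⟨c, hc, hcb⟩ := mem_derivedList D P w b hb hP hPD'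
  rw [List.all_eq_true] at hlist
  have := hlist c hc
  rw [List.contains_iff_mem] at this
  exact ⟨c, this, hcb⟩

end Cfsg.Agent.Lib.Helper7
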