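import Cfsg.Agent.Lib.Helper7.AutOctads
import Cfsg.Agent.Lib.Helper7.AutTransport
import Cfsg.Agent.Lib.Helper7.M24Trans
import Cfsg.Agent.Lib.Helper7.SteinerMask

set_option autoImplicit false

namespace Cfsg.Agent.Lib.Helper7

open Cfsg
open scoped Pointwise

/-- the points other than `∞` and `22` -/
def Pred22 (x : GolayPt) : Prop := x ≠ none ∧ x ≠ some 22

instance : DecidablePred Pred22 := fun x => by
  unfold Pred22
  infer_instance

/-- the 22 remaining points -/
abbrev Pt22 : Type := {x : GolayPt // Pred22 x}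

theorem card_Pt22 : Fintype.card Pt22 = 22 := by
  decide

theorem not_pred22_none : ¬ Pred22 (none : GolayPt) := fun h => h.1 rfl

theorem not_pred22_q : ¬ Pred22 (some 22 : GolayPt) := fun h => h.2 rfl

theorem pred22_of_ne {x : GolayPt} (h1 : x ≠ none) (h2 : x ≠ some 22) : Pred22 x := ⟨h1, h2⟩

/-- the transposition of the two removed points -/
def swapPQ : Equiv.Perm GolayPt := Equiv.swap none (some 22)

/-- add the two points to a set of the remaining ones -/
def up (b : Finset Pt22) : Finset GolayPt :=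
  insert none (insert (some 22) (b.map (Function.Embedding.subtype Pred22)))

/-- the part of a set among the remaining points -/
def down (o : Finset GolayPt) : Finset Pt22 := o.subtype Pred22

theorem mem_up (b : Finset Pt22) (x : GolayPt) :
    x ∈ up b ↔ x = none ∨ x = some 22 ∨ ∃ y ∈ b, (y : GolayPt) = x := by
  simp only [up, Finset.mem_insert, Finset.mem_map, Function.Embedding.coe_subtype]

theorem none_mem_up (b : Finset Pt22) : (none : GolayPt) ∈ up b :=
  (mem_up b none).2 (Or.inl rfl)

theorem q_mem_up (b : Finset Pt22) : (some 22 : GolayPt) ∈ up b :=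
  (mem_up b _).2 (Or.inr (Or.inl rfl))

theorem coe_mem_up (b : Finset Pt22) (y : Pt22) : (y : GolayPt) ∈ up b ↔ y ∈ b := by
  rw [mem_up]
  constructor
  · rintro (h | h | ⟨y', hy', h⟩)
    · exact absurd h y.2.1
    · exact absurd h y.2.2
    · rw [← Subtype.ext h]
      exact hy'
  · intro h
    exact Or.inr (Or.inr ⟨y, h, rfl⟩)

theorem card_up (b : Finset Pt22) : (up b).card = b.card + 2 := by
  have h1 : (some 22 : GolayPt) ∉ b.map (Function.Embedding.subtype Pred22) := by
    intro h
    rw [Finset.mem_map] at h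
    obtain ⟨y, -, hy⟩ := h
    exact y.2.2 hy
  have h2 : (none : GolayPt) ∉
      insert (some 22 : GolayPt) (b.map (Function.Embedding.subtype Pred22)) := by
    intro h
    rw [Finset.mem_insert] at h
    rcases h with h | h
    · exact absurd h (by simp)
    · rw [Finset.mem_map] at h
      obtain ⟨y, -, hy⟩ := h
      exact y.2.1 hy
  rw [up, Finset.card_insert_of_notMem h2, Finset.card_insert_of_notMem h1, Finset.card_map]

theorem up_mono {b b' : Finset Pt22} (h : b ⊆ b') : up b ⊆ up b' := by
  intro x hx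
  rw [mem_up] at hx ⊢
  rcases hx with hx | hx | ⟨y, hy, hx⟩
  · exact Or.inl hx
  · exact Or.inr (Or.inl hx)
  · exact Or.inr (Or.inr ⟨y, h hy, hx⟩)

theorem mem_down (o : Finset GolayPt) (y : Pt22) : y ∈ down o ↔ (y : GolayPt) ∈ o :=
  Finset.mem_subtype

theorem up_down {o : Finset GolayPt} (hp : (none : GolayPt) ∈ o) (hq : (some 22 : GolayPt) ∈ o) :
    up (down o) = o := by
  ext x
  rw [mem_up]
  constructor
  · rintro (h | h | ⟨y, hy, h⟩)
    · rw [h]; exact hp
    · rw [h]; exact hq
    · rw [← h]
      exact (mem_down o y).1 hy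
  · intro hx
    by_cases h1 : x = none
    · exact Or.inl h1
    · by_cases h2 : x = some 22
      · exact Or.inr (Or.inl h2)
      · exact Or.inr (Or.inr ⟨⟨x, h1, h2⟩, (mem_down o _).2 hx, rfl⟩)

theorem down_up (b : Finset Pt22) : down (up b) = b := by
  ext y
  rw [mem_down, coe_mem_up]

theorem up_smul (h : Equiv.Perm Pt22) (b : Finset Pt22) :
    up (h • b) = (Equiv.Perm.ofSubtype h : Equiv.Perm GolayPt) • up b := by
  ext x
  rw [Finset.mem_smul_finset, mem_up]
  constructor
  · rintro (hx | hx | ⟨y, hy, hx⟩)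
    · refine ⟨none, none_mem_up b, ?_⟩
      rw [hx]
      exact Equiv.Perm.ofSubtype_apply_of_not_mem h not_pred22_none
    · refine ⟨some 22, q_mem_up b, ?_⟩
      rw [hx]
      exact Equiv.Perm.ofSubtype_apply_of_not_mem h not_pred22_q
    · rw [Finset.mem_smul_finset] at hy
      obtain ⟨y', hy', rfl⟩ := hy
      refine ⟨(y' : GolayPt), (coe_mem_up b y').2 hy', ?_⟩
      rw [← hx]
      exact Equiv.Perm.ofSubtype_apply_coe h y'
  · rintro ⟨z, hz, hzx⟩
    rw [mem_up] at hz
    rcases hz with hz | hz | ⟨y', hy', hz⟩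
    · left
      rw [← hzx, hz]
      exact Equiv.Perm.ofSubtype_apply_of_not_mem h not_pred22_none
    · right; left
      rw [← hzx, hz]
      exact Equiv.Perm.ofSubtype_apply_of_not_mem h not_pred22_q
    · right; right
      refine ⟨h y', Finset.smul_mem_smul_finset hy', ?_⟩
      rw [← hzx, ← hz]
      exact (Equiv.Perm.ofSubtype_apply_coe h y').symm

/-- the system derived from the octads at `∞` and `22` -/
def W22 : Set (Finset Pt22) := {b | up b ∈ octads}

theorem isSteinerSystem_W22 : IsSteinerSystem 3 6 W22 := by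
  refine ⟨?_, ?_⟩
  · intro b hb
    have h1 : (up b).card = 8 := hb.2
    rw [card_up] at h1
    omega
  · intro s hs
    have h5 : (up s).card = 5 := by rw [card_up, hs]
    obtain ⟨o, ⟨ho, hso⟩, huniq⟩ := isSteinerSystem_octads.2 _ h5
    have hp : (none : GolayPt) ∈ o := hso (none_mem_up s)
    have hq : (some 22 : GolayPt) ∈ o := hso (q_mem_up s)
    refine ⟨down o, ⟨?_, ?_⟩, ?_⟩
    · show up (down o) ∈ octads
      rw [up_down hp hq]
      exact ho
    · intro x hx
      rw [mem_down]
      exact hso ((coe_mem_up s x).2 hx)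
    · rintro b' ⟨hb', hsb'⟩
      have h1 : up b' = o := huniq _ ⟨hb', up_mono hsb'⟩
      rw [← h1, down_up]

/-! ### automorphisms -/

theorem mem_setSystemAut_of_forall' {α : Type*} [DecidableEq α] {B : Set (Finset α)}
    (σ : Equiv.Perm α) (h1 : ∀ b ∈ B, σ • b ∈ B) (h2 : ∀ b ∈ B, σ⁻¹ • b ∈ B) :
    σ ∈ setSystemAut B := by
  rw [MulAction.mem_stabilizer_iff]
  apply Set.Subset.antisymm
  · rintro c ⟨b, hb, rfl⟩
    exact h1 b hb
  · intro b hb
    refine ⟨σ⁻¹ • b, h2 b hb, ?_⟩
    show σ • σ⁻¹ • b = b
    rw [smul_inv_smul]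

/-- extension of permutations of the 22 points -/
def ext22 : Equiv.Perm Pt22 →* Equiv.Perm GolayPt := Equiv.Perm.ofSubtype

theorem ext22_none (h : Equiv.Perm Pt22) : ext22 h none = none :=
  Equiv.Perm.ofSubtype_apply_of_not_mem h not_pred22_none

theorem ext22_q (h : Equiv.Perm Pt22) : ext22 h (some 22) = some 22 :=
  Equiv.Perm.ofSubtype_apply_of_not_mem h not_pred22_q

theorem up_smul' (h : Equiv.Perm Pt22) (b : Finset Pt22) : up (h • b) = ext22 h • up b :=
  up_smul h b

theorem mem_M24_iff (g : Equiv.Perm GolayPt) : g ∈ M24 ↔ g • octads = octads := by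
  rw [← setSystemAut_octads, MulAction.mem_stabilizer_iff]

/-- permutations of the 22 points whose extension lies in the group of the code are
automorphisms -/
theorem mem_aut_W22_of_M24 (h : Equiv.Perm Pt22) (hE : ext22 h ∈ M24) :
    h ∈ setSystemAut W22 := by
  apply mem_setSystemAut_of_forall'
  · intro b hb
    show up (h • b) ∈ octads
    rw [up_smul']
    exact smul_mem_octads hE hb
  · intro b hb
    show up (h⁻¹ • b) ∈ octads
    rw [up_smul', map_inv]
    exact smul_mem_octads (M24.inv_mem hE) hb

/-- restriction of a permutation fixing the two points -/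
theorem pred22_iff_of_fix (g : Equiv.Perm GolayPt) (hp : g none = none)
    (hq : g (some 22) = some 22) : ∀ x, Pred22 (g x) ↔ Pred22 x := by
  intro x
  constructor
  · rintro ⟨h1, h2⟩
    refine ⟨?_, ?_⟩
    · rintro rfl
      exact h1 hp
    · rintro rfl
      exact h2 hq
  · rintro ⟨h1, h2⟩
    refine ⟨?_, ?_⟩
    · intro h
      apply h1
      apply g.injective
      rw [h, hp]
    · intro h
      apply h2
      apply g.injective
      rw [h, hq]

theorem ext22_subtypePerm (g : Equiv.Perm GolayPt) (hp : g none = none)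
    (hq : g (some 22) = some 22) :
    ext22 (g.subtypePerm (pred22_iff_of_fix g hp hq)) = g := by
  apply Equiv.Perm.ofSubtype_subtypePerm
  intro x hx
  refine ⟨?_, ?_⟩
  · rintro rfl
    exact hx hp
  · rintro rfl
    exact hx hq

/-- the extension property: the systems containing the octads through the two points -/
def ExtProp : Prop := ∀ g : Equiv.Perm GolayPt,
  (∀ o ∈ octads, (none : GolayPt) ∈ o → (some 22 : GolayPt) ∈ o → g⁻¹ • o ∈ octads) →
    g • octads = octads ∨ g • octads = swapPQ • octads

theorem aut_W22_ext (hext : ExtProp) (h : Equiv.Perm Pt22) (hh : h ∈ setSystemAut W22) :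
    ext22 h • octads = octads ∨ ext22 h • octads = swapPQ • octads := by
  apply hext
  intro o ho hp hq
  have hinv : h⁻¹ ∈ setSystemAut W22 := inv_mem hh
  have hb : down o ∈ W22 := by
    show up (down o) ∈ octads
    rw [up_down hp hq]
    exact ho
  have hb' : h⁻¹ • down o ∈ h⁻¹ • W22 := Set.smul_mem_smul_set hb
  rw [MulAction.mem_stabilizer_iff.1 hinv] at hb'
  have h3 : up (h⁻¹ • down o) ∈ octads := hb'
  rw [up_smul', up_down hp hq, map_inv] at h3
  exact h3

theorem swapPQ_mul_self : swapPQ * swapPQ = 1 := Equiv.swap_mul_self _ _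

theorem ext22_comm_swap (h : Equiv.Perm Pt22) : ext22 h * swapPQ = swapPQ * ext22 h := by
  have := Equiv.mul_swap_eq_swap_mul (ext22 h) (none : GolayPt) (some 22)
  rw [ext22_none, ext22_q] at this
  exact this

/-! ### the transposition is not in the group of the code -/

def swapTab : List ℕ :=
  [0, 1, 2, 3, 4, 5, 6, 7, 8, 9, 10, 11, 12, 13, 14, 15, 16, 17, 18, 19, 20, 21, 23, 22]

theorem tab_swapPQ_inv : tab swapPQ⁻¹ = swapTab := by decide

theorem swapPQ_smul_finOf (n : ℕ) : swapPQ • finOf n = finOf (pushMask swapTab n) := by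
  rw [smul_finOf, tab_swapPQ_inv]

theorem swapPQ_not_mem : swapPQ ∉ M24 := by
  intro h
  have ho : finOf 10170384 ∈ octads := golayBasis_octads _ (by decide)
  have ho' := smul_mem_octads h ho
  rw [swapPQ_smul_finOf] at ho'
  have hc : pushMask swapTab 10170384 = 5976080 := by decide +kernel
  rw [hc] at ho'
  have heq := octad_eq_of_card_inter ho ho' (by rw [card_inter_finOf]; decide)
  have := eq_of_finOf_eq (by norm_num) (by norm_num) heq
  exact absurd this (by decide)

theorem swapPQ_smul_of_mem {s : Finset GolayPt} (hp : (none : GolayPt) ∈ s)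
    (hq : (some 22 : GolayPt) ∈ s) : swapPQ • s = s := by
  ext x
  rw [Finset.mem_smul_finset]
  constructor
  · rintro ⟨y, hy, rfl⟩
    by_cases h1 : y = none
    · rw [h1]
      show Equiv.swap (none : GolayPt) (some 22) none ∈ s
      rw [Equiv.swap_apply_left]
      exact hq
    · by_cases h2 : y = some 22
      · rw [h2]
        show Equiv.swap (none : GolayPt) (some 22) (some 22) ∈ s
        rw [Equiv.swap_apply_right]
        exact hp
      · show Equiv.swap (none : GolayPt) (some 22) y ∈ s
        rw [Equiv.swap_apply_of_ne_of_ne h1 h2]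
        exact hy
  · intro hx
    by_cases h1 : x = none
    · refine ⟨some 22, hq, ?_⟩
      rw [h1]
      exact Equiv.swap_apply_right _ _
    · by_cases h2 : x = some 22
      · refine ⟨none, hp, ?_⟩
        rw [h2]
        exact Equiv.swap_apply_left _ _
      · exact ⟨x, hx, Equiv.swap_apply_of_ne_of_ne h1 h2⟩

theorem swapPQ_inv : swapPQ⁻¹ = swapPQ := Equiv.swap_inv _ _

/-! ### the subgroup of index two -/

/-- the automorphisms whose extension lies in the group of the code -/
def autPlus : Subgroup (setSystemAut W22) :=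
  M24.comap (ext22.comp (setSystemAut W22).subtype)

theorem mem_autPlus (h : setSystemAut W22) : h ∈ autPlus ↔ ext22 h.1 ∈ M24 := Iff.rfl

/-- the stabiliser of the two points -/
abbrev stab2 : Subgroup M24 :=
  MulAction.stabilizer M24 (none : GolayPt) ⊓ MulAction.stabilizer M24 (some 22 : GolayPt)

/-- extension of the automorphisms in `autPlus` -/
def autPlusHom : autPlus →* stab2 where
  toFun h := ⟨⟨ext22 h.1.1, h.2⟩, by
    rw [Subgroup.mem_inf, MulAction.mem_stabilizer_iff, MulAction.mem_stabilizer_iff]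
    exact ⟨ext22_none _, ext22_q _⟩⟩
  map_one' := by
    apply Subtype.ext
    apply Subtype.ext
    exact map_one ext22
  map_mul' a b := by
    apply Subtype.ext
    apply Subtype.ext
    exact map_mul ext22 a.1.1 b.1.1

theorem autPlusHom_bijective : Function.Bijective autPlusHom := by
  constructor
  · intro a b hab
    have h1 : ext22 a.1.1 = ext22 b.1.1 :=
      congrArg (fun z => (z.1.1 : Equiv.Perm GolayPt)) hab
    exact Subtype.ext (Subtype.ext (Equiv.Perm.ofSubtype_injective h1))
  · rintro ⟨⟨g, hg⟩, hfix⟩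
    rw [Subgroup.mem_inf, MulAction.mem_stabilizer_iff, MulAction.mem_stabilizer_iff] at hfix
    have hp : g none = none := hfix.1
    have hq : g (some 22) = some 22 := hfix.2
    have hE := ext22_subtypePerm g hp hq
    have hE' : ext22 (g.subtypePerm (pred22_iff_of_fix g hp hq)) ∈ M24 := by
      rw [hE]
      exact hg
    refine ⟨⟨⟨g.subtypePerm (pred22_iff_of_fix g hp hq), mem_aut_W22_of_M24 _ hE'⟩, hE'⟩, ?_⟩
    apply Subtype.ext
    apply Subtype.ext
    exact hE

/-- `autPlus` is the stabiliser of two points -/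
noncomputable def autPlusEquiv : autPlus ≃* stab2 :=
  MulEquiv.ofBijective autPlusHom autPlusHom_bijective

theorem exists_swap_in_M24 : ∃ g ∈ M24, g none = some 22 ∧ g (some 22) = none := by
  obtain ⟨σ1, h1, a1, b1⟩ := exists_M24_map_zero_one none (some 22) (by simp)
  obtain ⟨σ2, h2, a2, b2⟩ := exists_M24_map_zero_one (some 22) none (by simp)
  refine ⟨σ2 * σ1⁻¹, M24.mul_mem h2 (M24.inv_mem h1), ?_, ?_⟩
  · have : σ1⁻¹ none = pt 0 := by
      rw [← a1]
      show σ1.symm (σ1 (pt 0)) = pt 0
      rw [Equiv.symm_apply_apply]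
    rw [Equiv.Perm.mul_apply, this, a2]
  · have : σ1⁻¹ (some 22) = pt 1 := by
      rw [← b1]
      show σ1.symm (σ1 (pt 1)) = pt 1
      rw [Equiv.symm_apply_apply]
    rw [Equiv.Perm.mul_apply, this, b2]

theorem mem_aut_W22_of_octads (h : Equiv.Perm Pt22)
    (H1 : ∀ o ∈ octads, (none : GolayPt) ∈ o → (some 22 : GolayPt) ∈ o → ext22 h • o ∈ octads)
    (H2 : ∀ o ∈ octads, (none : GolayPt) ∈ o → (some 22 : GolayPt) ∈ o →
      (ext22 h)⁻¹ • o ∈ octads) : h ∈ setSystemAut W22 := by
  apply mem_setSystemAut_of_forall'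
  · intro b hb
    show up (h • b) ∈ octads
    rw [up_smul']
    exact H1 _ hb (none_mem_up b) (q_mem_up b)
  · intro b hb
    show up (h⁻¹ • b) ∈ octads
    rw [up_smul', map_inv]
    exact H2 _ hb (none_mem_up b) (q_mem_up b)

theorem exists_not_mem_autPlus : ∃ a : setSystemAut W22, a ∉ autPlus := by
  obtain ⟨g0, hg0, hp0, hq0⟩ := exists_swap_in_M24
  have hp : (swapPQ * g0) none = none := by
    rw [Equiv.Perm.mul_apply, hp0]
    exact Equiv.swap_apply_right _ _
  have hq : (swapPQ * g0) (some 22) = some 22 := by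
    rw [Equiv.Perm.mul_apply, hq0]
    exact Equiv.swap_apply_left _ _
  have hE := ext22_subtypePerm (swapPQ * g0) hp hq
  have hmem : (swapPQ * g0).subtypePerm (pred22_iff_of_fix _ hp hq) ∈ setSystemAut W22 := by
    apply mem_aut_W22_of_octads
    · intro o ho hpo hqo
      rw [hE, mul_smul]
      have h1 : g0 • o ∈ octads := smul_mem_octads hg0 ho
      rw [swapPQ_smul_of_mem]
      · exact h1
      · rw [← hq0]
        exact Finset.smul_mem_smul_finset hqo
      · rw [← hp0]
        exact Finset.smul_mem_smul_finset hpo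
    · intro o ho hpo hqo
      rw [hE, mul_inv_rev, mul_smul, swapPQ_inv, swapPQ_smul_of_mem hpo hqo]
      exact smul_mem_octads (M24.inv_mem hg0) ho
  refine ⟨⟨_, hmem⟩, ?_⟩
  intro hcon
  rw [mem_autPlus] at hcon
  have hcon' : swapPQ * g0 ∈ M24 := by
    rw [← hE]
    exact hcon
  apply swapPQ_not_mem
  have := M24.mul_mem hcon' (M24.inv_mem hg0)
  rwa [mul_inv_cancel_right] at this

theorem index_autPlus (hext : ExtProp) : autPlus.index = 2 := by
  obtain ⟨a, ha⟩ := exists_not_mem_autPlus
  rw [Subgroup.index_eq_two_iff]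
  refine ⟨a, fun b => ?_⟩
  have key : ∀ c : setSystemAut W22, c ∉ autPlus → ext22 c.1 • octads = swapPQ • octads := by
    intro c hc
    rcases aut_W22_ext hext c.1 c.2 with h | h
    · exact absurd ((mem_autPlus c).2 ((mem_M24_iff _).2 h)) hc
    · exact h
  by_cases hb : b ∈ autPlus
  · right
    refine ⟨hb, fun hba => ha ?_⟩
    have := autPlus.mul_mem (autPlus.inv_mem hb) hba
    rwa [inv_mul_cancel_left] at this
  · left
    refine ⟨?_, hb⟩
    rw [mem_autPlus, mem_M24_iff]
    show ext22 (b.1 * a.1) • octads = octads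
    rw [map_mul, mul_smul, key a ha, ← mul_smul, ext22_comm_swap, mul_smul, key b hb, ← mul_smul,
      swapPQ_mul_self, one_smul]

theorem card_aut_W22 (hext : ExtProp) (hcard : Nat.card stab2 = 443520) :
    Nat.card (setSystemAut W22) = 887040 := by
  have h := Subgroup.index_mul_card autPlus
  rw [index_autPlus hext, Nat.card_congr autPlusEquiv.toEquiv, hcard] at h
  omega

theorem w22_three_trans (h5 : MulAction.IsMultiplyPretransitive M24 GolayPt 5) :
    MulAction.IsMultiplyPretransitive (setSystemAut W22) Pt22 3 := by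
  rw [MulAction.isMultiplyPretransitive_iff] at h5 ⊢
  intro x y
  have hx1 : (none : GolayPt) ∉ Set.range (x.trans (Function.Embedding.subtype Pred22)) := by
    rintro ⟨i, hi⟩
    exact (x i).2.1 hi
  have hy1 : (none : GolayPt) ∉ Set.range (y.trans (Function.Embedding.subtype Pred22)) := by
    rintro ⟨i, hi⟩
    exact (y i).2.1 hi
  have hx2 : (some 22 : GolayPt) ∉ Set.range (Fin.Embedding.snoc _ hx1) := by
    rintro ⟨i, hi⟩
    induction i using Fin.lastCases with
    | last =>
      rw [Fin.Embedding.snoc_last] at hi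
      exact absurd hi (by simp)
    | cast j =>
      rw [Fin.Embedding.snoc_castSucc] at hi
      exact (x j).2.2 hi
  have hy2 : (some 22 : GolayPt) ∉ Set.range (Fin.Embedding.snoc _ hy1) := by
    rintro ⟨i, hi⟩
    induction i using Fin.lastCases with
    | last =>
      rw [Fin.Embedding.snoc_last] at hi
      exact absurd hi (by simp)
    | cast j =>
      rw [Fin.Embedding.snoc_castSucc] at hi
      exact (y j).2.2 hi
  obtain ⟨g, hg⟩ := h5 (Fin.Embedding.snoc _ hx2) (Fin.Embedding.snoc _ hy2)
  have hq : g.1 (some 22) = some 22 := by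
    have h1 := DFunLike.congr_fun hg (Fin.last 4)
    rw [Function.Embedding.smul_apply, Fin.Embedding.snoc_last, Fin.Embedding.snoc_last] at h1
    exact h1
  have hp : g.1 none = none := by
    have h1 := DFunLike.congr_fun hg (Fin.last 3).castSucc
    rw [Function.Embedding.smul_apply, Fin.Embedding.snoc_castSucc, Fin.Embedding.snoc_castSucc,
      Fin.Embedding.snoc_last, Fin.Embedding.snoc_last] at h1
    exact h1
  have hE := ext22_subtypePerm g.1 hp hq
  have hE' : ext22 (g.1.subtypePerm (pred22_iff_of_fix g.1 hp hq)) ∈ M24 := by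
    rw [hE]
    exact g.2
  refine ⟨⟨g.1.subtypePerm (pred22_iff_of_fix g.1 hp hq), mem_aut_W22_of_M24 _ hE'⟩, ?_⟩
  apply DFunLike.ext
  intro i
  have h1 := DFunLike.congr_fun hg i.castSucc.castSucc
  rw [Function.Embedding.smul_apply, Fin.Embedding.snoc_castSucc, Fin.Embedding.snoc_castSucc,
    Fin.Embedding.snoc_castSucc, Fin.Embedding.snoc_castSucc] at h1
  have h2 : g.1 (x i : GolayPt) = (y i : GolayPt) := h1
  rw [Function.Embedding.smul_apply]
  apply Subtype.ext
  exact h2

end Cfsg.Agent.Lib.Helper7
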