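import Cfsg.Agent.Lib.Helper7.Ext22C0
import Cfsg.Agent.Lib.Helper7.W22Basic
import Cfsg.Agent.Lib.Helper7.SteinerUniq

set_option autoImplicit false
set_option maxRecDepth 100000

namespace Cfsg.Agent.Lib.Helper7

open Cfsg
open scoped Pointwise

theorem steinerOn_octads24 : SteinerOn 16777215 5 8 octads := by
  refine ⟨fun b hb => ⟨by rw [finOf_full]; exact Finset.subset_univ _, hb.2⟩, ?_⟩
  intro s _ hs
  exact isSteinerSystem_octads.2 s hs

/-- all octads are in the list -/
def octCheck24 (l : List ℕ) : Bool :=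
  (List.range 4096).all fun i => !(Nat.beq (popc (encode i)) 8) || l.contains (encode i)

theorem octads_listed_of_check24 (l : List ℕ) (hl : octCheck24 l = true) :
    ∀ b ∈ octads, ∃ c ∈ l, finOf c = b := by
  intro b hb
  obtain ⟨i, hi, rfl⟩ := (mem_supports_golayCode_iff b).1 hb.1
  have hpop : popc (encode i) = 8 := by rw [← card_finOf]; exact hb.2
  refine ⟨encode i, ?_, rfl⟩
  rw [octCheck24, List.all_eq_true] at hl
  have h1 := hl i (List.mem_range.2 hi)
  have h2 : Nat.beq (popc (encode i)) 8 = true := by rw [hpop]; rfl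
  rw [Bool.or_eq_true] at h1
  rcases h1 with h1 | h1
  · rw [h2] at h1
    exact absurd h1 (by decide)
  · exact List.contains_iff_mem.1 h1

theorem ext22B0l_check : octCheck24 ext22B0l = true := by decide +kernel

theorem ext22B0l_listed : ∀ b ∈ octads, ∃ c ∈ ext22B0l, finOf c = b :=
  octads_listed_of_check24 ext22B0l ext22B0l_check

theorem ext22B1l_check :
    ext22B0l.all (fun c => ext22B1l.contains (pushMask swapTab c)) = true := by decide +kernel

theorem ext22B1l_listed : ∀ b ∈ swapPQ • octads, ∃ c ∈ ext22B1l, finOf c = b := by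
  rintro b ⟨o, ho, rfl⟩
  obtain ⟨c, hc, rfl⟩ := ext22B0l_listed o ho
  refine ⟨pushMask swapTab c, ?_, ?_⟩
  · have h := ext22B1l_check
    rw [List.all_eq_true] at h
    exact List.contains_iff_mem.1 (h c hc)
  · exact (swapPQ_smul_finOf c).symm

theorem smul_univ24 (g : Equiv.Perm GolayPt) : g • finOf 16777215 = finOf 16777215 := by
  rw [finOf_full]
  exact Finset.smul_finset_univ

theorem ext22L0_spec : ∀ m ∈ ext22L0,
    finOf m ∈ octads ∧ (none : GolayPt) ∈ finOf m ∧ (some 22 : GolayPt) ∈ finOf m := by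
  have hall : ext22L0.all (fun m => Nat.beq (encode (m % 4096)) m && Nat.beq (popc m) 8 &&
      m.testBit 23 && m.testBit 22) = true := by decide +kernel
  intro m hm
  rw [List.all_eq_true] at hall
  have h0 := hall m hm
  simp only [Bool.and_eq_true] at h0
  obtain ⟨⟨⟨h1, h2⟩, h3⟩, h4⟩ := h0
  have h1' := Nat.eq_of_beq_eq_true h1
  have h2' := Nat.eq_of_beq_eq_true h2
  refine ⟨⟨⟨wordOf m, ?_, support₂_wordOf m⟩, by rw [card_finOf, h2']⟩, ?_, ?_⟩
  · rw [← h1']
    exact wordOf_encode_mem _
  · rw [mem_finOf]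
    exact h3
  · rw [mem_finOf]
    exact h4

theorem extProp : ExtProp := by
  intro g hg
  have h0 : GoodQ 16777215 5 8 (fun B => B = octads ∨ B = swapPQ • octads) ext22B0l :=
    goodQ_of_listed (Or.inl rfl) (by norm_num) steinerOn_octads24 ext22B0l_listed
  have h1 : GoodQ 16777215 5 8 (fun B => B = octads ∨ B = swapPQ • octads) ext22B1l :=
    goodQ_of_listed (Or.inr rfl) (by norm_num)
      (steinerOn_octads24.smul swapPQ (smul_univ24 _)) ext22B1l_listed
  apply ext22_good0 _ h0 h1 (g • octads)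
  · exact steinerOn_octads24.smul g (smul_univ24 _)
  · intro m hm
    obtain ⟨h1, h2, h3⟩ := ext22L0_spec m hm
    refine ⟨g⁻¹ • finOf m, hg _ h1 h2 h3, ?_⟩
    show g • g⁻¹ • finOf m = finOf m
    rw [smul_inv_smul]

end Cfsg.Agent.Lib.Helper7
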