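import Cfsg.Agent.Lib.Helper7.Ext23C0
import Cfsg.Agent.Lib.Helper7.AutOctads
import Cfsg.Agent.Lib.Helper7.AutTransport
import Cfsg.Agent.Lib.Helper7.SteinerUniq

set_option autoImplicit false
set_option maxRecDepth 100000

namespace Cfsg.Agent.Lib.Helper7

open Cfsg
open scoped Pointwise

theorem steinerOn_octads : SteinerOn 16777215 5 8 octads := by
  refine ⟨fun b hb => ⟨by rw [finOf_full]; exact Finset.subset_univ _, hb.2⟩, ?_⟩
  intro s _ hs
  exact isSteinerSystem_octads.2 s hs

/-- all octads are in the list -/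
def octCheck (l : List ℕ) : Bool :=
  (List.range 4096).all fun i => !(Nat.beq (popc (encode i)) 8) || l.contains (encode i)

theorem octads_listed_of_check (l : List ℕ) (hl : octCheck l = true) :
    ∀ b ∈ octads, ∃ c ∈ l, finOf c = b := by
  intro b hb
  obtain ⟨i, hi, rfl⟩ := (mem_supports_golayCode_iff b).1 hb.1
  have hpop : popc (encode i) = 8 := by rw [← card_finOf]; exact hb.2
  refine ⟨encode i, ?_, rfl⟩
  rw [octCheck, List.all_eq_true] at hl
  have h1 := hl i (List.mem_range.2 hi)
  have h2 : Nat.beq (popc (encode i)) 8 = true := by rw [hpop]; rfl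
  rw [Bool.or_eq_true] at h1
  rcases h1 with h1 | h1
  · rw [h2] at h1
    exact absurd h1 (by decide)
  · exact List.contains_iff_mem.1 h1

theorem ext23B0l_check : octCheck ext23B0l = true := by decide +kernel

theorem octads_listed : ∀ b ∈ octads, ∃ c ∈ ext23B0l, finOf c = b :=
  octads_listed_of_check ext23B0l ext23B0l_check

theorem ext23L0_spec : ∀ m ∈ ext23L0, finOf m ∈ octads ∧ (none : GolayPt) ∈ finOf m := by
  have hall : ext23L0.all (fun m => Nat.beq (encode (m % 4096)) m && Nat.beq (popc m) 8 &&
      m.testBit 23) = true := by decide +kernel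
  intro m hm
  rw [List.all_eq_true] at hall
  have h0 := hall m hm
  simp only [Bool.and_eq_true] at h0
  obtain ⟨⟨h1, h2⟩, h3⟩ := h0
  have h1' := Nat.eq_of_beq_eq_true h1
  have h2' := Nat.eq_of_beq_eq_true h2
  refine ⟨⟨⟨wordOf m, ?_, support₂_wordOf m⟩, by rw [card_finOf, h2']⟩, ?_⟩
  · rw [← h1']
    exact wordOf_encode_mem _
  · rw [mem_finOf]
    exact h3

theorem ext23_good : GoodQ 16777215 5 8 (fun B => B = octads) ext23L0 :=
  ext23_good0 (fun B => B = octads)
    (goodQ_of_listed rfl (by norm_num) steinerOn_octads octads_listed)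

/-- a permutation whose inverse maps the octads through `∞` to octads preserves the octads -/
theorem smul_octads_eq_of_inv (g : Equiv.Perm GolayPt)
    (h : ∀ o ∈ octads, (none : GolayPt) ∈ o → g⁻¹ • o ∈ octads) : g • octads = octads := by
  apply ext23_good (g • octads)
  · apply steinerOn_octads.smul g
    rw [finOf_full]
    exact Finset.smul_finset_univ
  · intro m hm
    obtain ⟨h1, h2⟩ := ext23L0_spec m hm
    refine ⟨g⁻¹ • finOf m, h _ h1 h2, ?_⟩
    show g • g⁻¹ • finOf m = finOf m
    rw [smul_inv_smul]

/-- the system derived from the octads at `∞` -/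
def W23 : Set (Finset (ZMod 23)) := {b | Finset.insertNone b ∈ octads}

theorem insertNone_smul (h : Equiv.Perm (ZMod 23)) (b : Finset (ZMod 23)) :
    Finset.insertNone (h • b) =
      (Equiv.optionCongr h : Equiv.Perm GolayPt) • Finset.insertNone b := by
  ext x
  rw [Finset.mem_smul_finset]
  cases x with
  | none =>
    constructor
    · intro _
      exact ⟨none, Finset.none_mem_insertNone, rfl⟩
    · intro _
      exact Finset.none_mem_insertNone
  | some x =>
    rw [Finset.some_mem_insertNone, Finset.mem_smul_finset]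
    constructor
    · rintro ⟨y, hy, rfl⟩
      exact ⟨some y, Finset.some_mem_insertNone.2 hy, rfl⟩
    · rintro ⟨z, hz, hzx⟩
      cases z with
      | none => exact absurd hzx (by simp [Equiv.Perm.smul_def])
      | some y =>
        refine ⟨y, Finset.some_mem_insertNone.1 hz, ?_⟩
        have : some (h y) = some x := hzx
        exact Option.some_injective _ this

theorem isSteinerSystem_W23 : IsSteinerSystem 4 7 W23 := by
  refine ⟨?_, ?_⟩
  · intro b hb
    have h1 : (Finset.insertNone b).card = 8 := hb.2
    rw [Finset.card_insertNone] at h1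
    omega
  · intro s hs
    have h5 : (Finset.insertNone s).card = 5 := by rw [Finset.card_insertNone, hs]
    obtain ⟨o, ⟨ho, hso⟩, huniq⟩ := isSteinerSystem_octads.2 _ h5
    have hnone : (none : GolayPt) ∈ o := hso Finset.none_mem_insertNone
    have hins : Finset.insertNone (Finset.eraseNone o) = o := by
      rw [Finset.insertNone_eraseNone, Finset.insert_eq_of_mem hnone]
    refine ⟨Finset.eraseNone o, ⟨?_, ?_⟩, ?_⟩
    · show Finset.insertNone (Finset.eraseNone o) ∈ octads
      rw [hins]
      exact ho
    · intro x hx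
      rw [Finset.mem_eraseNone]
      exact hso (Finset.some_mem_insertNone.2 hx)
    · rintro b' ⟨hb', hsb'⟩
      have h1 : Finset.insertNone b' = o :=
        huniq _ ⟨hb', Finset.insertNone.monotone hsb'⟩
      rw [← h1, Finset.eraseNone_insertNone]

theorem mem_setSystemAut_of_forall {α : Type*} [DecidableEq α] {B : Set (Finset α)}
    (σ : Equiv.Perm α) (h1 : ∀ b ∈ B, σ • b ∈ B) (h2 : ∀ b ∈ B, σ⁻¹ • b ∈ B) :
    σ ∈ setSystemAut B := by
  rw [MulAction.mem_stabilizer_iff]
  apply Set.Subset.antisymm
  · rintro c ⟨b, hb, rfl⟩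
    exact h1 b hb
  · intro b hb
    refine ⟨σ⁻¹ • b, h2 b hb, ?_⟩
    show σ • σ⁻¹ • b = b
    rw [smul_inv_smul]

theorem optionCongr_inv' (h : Equiv.Perm (ZMod 23)) :
    (Equiv.optionCongr h⁻¹ : Equiv.Perm GolayPt) = (Equiv.optionCongr h : Equiv.Perm GolayPt)⁻¹ :=
  Equiv.optionCongr_symm h

theorem optionCongr_mem_M24 (h : Equiv.Perm (ZMod 23)) (hh : h ∈ setSystemAut W23) :
    (Equiv.optionCongr h : Equiv.Perm GolayPt) ∈ M24 := by
  rw [← setSystemAut_octads, MulAction.mem_stabilizer_iff]
  apply smul_octads_eq_of_inv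
  intro o ho hnone
  have hinv : h⁻¹ ∈ setSystemAut W23 := inv_mem hh
  have hins : Finset.insertNone (Finset.eraseNone o) = o := by
    rw [Finset.insertNone_eraseNone, Finset.insert_eq_of_mem hnone]
  have hb : Finset.eraseNone o ∈ W23 := by
    show Finset.insertNone (Finset.eraseNone o) ∈ octads
    rw [hins]
    exact ho
  have hb' : h⁻¹ • Finset.eraseNone o ∈ h⁻¹ • W23 := Set.smul_mem_smul_set hb
  rw [MulAction.mem_stabilizer_iff.1 hinv] at hb'
  have h3 : Finset.insertNone (h⁻¹ • Finset.eraseNone o) ∈ octads := hb'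
  rw [insertNone_smul, hins, optionCongr_inv'] at h3
  exact h3

theorem removeNone_mem {g : Equiv.Perm GolayPt} (hg : g ∈ M24)
    (hcong : (Equiv.optionCongr (Equiv.removeNone g) : Equiv.Perm GolayPt) = g) :
    (Equiv.removeNone g : Equiv.Perm (ZMod 23)) ∈ setSystemAut W23 := by
  apply mem_setSystemAut_of_forall
  · intro b hb
    show Finset.insertNone ((Equiv.removeNone g : Equiv.Perm (ZMod 23)) • b) ∈ octads
    rw [insertNone_smul, hcong]
    exact smul_mem_octads hg hb
  · intro b hb
    show Finset.insertNone ((Equiv.removeNone g : Equiv.Perm (ZMod 23))⁻¹ • b) ∈ octads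
    rw [insertNone_smul, optionCongr_inv', hcong]
    exact smul_mem_octads (M24.inv_mem hg) hb

theorem optionCongr_removeNone (g : Equiv.Perm GolayPt) (hg : g none = none) :
    (Equiv.optionCongr (Equiv.removeNone g) : Equiv.Perm GolayPt) = g := by
  apply Equiv.ext
  intro x
  cases x with
  | none =>
    rw [hg]
    rfl
  | some x =>
    have hx : ∃ x', g (some x) = some x' := by
      cases h : g (some x) with
      | none =>
        have := g.injective (h.trans hg.symm)
        exact absurd this (by simp)
      | some y => exact ⟨y, rfl⟩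
    rw [← Equiv.removeNone_some g hx]
    rfl

/-- the automorphisms of the derived system extend to the stabiliser of `∞` -/
def w23Hom : setSystemAut W23 →* MulAction.stabilizer M24 (none : GolayPt) where
  toFun h := ⟨⟨Equiv.optionCongr h.1, optionCongr_mem_M24 h.1 h.2⟩, by
    rw [MulAction.mem_stabilizer_iff]
    rfl⟩
  map_one' := by
    apply Subtype.ext
    apply Subtype.ext
    exact Equiv.optionCongr_one
  map_mul' a b := by
    apply Subtype.ext
    apply Subtype.ext
    show (Equiv.optionCongr (a.1 * b.1) : Equiv.Perm GolayPt) =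
      Equiv.optionCongr a.1 * Equiv.optionCongr b.1
    apply Equiv.ext
    intro x
    cases x <;> rfl

theorem w23Hom_bijective : Function.Bijective w23Hom := by
  constructor
  · intro a b hab
    have h1 : (Equiv.optionCongr a.1 : Equiv.Perm GolayPt) = Equiv.optionCongr b.1 :=
      congrArg (fun z => (z.1.1 : Equiv.Perm GolayPt)) hab
    exact Subtype.ext (Equiv.optionCongr_injective h1)
  · rintro ⟨⟨g, hg⟩, hfix⟩
    have hfix' : g none = none := by
      have := MulAction.mem_stabilizer_iff.1 hfix
      exact this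
    have hcong := optionCongr_removeNone g hfix'
    refine ⟨⟨Equiv.removeNone g, removeNone_mem hg hcong⟩, ?_⟩
    apply Subtype.ext
    apply Subtype.ext
    exact hcong

/-- the automorphism group of the derived system is the stabiliser of `∞` -/
noncomputable def w23Equiv : setSystemAut W23 ≃* MulAction.stabilizer M24 (none : GolayPt) :=
  MulEquiv.ofBijective w23Hom w23Hom_bijective

theorem w23_four_trans (h5 : MulAction.IsMultiplyPretransitive M24 GolayPt 5) :
    MulAction.IsMultiplyPretransitive (setSystemAut W23) (ZMod 23) 4 := by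
  rw [MulAction.isMultiplyPretransitive_iff] at h5 ⊢
  intro x y
  have hx : (none : GolayPt) ∉ Set.range (x.trans (Function.Embedding.some : ZMod 23 ↪ GolayPt)) := by
    rintro ⟨i, hi⟩
    simp at hi
  have hy : (none : GolayPt) ∉ Set.range (y.trans (Function.Embedding.some : ZMod 23 ↪ GolayPt)) := by
    rintro ⟨i, hi⟩
    simp at hi
  obtain ⟨g, hg⟩ := h5 (Fin.Embedding.snoc _ hx) (Fin.Embedding.snoc _ hy)
  have hfix : g.1 none = none := by
    have h1 := DFunLike.congr_fun hg (Fin.last 4)
    rw [Function.Embedding.smul_apply, Fin.Embedding.snoc_last, Fin.Embedding.snoc_last] at h1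
    exact h1
  have hcong := optionCongr_removeNone g.1 hfix
  refine ⟨⟨Equiv.removeNone g.1, removeNone_mem g.2 hcong⟩, ?_⟩
  ext i
  have h1 := DFunLike.congr_fun hg i.castSucc
  rw [Function.Embedding.smul_apply, Fin.Embedding.snoc_castSucc, Fin.Embedding.snoc_castSucc] at h1
  have h2 : g.1 (some (x i)) = some (y i) := h1
  rw [Function.Embedding.smul_apply]
  show (Equiv.removeNone g.1) (x i) = y i
  apply Option.some_injective
  rw [Equiv.removeNone_some g.1 ⟨y i, h2⟩, h2]

end Cfsg.Agent.Lib.Helper7
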